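import Cfsg.Agent.H965.ASCyc

/-!
# The final criterion for `AS2` (helper965)

`AS2.of_lt` : `y` a solvably unique element of order `p ^ a`, `p ≥ 5`, the full `p`-part of `|S|`, automorphisms of
`p`-power order inner, `c ≥ |C_S(z)|`, `z = y ^ p ^ (a - 1)`, `b ≤` the index of all proper subgroups:
`2 c < p ^ a b` implies `AS2 S`.
-/

set_option autoImplicit false
set_option linter.unusedSectionVars false

namespace Cfsg.Agent.H965.AS

open Cfsg Subgroup Cfsg.Agent.H465.SU Cfsg.Agent.H465.Red Cfsg.Agent.H965.SU Cfsg.Agent.OddOrderLocal.CyclicSub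

universe u

theorem int_aux {p a n : ℕ} (hp : p.Prime) {k : ℤ} (h3 : (p : ℤ) ∣ k - 1) (hn : ¬ p ∣ n)
    (h2 : (p ^ a : ℤ) ∣ k ^ n - 1) : (p ^ a : ℤ) ∣ k - 1 := by
  have e : k ^ n - 1 = (∑ i ∈ Finset.range n, k ^ i) * (k - 1) := (geom_sum_mul k n).symm
  rw [e] at h2
  refine IsCoprime.dvd_of_dvd_mul_left ?_ h2
  apply IsCoprime.pow_left
  rw [Int.isCoprime_iff_gcd_eq_one]
  have h5 : (p : ℤ) ∣ (∑ i ∈ Finset.range n, k ^ i) - n := by
    have e2 : ((n : ℕ) : ℤ) = ∑ i ∈ Finset.range n, (1 : ℤ) ^ i := by simp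
    rw [e2, ← Finset.sum_sub_distrib]
    refine Finset.dvd_sum fun i _ => ?_
    exact h3.trans (sub_dvd_pow_sub_pow k 1 i)
  have h6 : ¬ (p : ℤ) ∣ ∑ i ∈ Finset.range n, k ^ i := by
    intro h7
    have h8 : (p : ℤ) ∣ n := (dvd_sub_right h7).1 h5
    exact hn (by exact_mod_cast h8)
  have h7 := (Nat.Prime.coprime_iff_not_dvd hp (n := (∑ i ∈ Finset.range n, k ^ i).natAbs)).2
    (fun h8 => h6 (Int.natCast_dvd.2 h8))
  rw [Int.gcd, Int.natAbs_natCast]
  exact h7

/-- a central element of order `p` and cyclic `p`-subgroups: a normal `p`-complement -/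
theorem exists_compl {Γ : Type*} [Group Γ] [Finite Γ] {p : ℕ} (hp : p.Prime)
    (hc : ∀ P : Subgroup Γ, IsPGroup p P → IsCyclic P) {z : Γ} (hz : orderOf z = p) (hzc : ∀ g, g * z = z * g) :
    ∃ K : Subgroup Γ, K.Normal ∧ ¬ p ∣ Nat.card K ∧ ∃ k, K.index = p ^ k := by
  have hpf : Fact p.Prime := ⟨hp⟩
  obtain ⟨P⟩ : Nonempty (Sylow p Γ) := inferInstance
  have hPN : normalizer ((P : Subgroup Γ) : Set Γ) ≤ centralizer ((P : Subgroup Γ) : Set Γ) := by
    intro g hg
    -- `z ∈ P`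
    have hzP : z ∈ (P : Subgroup Γ) := by
      obtain ⟨Q, hQ⟩ := (IsPGroup.of_card (p := p) (n := 1) (G := zpowers z) (by
        rw [Nat.card_zpowers, hz, pow_one])).exists_le_sylow
      obtain ⟨c, hcQ⟩ := MulAction.exists_smul_eq Γ Q P
      rw [← hcQ]
      have h1 : z ∈ (Q : Subgroup Γ) := hQ (mem_zpowers z)
      refine ⟨z, h1, ?_⟩
      show c * z * c⁻¹ = z
      rw [hzc, mul_inv_cancel_right]
    have hcyc := hc _ P.isPGroup'
    obtain ⟨w, hw⟩ := IsCyclic.exists_generator (α := (P : Subgroup Γ))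
    have hPw : (P : Subgroup Γ) = zpowers (w : Γ) := by
      apply le_antisymm
      · intro v hv
        obtain ⟨i, hi⟩ := mem_zpowers_iff.1 (hw ⟨v, hv⟩)
        exact mem_zpowers_iff.2 ⟨i, congrArg Subtype.val hi⟩
      · exact zpowers_le.2 w.2
    obtain ⟨k, hk⟩ := (IsPGroup.iff_orderOf (p := p)).1 P.isPGroup' w
    have hk' : orderOf (w : Γ) = p ^ k := by rw [orderOf_coe, hk]
    have hk1 : 1 ≤ k := by
      rcases Nat.eq_zero_or_pos k with h | h
      · exfalso
        rw [h, pow_zero, orderOf_eq_one_iff] at hk'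
        rw [hPw, hk', zpowers_one_eq_bot, mem_bot] at hzP
        rw [hzP, orderOf_one] at hz
        exact hp.one_lt.ne hz
      · exact h
    -- `w ^ p ^ (k-1)` is a power of `z`
    have hsoc : (w : Γ) ^ p ^ (k - 1) ∈ zpowers z := by
      have h1 : zpowers ((w : Γ) ^ p ^ (k - 1)) = zpowers z := by
        refine eq_of_card_eq_of_le_cyclic (Z := zpowers (w : Γ)) inferInstance
          (zpowers_le.2 (npow_mem_zpowers _ _)) ?_ ?_
        · rw [zpowers_le, ← hPw]; exact hzP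
        · rw [card_socle hk' hk1, Nat.card_zpowers, hz]
      rw [← h1]
      exact mem_zpowers _
    have hgw : g * (w : Γ) * g⁻¹ ∈ zpowers (w : Γ) := by
      rw [← hPw]
      exact (mem_normalizer_iff.1 hg _).1 w.2
    obtain ⟨r, hr⟩ := mem_zpowers_iff.1 hgw
    have hpow : ∀ n : ℕ, g ^ n * (w : Γ) * (g ^ n)⁻¹ = (w : Γ) ^ (r ^ n) := by
      intro n
      induction n with
      | zero => simp
      | succ n ih =>
        have : g ^ (n + 1) * (w : Γ) * (g ^ (n + 1))⁻¹ = g ^ n * (g * w * g⁻¹) * (g ^ n)⁻¹ := by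
          rw [pow_succ]; group
        rw [this, ← hr]
        have h1 : g ^ n * (w : Γ) ^ r * (g ^ n)⁻¹ = (g ^ n * (w : Γ) * (g ^ n)⁻¹) ^ r := by
          rw [conj_zpow]
        rw [h1, ih, ← zpow_mul, pow_succ]
    -- the `p`-part of `g` lies in `P`
    obtain ⟨m, hm, hmP⟩ : ∃ m : ℕ, ¬ p ∣ m ∧ g ^ m ∈ (P : Subgroup Γ) := by
      obtain ⟨j, m, hm, hjm⟩ := Nat.exists_eq_pow_mul_and_not_dvd (orderOf_pos g).ne' p hp.ne_one
      refine ⟨m, hm, ?_⟩
      have h1 : IsPGroup p (zpowers (g ^ m)) := by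
        refine IsPGroup.of_card (n := j) ?_
        rw [Nat.card_zpowers, orderOf_pow, hjm, Nat.gcd_eq_right (dvd_mul_left m _), Nat.mul_div_cancel]
        exact Nat.pos_of_ne_zero fun h => hm (h ▸ dvd_zero p)
      have h2 := h1.inf_normalizer_sylow P
      have h3 : g ^ m ∈ zpowers (g ^ m) ⊓ normalizer ((P : Subgroup Γ) : Set Γ) :=
        ⟨mem_zpowers _, pow_mem hg m⟩
      have h4 : g ^ m ∈ zpowers (g ^ m) ⊓ (P : Subgroup Γ) := by
        rw [← h2]; exact h3
      exact h4.2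
    have h1 : (p ^ k : ℤ) ∣ r ^ m - 1 := by
      have h2 : g ^ m * (w : Γ) * (g ^ m)⁻¹ = w := by
        rw [hPw] at hmP
        obtain ⟨i, hi⟩ := mem_zpowers_iff.1 hmP
        rw [← hi, ← zpow_add_one, ← zpow_neg, ← zpow_add]
        have : i + 1 + -i = 1 := by ring
        rw [this, zpow_one]
      rw [hpow] at h2
      have h3 : (w : Γ) ^ (r ^ m - 1) = 1 := by rw [zpow_sub_one, h2, mul_inv_cancel]
      have h4 := orderOf_dvd_iff_zpow_eq_one.2 h3
      rw [hk'] at h4
      exact_mod_cast h4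
    have h2 : (p : ℤ) ∣ r - 1 := by
      have h3 : g * (w : Γ) ^ p ^ (k - 1) * g⁻¹ = (w : Γ) ^ p ^ (k - 1) := by
        obtain ⟨i, hi⟩ := mem_zpowers_iff.1 hsoc
        have h4 : Commute g z := hzc g
        rw [← hi, (h4.zpow_right i).eq, mul_inv_cancel_right]
      have h4 : (w : Γ) ^ ((p ^ (k - 1) : ℕ) * (r - 1) : ℤ) = 1 := by
        have e : ((p ^ (k - 1) : ℕ) * (r - 1) : ℤ) = r * (p ^ (k - 1) : ℕ) - (p ^ (k - 1) : ℕ) := by ring
        rw [e, zpow_sub, zpow_mul, zpow_natCast, hr, zpow_natCast, conj_pow, h3, mul_inv_cancel]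
      have h5 := orderOf_dvd_iff_zpow_eq_one.2 h4
      rw [hk'] at h5
      have h6 : ((p ^ (k - 1) : ℕ) * (p : ℤ)) ∣ ((p ^ (k - 1) : ℕ) * (r - 1) : ℤ) := by
        have e : ((p ^ (k - 1) : ℕ) * (p : ℤ)) = ((p ^ k : ℕ) : ℤ) := by
          have : p ^ k = p ^ (k - 1) * p := by rw [← pow_succ]; congr 1; omega
          rw [this]; push_cast; ring
        rw [e]
        exact h5
      have h7 : ((p ^ (k - 1) : ℕ) : ℤ) ≠ 0 := by
        have := pow_pos hp.pos (k - 1)
        exact_mod_cast this.ne'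
      exact Int.dvd_of_mul_dvd_mul_left h7 h6
    have h3 := int_aux hp h2 hm h1
    have h4 : (w : Γ) ^ (r - 1) = 1 := by
      rw [← orderOf_dvd_iff_zpow_eq_one, hk']
      exact_mod_cast h3
    rw [zpow_sub_one, mul_inv_eq_one, hr] at h4
    rw [mem_centralizer_iff]
    intro v hv
    have hv' : v ∈ zpowers (w : Γ) := by rw [← hPw]; exact hv
    obtain ⟨i, rfl⟩ := mem_zpowers_iff.1 hv'
    have h5 : Commute g (w : Γ) := mul_inv_eq_iff_eq_mul.1 h4
    exact ((h5.zpow_right i).eq).symm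
  refine ⟨(MonoidHom.transferSylow P hPN).ker, inferInstance, MonoidHom.not_dvd_card_ker_transferSylow P hPN, ?_⟩
  obtain ⟨k, hk⟩ := (IsPGroup.iff_card (p := p)).1 P.isPGroup'
  refine ⟨k, ?_⟩
  rw [← hk]
  exact (MonoidHom.ker_transferSylow_isComplement' P hPN).symm.index_eq_card

variable {S : Type u} [Group S] [Finite S]

/-- the fibres of `g ↦ x ^ g` -/
theorem card_le_of_maps (x : MulAut S) (B : Set S) (T0 : Subgroup S) (h : ∀ g ∈ B, x⁻¹ g⁻¹ * g ∈ T0) :
    B.ncard ≤ Nat.card (Fx x) * Nat.card T0 := by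
  classical
  have := Fintype.ofFinite S
  set B1 : Finset S := Finset.univ.filter fun g => g ∈ B with hB
  have hBc : B.ncard = B1.card := by
    rw [← Set.ncard_coe_finset]
    congr 1
    ext g
    simp [hB]
  set n : S → S := fun g => x⁻¹ g⁻¹ * g with hn
  have h1 : B1.card ≤ Nat.card (Fx x) * (B1.image n).card := by
    refine Finset.card_le_mul_card_image B1 _ fun m hm => ?_
    obtain ⟨g1, hg1, hg1m⟩ := Finset.mem_image.1 hm
    have h2 : Nat.card (Fx x) = (Finset.univ.filter fun g => g ∈ Fx x).card := by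
      rw [Nat.card_eq_fintype_card, Fintype.card_subtype]
    rw [h2]
    refine Finset.card_le_card_of_injOn (fun g => g * g1⁻¹) ?_ (fun a _ b _ hab => mul_right_cancel hab)
    intro g hg
    have h3 := (Finset.mem_filter.1 hg).2
    rw [← hg1m] at h3
    have h4 : x⁻¹ g⁻¹ * g = x⁻¹ g1⁻¹ * g1 := h3
    simp only [Finset.coe_filter, Finset.mem_univ, true_and, Set.mem_ofPred_eq]
    show x (g * g1⁻¹) = g * g1⁻¹
    have h5 : x (x⁻¹ g⁻¹ * g) = x (x⁻¹ g1⁻¹ * g1) := by rw [h4]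
    rw [map_mul, map_mul, show x (x⁻¹ g⁻¹) = g⁻¹ from x.apply_symm_apply _,
      show x (x⁻¹ g1⁻¹) = g1⁻¹ from x.apply_symm_apply _] at h5
    rw [map_mul, map_inv]
    have h6 : x g = g * (g1⁻¹ * x g1) := by rw [← h5]; group
    rw [h6]; group
  have h2 : (B1.image n).card ≤ Nat.card T0 := by
    have h3 : Nat.card T0 = (Finset.univ.filter fun g => g ∈ T0).card := by
      rw [Nat.card_eq_fintype_card, Fintype.card_subtype]
    rw [h3]
    apply Finset.card_le_card
    intro m hm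
    obtain ⟨g, hg, rfl⟩ := Finset.mem_image.1 hm
    have h4 : g ∈ B := by simpa [hB] using hg
    rw [Finset.mem_filter]
    exact ⟨Finset.mem_univ _, h g h4⟩
  rw [hBc]
  exact h1.trans (Nat.mul_le_mul_left _ h2)

/-- **counting the conjugates of `x` centralising `A`** -/
theorem card_centbad_le {p a : ℕ} (hp : p.Prime) {y : S} (ha : 1 ≤ a) (hy : orderOf y = p ^ a)
    (hn : ¬ p ^ (a + 1) ∣ Nat.card S) (hcen : center S = ⊥) {x : MulAut S}
    (hx : (orderOf x).Prime) (hxp : orderOf x ≠ p) (hxz : x (y ^ p ^ (a - 1)) = y ^ p ^ (a - 1)) :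
    ({g | ∀ a' ∈ zpowers (y ^ p ^ (a - 1)), ((MulAut.conj g)⁻¹ * x * MulAut.conj g) a' = a'} : Set S).ncard * p ^ a ≤
      Nat.card (Fx x) * Nat.card ↥(centralizer ({y ^ p ^ (a - 1)} : Set S)) := by
  classical
  have hpf : Fact p.Prime := ⟨hp⟩
  have hcS := pcyc hp hy hn
  set z := y ^ p ^ (a - 1) with hz
  have hzo : orderOf z = p := by rw [← Nat.card_zpowers]; exact card_socle hy ha
  set T := centralizer ({z} : Set S) with hT
  set s := orderOf x with hs
  have hyT : y ∈ T := by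
    rw [hT, mem_centralizer_singleton_iff, hz, ← pow_succ, ← pow_succ']
  have hxi : x⁻¹ z = z := by
    apply x.injective
    rw [show x (x⁻¹ z) = z from x.apply_symm_apply _, hxz]
  have hxzi : ∀ i : ℤ, (x ^ i) z = z := by
    intro i
    have h1 : x ∈ MulAction.stabilizer (MulAut S) z := hxz
    exact zpow_mem h1 i
  have hxT : ∀ (i : ℤ), ∀ t ∈ T, (x ^ i) t ∈ T := by
    intro i t ht
    rw [hT, mem_centralizer_singleton_iff] at ht ⊢
    have h1 := congrArg (x ^ i) ht
    rw [map_mul, map_mul, hxzi] at h1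
    exact h1
  have hcj : ∀ (w : MulAut S) (t : S), w * MulAut.conj t * w⁻¹ = MulAut.conj (w t) := by
    intro w t
    ext v
    show w (t * w⁻¹ v * t⁻¹) = w t * v * (w t)⁻¹
    rw [map_mul, map_mul, map_inv, show w (w⁻¹ v) = v from w.apply_symm_apply v]
  -- the group Γ
  let Γ : Subgroup (MulAut S) :=
    { carrier := {w | ∃ i : ℤ, ∃ t ∈ T, w = x ^ i * MulAut.conj t}
      one_mem' := ⟨0, 1, T.one_mem, by rw [map_one]; group⟩
      mul_mem' := by
        rintro _ _ ⟨i, t, ht, rfl⟩ ⟨j, t', ht', rfl⟩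
        refine ⟨i + j, (x ^ (-j)) t * t', mul_mem (hxT _ t ht) ht', ?_⟩
        rw [map_mul, ← hcj (x ^ (-j)) t]
        group
      inv_mem' := by
        rintro _ ⟨i, t, ht, rfl⟩
        refine ⟨-i, (x ^ i) t⁻¹, hxT _ _ (inv_mem ht), ?_⟩
        rw [← hcj (x ^ i) t⁻¹, map_inv]
        group }
  have hmemΓ : ∀ w : MulAut S, w ∈ Γ ↔ ∃ i : ℤ, ∃ t ∈ T, w = x ^ i * MulAut.conj t := fun w => Iff.rfl
  have hTΓ : ∀ t ∈ T, MulAut.conj t ∈ Γ := fun t ht => ⟨0, t, ht, by rw [zpow_zero, one_mul]⟩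
  have hxΓ : x ∈ Γ := ⟨1, 1, T.one_mem, by rw [zpow_one, map_one, mul_one]⟩
  -- `s`-th powers lie in `T`
  have hpw : ∀ w ∈ Γ, ∃ t ∈ T, w ^ s = MulAut.conj t := by
    rintro w ⟨i, t, ht, rfl⟩
    have h1 : ∀ n : ℕ, ∃ t' ∈ T, (x ^ i * MulAut.conj t) ^ n = x ^ (i * n) * MulAut.conj t' := by
      intro n
      induction n with
      | zero => exact ⟨1, T.one_mem, by simp⟩
      | succ n ih =>
        obtain ⟨t', ht', e⟩ := ih
        refine ⟨(x ^ (-i)) t' * t, mul_mem (hxT _ t' ht') ht, ?_⟩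
        rw [pow_succ, e, map_mul, ← hcj (x ^ (-i)) t']
        have e2 : (i : ℤ) * ((n + 1 : ℕ) : ℤ) = i * n + i := by push_cast; ring
        rw [e2, zpow_add]
        group
    obtain ⟨t', ht', e⟩ := h1 s
    refine ⟨t', ht', ?_⟩
    rw [e, mul_comm i, zpow_mul, zpow_natCast, hs, pow_orderOf_eq_one, one_zpow, one_mul]
  have hinj : Function.Injective (MulAut.conj : S →* MulAut S) := conj_injective hcen
  -- `p`-elements of Γ lie in `T`
  have hpT : ∀ w ∈ Γ, ∀ m : ℕ, w ^ p ^ m = 1 → ∃ t ∈ T, w = MulAut.conj t := by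
    intro w hw m hm
    obtain ⟨t, ht, e⟩ := hpw w hw
    have hcop : Nat.Coprime s (p ^ m) := Nat.Coprime.pow_right m ((Nat.coprime_primes hx hp).2 hxp)
    have hbez := Nat.gcd_eq_gcd_ab s (p ^ m)
    rw [Nat.Coprime] at hcop
    rw [hcop] at hbez
    refine ⟨t ^ (Nat.gcdA s (p ^ m)), zpow_mem ht _, ?_⟩
    rw [map_zpow, ← e]
    calc w = w ^ ((1 : ℕ) : ℤ) := by simp
      _ = w ^ ((s : ℤ) * Nat.gcdA s (p ^ m) + ((p ^ m : ℕ) : ℤ) * Nat.gcdB s (p ^ m)) := by rw [hbez]
      _ = (w ^ s) ^ Nat.gcdA s (p ^ m) := by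
        rw [zpow_add, zpow_mul, zpow_mul, zpow_natCast, zpow_natCast, hm, one_zpow, mul_one]
  have hcΓ : ∀ P : Subgroup Γ, IsPGroup p P → IsCyclic P := by
    intro P hP
    -- pull back to `S`
    let Q : Subgroup S := (P.map Γ.subtype).comap (MulAut.conj : S →* MulAut S)
    have hQ : IsPGroup p Q := by
      have h1 : IsPGroup p ↥(P.map Γ.subtype) := hP.map _
      refine h1.of_injective ((MulAut.conj : S →* MulAut S).subgroupComap (P.map Γ.subtype)) ?_
      intro u v huv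
      apply Subtype.ext
      exact hinj (congrArg Subtype.val huv)
    have hQc := hcS Q hQ
    have h2 : P.map Γ.subtype = Q.map (MulAut.conj : S →* MulAut S) := by
      apply le_antisymm
      · rintro _ ⟨w, hw, rfl⟩
        obtain ⟨m, hm⟩ := hP ⟨w, hw⟩
        obtain ⟨t, ht, e⟩ := hpT w w.2 m (by
          have := congrArg (fun v : P => ((v : Γ) : MulAut S)) hm
          simpa using this)
        refine ⟨t, ?_, e.symm⟩
        show MulAut.conj t ∈ P.map Γ.subtype
        rw [← e]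
        exact ⟨w, hw, rfl⟩
      · rintro _ ⟨t, ht, rfl⟩
        exact ht
    have h3 : IsCyclic ↥(P.map Γ.subtype) := by
      rw [h2]
      exact isCyclic_of_surjective _ ((MulAut.conj : S →* MulAut S).subgroupMap_surjective Q)
    exact isCyclic_of_injective (P.equivMapOfInjective Γ.subtype Γ.subtype_injective).toMonoidHom
      (P.equivMapOfInjective Γ.subtype Γ.subtype_injective).injective
  have hzT : z ∈ T := by rw [hT, mem_centralizer_singleton_iff]
  obtain ⟨K, hKn, hKp, k, hKk⟩ := exists_compl hp hcΓ (z := ⟨MulAut.conj z, hTΓ z hzT⟩) (by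
      rw [orderOf_mk, orderOf_injective _ hinj, hzo]) (by
    rintro ⟨w, hw⟩
    apply Subtype.ext
    show w * MulAut.conj z = MulAut.conj z * w
    obtain ⟨i, t, ht, rfl⟩ := hw
    have h1 : t * z = z * t := by rw [hT, mem_centralizer_singleton_iff] at ht; exact ht
    have h2 : x ^ i * MulAut.conj z = MulAut.conj z * x ^ i := by
      have h3 := hcj (x ^ i) z
      rw [hxzi] at h3
      calc x ^ i * MulAut.conj z = x ^ i * MulAut.conj z * (x ^ i)⁻¹ * x ^ i := by group
        _ = MulAut.conj z * x ^ i := by rw [h3]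
    calc x ^ i * MulAut.conj t * MulAut.conj z = x ^ i * MulAut.conj (t * z) := by rw [map_mul, mul_assoc]
      _ = x ^ i * MulAut.conj (z * t) := by rw [h1]
      _ = (x ^ i * MulAut.conj z) * MulAut.conj t := by rw [map_mul, mul_assoc]
      _ = MulAut.conj z * (x ^ i * MulAut.conj t) := by rw [h2, mul_assoc])
  -- elements of order `s` of Γ lie in `K`
  have hsK : ∀ (w : MulAut S) (hw : w ∈ Γ), w ^ s = 1 → (⟨w, hw⟩ : Γ) ∈ K := by
    intro w hw h1
    have h2 : (QuotientGroup.mk' K ⟨w, hw⟩) ^ s = 1 := by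
      rw [← map_pow]
      have : (⟨w, hw⟩ : Γ) ^ s = 1 := Subtype.ext h1
      rw [this, map_one]
    have h3 : (QuotientGroup.mk' K ⟨w, hw⟩) ^ p ^ k = 1 := by
      have h4 : orderOf (QuotientGroup.mk' K ⟨w, hw⟩) ∣ Nat.card (Γ ⧸ K) := orderOf_dvd_natCard _
      have h5 : Nat.card (Γ ⧸ K) = p ^ k := hKk
      rw [h5] at h4
      exact orderOf_dvd_iff_pow_eq_one.1 h4
    have h4 : orderOf (QuotientGroup.mk' K ⟨w, hw⟩) ∣ Nat.gcd s (p ^ k) :=
      Nat.dvd_gcd (orderOf_dvd_of_pow_eq_one h2) (orderOf_dvd_of_pow_eq_one h3)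
    have hcop : Nat.Coprime s (p ^ k) := Nat.Coprime.pow_right k ((Nat.coprime_primes hx hp).2 hxp)
    rw [hcop] at h4
    rw [Nat.dvd_one, orderOf_eq_one_iff] at h4
    exact (QuotientGroup.eq_one_iff _).1 h4
  let T0 : Subgroup S := T ⊓ (K.map Γ.subtype).comap (MulAut.conj : S →* MulAut S)
  have hT0 : ∀ t ∈ T0, ¬ p ∣ orderOf t := by
    rintro t ⟨-, ht⟩ hd
    obtain ⟨w, hw, e⟩ := ht
    have h1 : orderOf t = orderOf w := by
      rw [← orderOf_injective _ hinj t, ← e, orderOf_injective _ Γ.subtype_injective]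
    apply hKp
    have h2 : orderOf (⟨w, hw⟩ : K) ∣ Nat.card K := orderOf_dvd_natCard _
    rw [orderOf_mk] at h2
    exact (h1 ▸ hd).trans h2
  have h1 : ({g | ∀ a' ∈ zpowers z, ((MulAut.conj g)⁻¹ * x * MulAut.conj g) a' = a'} : Set S).ncard ≤
      Nat.card (Fx x) * Nat.card T0 := by
    refine card_le_of_maps x _ T0 fun g hg => ?_
    have hg1 : ((MulAut.conj g)⁻¹ * x * MulAut.conj g) z = z := hg z (mem_zpowers z)
    have hg2 := hg1
    rw [conj_eq] at hg2
    have hnT : x⁻¹ g⁻¹ * g ∈ T := by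
      rw [hT, mem_centralizer_singleton_iff]
      have h3 : x (MulAut.conj (x⁻¹ g⁻¹ * g) z) = x z := by rw [hxz]; exact hg2
      have h4 : (x⁻¹ g⁻¹ * g) * z * (x⁻¹ g⁻¹ * g)⁻¹ = z := x.injective h3
      exact mul_inv_eq_iff_eq_mul.1 h4
    refine ⟨hnT, ?_⟩
    show MulAut.conj (x⁻¹ g⁻¹ * g) ∈ K.map Γ.subtype
    have hw : x * MulAut.conj (x⁻¹ g⁻¹ * g) ∈ Γ := ⟨1, _, hnT, by rw [zpow_one]⟩
    have h5 := hsK _ hw (by rw [← conj_eq, hs, ← orderOf_conj x g, pow_orderOf_eq_one])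
    have h6 := hsK x hxΓ (by rw [hs, pow_orderOf_eq_one])
    refine ⟨(⟨x, hxΓ⟩ : Γ)⁻¹ * ⟨_, hw⟩, mul_mem (inv_mem h6) h5, ?_⟩
    show x⁻¹ * (x * MulAut.conj (x⁻¹ g⁻¹ * g)) = _
    rw [inv_mul_cancel_left]
  have h2 : Nat.card T0 * p ^ a ≤ Nat.card T := by
    rw [← hy, ← Nat.card_zpowers y, ← Nat.card_prod]
    refine Nat.card_le_card_of_injective (fun q : T0 × zpowers y => (⟨(q.1 : S) * q.2, mul_mem q.1.2.1
      ((zpowers_le.2 hyT) q.2.2)⟩ : T)) ?_
    rintro ⟨t, v⟩ ⟨t', v'⟩ h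
    have h3 : (t : S) * v = t' * v' := congrArg Subtype.val h
    have h4 : (t' : S)⁻¹ * t = v' * (v : S)⁻¹ := by
      rw [inv_mul_eq_iff_eq_mul, ← mul_assoc, ← h3, mul_inv_cancel_right]
    have h5 : (t' : S)⁻¹ * t ∈ T0 := mul_mem (inv_mem t'.2) t.2
    have h6 : (t' : S)⁻¹ * t ∈ zpowers y := by rw [h4]; exact mul_mem v'.2 (inv_mem v.2)
    have h7 : (t' : S)⁻¹ * t = 1 := by
      by_contra hne
      have h8 : orderOf ((t' : S)⁻¹ * t) ∣ p ^ a := by
        have := orderOf_dvd_natCard (⟨_, h6⟩ : zpowers y)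
        rwa [orderOf_mk, Nat.card_zpowers, hy] at this
      obtain ⟨j, -, hj⟩ := (Nat.dvd_prime_pow hp).1 h8
      rcases Nat.eq_zero_or_pos j with h9 | h9
      · rw [h9, pow_zero, orderOf_eq_one_iff] at hj
        exact hne hj
      · exact hT0 _ h5 (hj ▸ dvd_pow_self p h9.ne')
    have h8 : (t : S) = t' := (inv_mul_eq_one.1 h7).symm
    have h9 : (v : S) = v' := by rw [h8] at h3; exact mul_left_cancel h3
    rw [Prod.mk.injEq]
    exact ⟨Subtype.ext h8, Subtype.ext h9⟩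
  calc _ ≤ (Nat.card (Fx x) * Nat.card T0) * p ^ a := Nat.mul_le_mul_right _ h1
    _ = Nat.card (Fx x) * (Nat.card T0 * p ^ a) := by ring
    _ ≤ _ := Nat.mul_le_mul_left _ h2

/-- case 1 -/
theorem two_bad_lt [IsSimpleGroup S] (hna : ¬ IsMulCommutative S) {p : ℕ} (hp : p.Prime) (h5 : 5 ≤ p)
    (hc : ∀ P : Subgroup S, IsPGroup p P → IsCyclic P) {A : Subgroup S} (hAc : Nat.card A = p) {x : MulAut S}
    (hcase : ∃ g ∈ Bad A x, ¬ ∀ a ∈ A, ((MulAut.conj g)⁻¹ * x * MulAut.conj g) a = a) :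
    2 * (Bad A x).ncard < Nat.card S := by
  set N := normalizer (A : Set S) with hN
  have hNidx : 3 ≤ N.index := three_le_index hna (norm_ne_top hna hp hAc)
  obtain ⟨g, hg, hgc⟩ := hcase
  rw [← ncard_bad_conj A x g]
  have h1 := card_bad_of_not_cent hp hc hAc (mem_bad.1 hg) hgc
  rw [← hN] at h1
  generalize (Bad A ((MulAut.conj g)⁻¹ * x * MulAut.conj g)).ncard = b at h1 ⊢
  have h2 : Nat.card S = Nat.card N * N.index := N.card_mul_index.symm
  have h3 : 3 * Nat.card N ≤ Nat.card S := by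
    rw [h2, mul_comm]
    exact Nat.mul_le_mul_left _ hNidx
  have h4 : 0 < Nat.card N := Nat.card_pos
  obtain ⟨k, rfl⟩ : ∃ k, p = k + 5 := ⟨p - 5, by omega⟩
  have e1 : k + 5 - 1 = k + 4 := rfl
  rw [e1] at h1
  by_contra hcon
  push Not at hcon
  have h6 : (k + 5) * Nat.card S ≤ 2 * ((k + 5) * b) := by
    calc (k + 5) * Nat.card S ≤ (k + 5) * (2 * b) := Nat.mul_le_mul_left _ hcon
      _ = 2 * ((k + 5) * b) := by ring
  have h7 : (k + 3) * Nat.card S ≤ 2 * (k + 4) * Nat.card N := by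
    have e2 : (k + 5) * Nat.card S = (k + 3) * Nat.card S + 2 * Nat.card S := by ring
    have e3 : 2 * ((k + 4) * Nat.card N) = 2 * (k + 4) * Nat.card N := by ring
    omega
  have h8 : (k + 3) * (3 * Nat.card N) ≤ (k + 3) * Nat.card S := Nat.mul_le_mul_left _ h3
  have e4 : (k + 3) * (3 * Nat.card N) = 2 * (k + 4) * Nat.card N + (k + 1) * Nat.card N := by ring
  have h9 : 0 < (k + 1) * Nat.card N := Nat.mul_pos (by omega) h4
  omega

/-- **The final criterion.** -/
theorem AS2.of_lt [IsSimpleGroup S] {p a : ℕ} {y : S} (hna : ¬ IsMulCommutative S) (hr : SURow S p a y) (h5 : 5 ≤ p)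
    {c b : ℕ} (hc : Nat.card ↥(centralizer ({y ^ p ^ (a - 1)} : Set S)) ≤ c)
    (hb : ∀ H : Subgroup S, H ≠ ⊤ → b ≤ H.index) (h : 2 * c < p ^ a * b) : AS2 S := by
  have hp := hr.hp
  have hpf : Fact p.Prime := ⟨hp⟩
  have hcS := pcyc hp hr.ord hr.full
  have hcen : center S = ⊥ := by
    rcases (inferInstance : (center S).Normal).eq_bot_or_eq_top with h1 | h1
    · exact h1
    · exfalso
      apply hna
      refine ⟨⟨fun a b => ?_⟩⟩
      have : b ∈ center S := by rw [h1]; trivial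
      exact mem_center_iff.1 this a
  have hA : zpowers (y ^ p ^ (a - 1)) ≤ zpowers y := zpowers_le.2 (npow_mem_zpowers _ _)
  have hAc : Nat.card (zpowers (y ^ p ^ (a - 1))) = p := card_socle hr.ord hr.ha
  have hzo : orderOf (y ^ p ^ (a - 1)) = p := by rw [← Nat.card_zpowers]; exact hAc
  refine AS2.of_half hcen hr.su hA hAc fun x hx => ?_
  by_cases hcase : ∃ g ∈ Bad (zpowers (y ^ p ^ (a - 1))) x,
      ¬ ∀ a' ∈ zpowers (y ^ p ^ (a - 1)), ((MulAut.conj g)⁻¹ * x * MulAut.conj g) a' = a'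
  · exact two_bad_lt hna hp h5 hcS hAc hcase
  · push Not at hcase
    rcases (Bad (zpowers (y ^ p ^ (a - 1))) x).eq_empty_or_nonempty with h0 | ⟨g0, hg0⟩
    · rw [h0, Set.ncard_empty]
      exact Nat.card_pos
    have h1 : (Bad (zpowers (y ^ p ^ (a - 1))) x).ncard ≤
        ({g | ∀ a' ∈ zpowers (y ^ p ^ (a - 1)), ((MulAut.conj g)⁻¹ * x * MulAut.conj g) a' = a'} : Set S).ncard :=
      Set.ncard_le_ncard (fun g hg => hcase g hg) (Set.toFinite _)
    have hidx : ∀ x : MulAut S, (orderOf x).Prime → b ≤ (Fx x).index := fun x hx => hb _ (Fx_ne_top fun h => by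
      rw [h, orderOf_one] at hx
      exact Nat.not_prime_one hx)
    have hpa : 0 < p ^ a := pow_pos hp.pos a
    by_cases hxp : orderOf x = p
    · -- inner of order `p`
      obtain ⟨u, hu⟩ := hr.inn x ⟨1, by rw [hxp, pow_one]⟩
      have huo : orderOf u = p := by
        rw [← hxp, hu, orderOf_injective (MulAut.conj : S →* MulAut S) (conj_injective hcen) u]
      -- the bad elements lie in one coset of the normaliser
      have h2 : ∀ g ∈ Bad (zpowers (y ^ p ^ (a - 1))) x,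
          (zpowers (y ^ p ^ (a - 1))).map (MulAut.conj g).toMonoidHom = zpowers u := by
        intro g hg
        refine eq_of_norm hp hcS (by rw [card_map_of_injective (MulAut.conj g).injective, hAc])
          (by rw [Nat.card_zpowers, huo]) ?_
        have h3 : ∀ v ∈ (zpowers (y ^ p ^ (a - 1))).map (MulAut.conj g).toMonoidHom, u * v = v * u := by
          rintro _ ⟨v, hv, rfl⟩
          have h4 := hcase g hg v hv
          have h5 := congrArg (MulAut.conj g) h4
          rw [MulAut.mul_apply, MulAut.mul_apply, MulAut.apply_inv_self, hu] at h5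
          exact mul_inv_eq_iff_eq_mul.1 h5
        intro v hv
        apply centralizer_le_normalizer
        rw [centralizer_zp, mem_centralizer_singleton_iff]
        exact (h3 v hv).symm
      have hN : Nat.card (normalizer ((zpowers (y ^ p ^ (a - 1)) : Subgroup S) : Set S)) * 3 ≤ Nat.card S := by
        rw [← (normalizer ((zpowers (y ^ p ^ (a - 1)) : Subgroup S) : Set S)).card_mul_index]
        exact Nat.mul_le_mul_left _ (three_le_index hna (norm_ne_top hna hp hAc))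
      have h3 : (Bad (zpowers (y ^ p ^ (a - 1))) x).ncard ≤
          Nat.card (normalizer ((zpowers (y ^ p ^ (a - 1)) : Subgroup S) : Set S)) := by
        have e : (Bad (zpowers (y ^ p ^ (a - 1))) x).ncard = Nat.card (Bad (zpowers (y ^ p ^ (a - 1))) x) := rfl
        rw [e]
        refine Nat.card_le_card_of_injective (fun g : Bad (zpowers (y ^ p ^ (a - 1))) x => (⟨g0⁻¹ * g, ?_⟩ :
          normalizer ((zpowers (y ^ p ^ (a - 1)) : Subgroup S) : Set S))) ?_
        · rw [mem_normalizer_iff_map, map_mul, ← map_map', h2 g g.2, ← h2 g0 hg0, map_map', ← map_mul, inv_mul_cancel,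
            map_one]
          exact map_id _
        · intro g g' h
          exact Subtype.ext (mul_left_cancel (congrArg Subtype.val h))
      have h4 : 0 < Nat.card (normalizer ((zpowers (y ^ p ^ (a - 1)) : Subgroup S) : Set S)) := Nat.card_pos
      omega
    · -- WLOG `x` centralises `A`
      rw [← ncard_bad_conj (zpowers (y ^ p ^ (a - 1))) x g0]
      have hz0 := hcase g0 hg0 _ (mem_zpowers (y ^ p ^ (a - 1)))
      have hxo := orderOf_conj x g0
      have hcase' : ∀ g ∈ Bad (zpowers (y ^ p ^ (a - 1))) ((MulAut.conj g0)⁻¹ * x * MulAut.conj g0),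
          ∀ a' ∈ zpowers (y ^ p ^ (a - 1)), ((MulAut.conj g)⁻¹ * ((MulAut.conj g0)⁻¹ * x * MulAut.conj g0) *
            MulAut.conj g) a' = a' := by
        intro g hg a' ha'
        have e : (MulAut.conj g)⁻¹ * ((MulAut.conj g0)⁻¹ * x * MulAut.conj g0) * MulAut.conj g =
            (MulAut.conj (g0 * g))⁻¹ * x * MulAut.conj (g0 * g) := by
          rw [map_mul]; group
        rw [e]
        refine hcase _ ?_ a' ha'
        rw [mem_bad] at hg ⊢
        rw [← e]
        exact hg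
      set x' := (MulAut.conj g0)⁻¹ * x * MulAut.conj g0 with hx'
      have hx'p : (orderOf x').Prime := by rw [hxo]; exact hx
      have h2 := card_centbad_le hp hr.ha hr.ord hr.full hcen hx'p (by rw [hxo]; exact hxp) hz0
      have h3 : (Bad (zpowers (y ^ p ^ (a - 1))) x').ncard ≤
          ({g | ∀ a' ∈ zpowers (y ^ p ^ (a - 1)), ((MulAut.conj g)⁻¹ * x' * MulAut.conj g) a' = a'} : Set S).ncard :=
        Set.ncard_le_ncard (fun g hg => hcase' g hg) (Set.toFinite _)
      have h4 : (Bad (zpowers (y ^ p ^ (a - 1))) x').ncard * p ^ a ≤ Nat.card (Fx x') * c :=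
        (Nat.mul_le_mul_right _ h3).trans (h2.trans (Nat.mul_le_mul_left _ hc))
      have hF : 0 < Nat.card (Fx x') := Nat.card_pos
      have h6 : p ^ a * (2 * (Bad (zpowers (y ^ p ^ (a - 1))) x').ncard) < p ^ a * Nat.card S := by
        rw [← (Fx x').card_mul_index]
        calc p ^ a * (2 * (Bad (zpowers (y ^ p ^ (a - 1))) x').ncard)
            = 2 * ((Bad (zpowers (y ^ p ^ (a - 1))) x').ncard * p ^ a) := by ring
          _ ≤ 2 * (Nat.card (Fx x') * c) := Nat.mul_le_mul_left _ h4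
          _ = Nat.card (Fx x') * (2 * c) := by ring
          _ < Nat.card (Fx x') * (p ^ a * b) := Nat.mul_lt_mul_of_pos_left h hF
          _ ≤ Nat.card (Fx x') * (p ^ a * (Fx x').index) :=
            Nat.mul_le_mul_left _ (Nat.mul_le_mul_left _ (hidx x' hx'p))
          _ = p ^ a * (Nat.card (Fx x') * (Fx x').index) := by ring
      exact Nat.lt_of_mul_lt_mul_left h6

end Cfsg.Agent.H965.AS
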