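import Mathlib
import Cfsg.Prelude.Def_KGroupFacts
import Cfsg.Agent.H465.SULin
import Cfsg.Agent.H568.OwnChar

/-!
# Rows: solvably unique elements with their data (helper965)

`SURow K p a y` : `y ∈ K` is a solvably unique element of order `p ^ a`, the full `p`-part, and the automorphisms of
`p`-power order are inner.
-/

set_option autoImplicit false

namespace Cfsg.Agent.H965.SU

open Subgroup Cfsg.Agent.H465.SU Cfsg.Agent.H568

/-- data exported by a row -/
structure SURow (K : Type*) [Group K] (p a : ℕ) (y : K) : Prop where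
  hp : p.Prime
  odd : p ≠ 2
  ha : 1 ≤ a
  ord : orderOf y = p ^ a
  su : SUel p y
  full : ¬ p ^ (a + 1) ∣ Nat.card K
  inn : ∀ b : MulAut K, (∃ k, orderOf b = p ^ k) → ∃ g : K, b = MulAut.conj g

variable {K L : Type*} [Group K] [Group L]

theorem SURow.hasSU {p a : ℕ} {y : K} (h : SURow K p a y) : HasSU K := ⟨p, h.hp, h.odd, y, h.su⟩

theorem SURow.congr {p a : ℕ} {y : K} (e : K ≃* L) (h : SURow K p a y) : SURow L p a (e y) where
  hp := h.hp
  odd := h.odd
  ha := h.ha
  ord := by rw [MulEquiv.orderOf_eq, h.ord]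
  su := h.su.congr e
  full := by rw [← Nat.card_congr e.toEquiv]; exact h.full
  inn := by
    rintro b ⟨k, hk⟩
    obtain ⟨g, hg⟩ := h.inn (MulAut.congr e.symm b) ⟨k, by rw [MulEquiv.orderOf_eq, hk]⟩
    refine ⟨e g, ?_⟩
    ext x
    have h1 := DFunLike.congr_fun hg (e.symm x)
    have h2 : e.symm (b (e (e.symm x))) = g * e.symm x * g⁻¹ := h1
    rw [e.apply_symm_apply] at h2
    have h3 := congrArg e h2
    rw [e.apply_symm_apply, map_mul, map_mul, map_inv, e.apply_symm_apply] at h3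
    exact h3

/-- automorphisms of `p`-power order are inner if `p ∤ |Out K|` -/
theorem inner_of_card [Finite K] {p : ℕ} (hp : p.Prime) (h : ¬ p ∣ Nat.card (Cfsg.Out K)) (b : MulAut K)
    (hb : ∃ k, orderOf b = p ^ k) : ∃ g : K, b = MulAut.conj g := by
  obtain ⟨k, hk⟩ := hb
  have h1 : orderOf (QuotientGroup.mk' (Cfsg.Inn K) b) ∣ p ^ k := hk ▸ orderOf_map_dvd _ b
  obtain ⟨j, -, hj⟩ := (Nat.dvd_prime_pow hp).1 h1
  have h2 : orderOf (QuotientGroup.mk' (Cfsg.Inn K) b) ∣ Nat.card (Cfsg.Out K) := orderOf_dvd_natCard _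
  have h3 : QuotientGroup.mk' (Cfsg.Inn K) b = 1 := by
    rw [← orderOf_eq_one_iff, hj]
    rcases Nat.eq_zero_or_pos j with h0 | h0
    · rw [h0, pow_zero]
    · exact absurd (((dvd_pow_self p h0.ne').trans (hj ▸ dvd_rfl)).trans h2) h
  have h4 : b ∈ Cfsg.Inn K := (QuotientGroup.eq_one_iff b).1 h3
  obtain ⟨g, hg⟩ := h4
  exact ⟨g, hg.symm⟩

/-- a generator of a cyclic Sylow subgroup -/
theorem exists_full [Finite K] {p : ℕ} (hp : p.Prime) (hd : p ∣ Nat.card K)
    (hc : ∀ P : Subgroup K, IsPGroup p P → IsCyclic ↥P) :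
    ∃ (a : ℕ) (y : K), 1 ≤ a ∧ orderOf y = p ^ a ∧ ¬ p ^ (a + 1) ∣ Nat.card K := by
  have : Fact p.Prime := ⟨hp⟩
  let P : Sylow p K := default
  have h1 := hc P P.isPGroup'
  obtain ⟨g, hg⟩ := IsCyclic.exists_ofOrder_eq_natCard (α := (P : Subgroup K))
  refine ⟨(Nat.card K).factorization p, g, ?_, ?_, ?_⟩
  · rw [Nat.one_le_iff_ne_zero]
    intro h0
    rw [Nat.factorization_eq_zero_iff] at h0
    rcases h0 with h0 | h0 | h0
    · exact h0 hp
    · exact h0 hd
    · exact Nat.card_pos.ne' h0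
  · rw [Subgroup.orderOf_coe, hg, Sylow.card_eq_multiplicity]
  · exact Nat.pow_succ_factorization_not_dvd Nat.card_pos.ne' hp

/-- If `y₁ = y ^ (p ^ (a - 1))` normalises no `t`-subgroup then it centralises every `y`-invariant `t`-subgroup. -/
theorem centralize_of_noNorm [Finite K] {p a t : ℕ} {y : K} (h : NoNorm t (y ^ p ^ (a - 1))) {T : Subgroup K}
    (hT : IsPGroup t T) (hyT : ∀ u ∈ T, y * u * y⁻¹ ∈ T) :
    ∀ u ∈ T, y ^ p ^ (a - 1) * u = u * y ^ p ^ (a - 1) := by
  have h1 : y ∈ normalizer (T : Set K) := by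
    rw [mem_normalizer_iff_map_conj_eq]
    refine eq_of_le_of_card_ge ?_ (le_of_eq (card_map_of_injective (MulAut.conj y).injective).symm)
    rintro _ ⟨v, hv, rfl⟩
    exact hyT v hv
  have h2 := h T hT (pow_mem h1 _)
  intro u hu
  rw [h2, mem_bot] at hu
  rw [hu, mul_one, one_mul]

/-- `NoNorm` is inherited by subgroups. -/
theorem noNorm_of_injective {Y : Type*} [Group Y] {p : ℕ} (f : K →* Y) (hf : Function.Injective f) {x : K}
    (h : NoNorm p (f x)) : NoNorm p x := by
  intro Q hQ hx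
  have h1 := h (Q.map f) (hQ.map f) (by
    rw [mem_normalizer_iff] at hx ⊢
    intro z
    constructor
    · rintro ⟨u, hu, rfl⟩
      exact ⟨x * u * x⁻¹, (hx u).1 hu, by simp⟩
    · rintro ⟨u, hu, hz⟩
      refine ⟨x⁻¹ * u * x, (hx _).2 (by have : x * (x⁻¹ * u * x) * x⁻¹ = u := by group
                                        rw [this]; exact hu), ?_⟩
      rw [map_mul, map_mul, map_inv, hz]
      group)
  rwa [Subgroup.map_eq_bot_iff_of_injective _ hf] at h1

end Cfsg.Agent.H965.SU
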