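import Cfsg.Agent.H965.ASCrit
import Cfsg.Agent.H965.SURow

/-!
# A better criterion for `AS2` when the Sylow `p`-subgroups are cyclic, `p ≥ 5` (helper965)

`y` solvably unique, of order `p ^ a`, the full `p`-part of `|S|`, `A` the subgroup of order `p` of `⟨y⟩`, `N = N_S(A)`.

* `AS2.of_cyclic` : only automorphisms `x` of prime order which centralise `A` matter:
  `2 |N| < |C_N(x)| |S : C_S(x)|` suffices;
* `AS2.of_gen` : moreover of order `≠ p` (`SURow`);
* `AS2.of_self` : nothing is needed if `|C_S(A)| = p ^ a`;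
* `AS2.of_row` : `2 |C_S(A)| ≤ b` suffices, `b` a lower bound for the index of proper subgroups;
* `AS2.of_row_e` : `2 e |C_S(A)| < p b` suffices, `|N : C_S(A)| ≤ e`;
* `AS2.of_row_ab` : for abelian `C_S(A)`: `2 e < b` (for inner `x`) and, for the primes `s ≠ p` dividing `|Out S|`,
  `2 e |C_S(A)| < p ^ a b`, or `s ∤ |C_S(A)|` and `2 |C_S(A)| < p ^ a b`.
-/

set_option autoImplicit false
set_option linter.unusedSectionVars false

namespace Cfsg.Agent.H965.AS

open Cfsg Subgroup Cfsg.Agent.H465.SU Cfsg.Agent.H465.Red Cfsg.Agent.H965.SU Cfsg.Agent.OddOrderLocal.CyclicSub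

universe u

variable {S : Type u} [Group S] [Finite S]

/-- all `p`-subgroups are cyclic -/
theorem pcyc {p a : ℕ} (hp : p.Prime) {y : S} (hy : orderOf y = p ^ a) (hn : ¬ p ^ (a + 1) ∣ Nat.card S)
    (P : Subgroup S) (hP : IsPGroup p P) : IsCyclic P := by
  have : Fact p.Prime := ⟨hp⟩
  obtain ⟨Q, hQ⟩ := (IsPGroup.of_card (p := p) (n := a) (G := zpowers y) (by rw [Nat.card_zpowers, hy])).exists_le_sylow
  have h1 : (Q : Subgroup S) = zpowers y := by
    symm
    apply Subgroup.eq_of_le_of_card_ge hQ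
    rw [Nat.card_zpowers, hy]
    obtain ⟨m, hm⟩ := (IsPGroup.iff_card (p := p)).1 Q.isPGroup'
    have h2 : Nat.card (Q : Subgroup S) ∣ Nat.card S := card_subgroup_dvd_card _
    rw [hm] at h2 ⊢
    refine Nat.pow_le_pow_right hp.pos ?_
    by_contra hcon
    exact hn ((pow_dvd_pow p (by omega)).trans h2)
  obtain ⟨R, hR⟩ := hP.exists_le_sylow
  have h2 : IsCyclic (R : Subgroup S) := by
    have e : (Q : Subgroup S) ≃* (R : Subgroup S) := Sylow.equiv Q R
    have h3 : IsCyclic (Q : Subgroup S) := by rw [h1]; infer_instance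
    exact e.isCyclic.1 h3
  exact isCyclic_of_injective (inclusion hR) (inclusion_injective hR)

/-- two subgroups of order `p`, one normalising the other, are equal -/
theorem eq_of_norm {p : ℕ} (hp : p.Prime) (hc : ∀ P : Subgroup S, IsPGroup p P → IsCyclic P) {A B : Subgroup S}
    (hA : Nat.card A = p) (hB : Nat.card B = p) (h : A ≤ normalizer (B : Set S)) : A = B := by
  have : Fact p.Prime := ⟨hp⟩
  have h1 : IsPGroup p ↥(A ⊔ B) := by
    have hA' : IsPGroup p A := IsPGroup.of_card (n := 1) (by rw [hA, pow_one])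
    have hB' : IsPGroup p B := IsPGroup.of_card (n := 1) (by rw [hB, pow_one])
    exact hA'.to_sup_of_normal_right' hB' h
  exact eq_of_card_eq_of_le_cyclic (hc _ h1) le_sup_left le_sup_right (by rw [hA, hB])

/-- **Case 1**: `x` normalises but does not centralise `A` -/
theorem card_bad_of_not_cent {p : ℕ} (hp : p.Prime) (hc : ∀ P : Subgroup S, IsPGroup p P → IsCyclic P)
    {A : Subgroup S} (hAc : Nat.card A = p) {x : MulAut S} (hx : A.map x.toMonoidHom = A)
    (hxc : ¬ ∀ a ∈ A, x a = a) :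
    p * (Bad A x).ncard ≤ Nat.card S + (p - 1) * Nat.card (normalizer (A : Set S)) := by
  classical
  have : Fact p.Prime := ⟨hp⟩
  have := Fintype.ofFinite S
  have hcomm : ∀ a ∈ A, ∀ b ∈ A, a * b = b * a := by
    intro a ha b hb
    have : IsCyclic A := isCyclic_of_prime_card hAc
    obtain ⟨g, hg⟩ := IsCyclic.exists_generator (α := A)
    obtain ⟨i, hi⟩ := mem_zpowers_iff.1 (hg ⟨a, ha⟩)
    obtain ⟨j, hj⟩ := mem_zpowers_iff.1 (hg ⟨b, hb⟩)
    have h1 : (⟨a, ha⟩ : A) * ⟨b, hb⟩ = ⟨b, hb⟩ * ⟨a, ha⟩ := by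
      rw [← hi, ← hj, ← zpow_add, ← zpow_add, add_comm]
    exact congrArg Subtype.val h1
  have hxi : ∀ a ∈ A, x⁻¹ a ∈ A := by
    intro a ha
    rw [← hx] at ha
    obtain ⟨b, hb, rfl⟩ := ha
    have : x⁻¹ (x.toMonoidHom b) = b := x.symm_apply_apply b
    rw [this]
    exact hb
  -- fixed points of x on A are trivial
  have hfix : ∀ c ∈ A, x⁻¹ c = c → c = 1 := by
    intro c hcA hcx
    by_contra hc1
    apply hxc
    have hgen : zpowers c = A := by
      apply Subgroup.eq_of_le_of_card_ge (zpowers_le.2 hcA)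
      rw [hAc, Nat.card_zpowers]
      have h2 : orderOf c ∣ p := by
        have := orderOf_dvd_natCard (⟨c, hcA⟩ : A)
        rwa [orderOf_mk, hAc] at this
      rcases (Nat.dvd_prime hp).1 h2 with h3 | h3
      · rw [orderOf_eq_one_iff] at h3
        exact absurd h3 hc1
      · exact h3.ge
    intro a ha
    rw [← hgen] at ha
    obtain ⟨i, rfl⟩ := mem_zpowers_iff.1 ha
    rw [map_zpow]
    congr 1
    conv_lhs => rw [← hcx]
    exact x.apply_symm_apply c
  set N := normalizer (A : Set S) with hN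
  have hAN : A ≤ N := le_normalizer
  -- key
  have key : ∀ a ∈ A, ∀ a' ∈ A, ∀ u : S, a⁻¹ * u ∈ Bad A x → a'⁻¹ * u ∈ Bad A x → u ∉ N → a = a' := by
    intro a ha a' ha' u h1 h2 hu
    by_contra hne
    apply hu
    set c := a⁻¹ * a' with hcdef
    have hcA : c ∈ A := mul_mem (inv_mem ha) ha'
    have hc1 : c ≠ 1 := by
      intro h
      apply hne
      rw [hcdef, inv_mul_eq_one] at h
      exact h
    set w := x⁻¹ c * c⁻¹ with hw
    have hwA : w ∈ A := mul_mem (hxi c hcA) (inv_mem hcA)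
    have hw1 : w ≠ 1 := by
      intro h
      exact hc1 (hfix c hcA (mul_inv_eq_one.1 h))
    have hwgen : zpowers w = A := by
      apply Subgroup.eq_of_le_of_card_ge (zpowers_le.2 hwA)
      rw [hAc, Nat.card_zpowers]
      have h2 : orderOf w ∣ p := by
        have := orderOf_dvd_natCard (⟨w, hwA⟩ : A)
        rwa [orderOf_mk, hAc] at this
      rcases (Nat.dvd_prime hp).1 h2 with h3 | h3
      · rw [orderOf_eq_one_iff] at h3
        exact absurd h3 hw1
      · exact h3.ge
    -- w normalises u A u⁻¹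
    have hwn : w ∈ normalizer ((A.map (MulAut.conj u).toMonoidHom : Subgroup S) : Set S) := by
      rw [mem_normalizer_iff_map]
      have e1 : ∀ b ∈ A, b⁻¹ * u ∈ Bad A x →
          (A.map (MulAut.conj u).toMonoidHom).map (MulAut.conj b * x * MulAut.conj b⁻¹).toMonoidHom =
            A.map (MulAut.conj u).toMonoidHom := by
        intro b hb h
        have h3 : (A.map (MulAut.conj (b⁻¹ * u)).toMonoidHom).map x.toMonoidHom =
            A.map (MulAut.conj (b⁻¹ * u)).toMonoidHom := h
        rw [map_map'] at h3 ⊢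
        have e2 : MulAut.conj b * x * MulAut.conj b⁻¹ * MulAut.conj u = MulAut.conj b * (x * MulAut.conj (b⁻¹ * u)) := by
          rw [map_mul]; group
        rw [e2, ← map_map', h3, map_map', ← map_mul, mul_inv_cancel_left]
      have h3 := e1 a ha h1
      have h4 := e1 a' ha' h2
      have e3 : MulAut.conj w = (MulAut.conj a * x * MulAut.conj a⁻¹)⁻¹ * (MulAut.conj a' * x * MulAut.conj a'⁻¹) := by
        have e4 : x⁻¹ * MulAut.conj (a⁻¹ * a') * x = MulAut.conj (x⁻¹ (a⁻¹ * a')) := by
          ext v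
          show x⁻¹ ((a⁻¹ * a') * x v * (a⁻¹ * a')⁻¹) = x⁻¹ (a⁻¹ * a') * v * (x⁻¹ (a⁻¹ * a'))⁻¹
          rw [map_mul, map_mul, map_inv]
          congr 2
          exact x.symm_apply_apply v
        have e5 : (MulAut.conj a * x * MulAut.conj a⁻¹)⁻¹ * (MulAut.conj a' * x * MulAut.conj a'⁻¹) =
            MulAut.conj a * (x⁻¹ * MulAut.conj (a⁻¹ * a') * x) * MulAut.conj a'⁻¹ := by
          simp only [map_mul, map_inv]; group
        rw [e5, e4, ← map_mul, ← map_mul, ← hcdef, hw]
        congr 1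
        rw [hcomm a ha _ (hxi c hcA), mul_assoc, hcdef, mul_inv_rev, inv_inv]
        congr 1
        exact (hcomm _ ha _ (inv_mem ha')).symm
      rw [e3, ← map_map', h4]
      generalize MulAut.conj a * x * MulAut.conj a⁻¹ = X at h3
      calc (A.map (MulAut.conj u).toMonoidHom).map X⁻¹.toMonoidHom
          = ((A.map (MulAut.conj u).toMonoidHom).map X.toMonoidHom).map X⁻¹.toMonoidHom := by rw [h3]
        _ = A.map (MulAut.conj u).toMonoidHom := by
          rw [map_map' _ X⁻¹ X, inv_mul_cancel]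
          exact map_id _
    have h5 : A ≤ normalizer ((A.map (MulAut.conj u).toMonoidHom : Subgroup S) : Set S) := by
      rw [← hwgen] at hwn ⊢
      exact zpowers_le.2 hwn
    have h6 := eq_of_norm hp hc hAc (by rw [card_map_of_injective (MulAut.conj u).injective, hAc]) h5
    rw [hN, mem_normalizer_iff_map]
    exact h6.symm
  -- counting
  set B : Finset S := Finset.univ.filter fun g => g ∈ Bad A x with hB
  have hBc : (Bad A x).ncard = B.card := by
    rw [← Set.ncard_coe_finset]
    congr 1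
    ext g
    simp [hB]
  set B1 := B.filter fun g => g ∉ N with hB1
  have hNc : (Finset.univ.filter fun g => g ∈ N).card = Nat.card N := by
    rw [Nat.card_eq_fintype_card, Fintype.card_subtype]
  have hNc' : (Finset.univ.filter fun g => g ∉ N).card = Nat.card S - Nat.card N := by
    have h1 := Finset.card_filter_add_card_filter_not (s := (Finset.univ : Finset S)) (fun g => g ∈ N)
    rw [hNc, Finset.card_univ, ← Nat.card_eq_fintype_card] at h1
    omega
  have hle : B.card ≤ B1.card + Nat.card N := by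
    have h1 : (B.filter fun g => g ∈ N).card + B1.card = B.card :=
      Finset.card_filter_add_card_filter_not (s := B) (fun g => g ∈ N)
    have h2 : (B.filter fun g => g ∈ N).card ≤ Nat.card N := by
      rw [← hNc]
      exact Finset.card_le_card (Finset.filter_subset_filter _ (Finset.subset_univ _))
    omega
  have hNS : Nat.card N ≤ Nat.card S := Nat.card_le_card_of_injective _ N.subtype_injective
  have hdis : p * B1.card ≤ Nat.card S - Nat.card N := by
    rw [← hNc', ← hAc]
    have h1 : Nat.card A = (Finset.univ.filter fun g => g ∈ A).card := by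
      rw [Nat.card_eq_fintype_card, Fintype.card_subtype]
    rw [h1, ← Finset.card_product]
    refine Finset.card_le_card_of_injOn (fun z => z.1 * z.2) ?_ ?_
    · rintro ⟨a, b⟩ hz
      simp only [Finset.coe_product, Set.mem_prod, Finset.coe_filter, Finset.mem_univ, true_and, Set.mem_ofPred_eq,
        hB1] at hz ⊢
      intro h2
      exact hz.2.2 ((mul_mem_cancel_left (hAN hz.1)).1 h2)
    · rintro ⟨a, b⟩ hz ⟨a', b'⟩ hz' heq
      simp only [Finset.coe_product, Set.mem_prod, Finset.coe_filter, Finset.mem_univ, true_and, Set.mem_ofPred_eq,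
        hB1, hB] at hz hz' heq
      have h2 : a = a' := by
        refine key a hz.1 a' hz'.1 (a * b) ?_ ?_ ?_
        · rw [inv_mul_cancel_left]
          have := hz.2.1
          simpa using this
        · rw [heq, inv_mul_cancel_left]
          have := hz'.2.1
          simpa using this
        · intro h3
          exact hz.2.2 ((mul_mem_cancel_left (hAN hz.1)).1 h3)
      subst h2
      rw [mul_left_cancel heq]
  rw [hBc]
  have hp1 : 1 ≤ p := hp.one_lt.le
  obtain ⟨q, rfl⟩ : ∃ q, p = q + 1 := ⟨p - 1, by omega⟩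
  rw [Nat.add_sub_cancel]
  have h3 : (q + 1) * B.card ≤ (q + 1) * B1.card + (q + 1) * Nat.card N := by
    rw [← Nat.mul_add]
    exact Nat.mul_le_mul_left _ hle
  have h4 : (q + 1) * Nat.card N = q * Nat.card N + Nat.card N := by ring
  omega

/-- **Case 2**: `x` centralises `A`, and whenever it normalises a conjugate of `A` it centralises it -/
theorem card_bad_of_cent {p : ℕ} (hp : p.Prime) (hc : ∀ P : Subgroup S, IsPGroup p P → IsCyclic P)
    {A : Subgroup S} (hAc : Nat.card A = p) {x : MulAut S} (hx : A ≤ Fx x)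
    (hB : ∀ g ∈ Bad A x, A.map (MulAut.conj g).toMonoidHom ≤ Fx x) :
    (Bad A x).ncard * Nat.card ↥(Fx x ⊓ normalizer (A : Set S)) ≤
      Nat.card (Fx x) * Nat.card (normalizer (A : Set S)) := by
  classical
  have : Fact p.Prime := ⟨hp⟩
  have key : ∀ g ∈ Bad A x, ∃ c ∈ Fx x, ∃ n ∈ normalizer (A : Set S), g = c * n := by
    intro g hg
    have h1 := hB g hg
    have hA1 : IsPGroup p ↥(A.subgroupOf (Fx x)) := by
      refine IsPGroup.of_card (n := 1) ?_
      rw [Nat.card_congr (subgroupOfEquivOfLe hx).toEquiv, hAc, pow_one]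
    have hA2 : IsPGroup p ↥((A.map (MulAut.conj g).toMonoidHom).subgroupOf (Fx x)) := by
      refine IsPGroup.of_card (n := 1) ?_
      rw [Nat.card_congr (subgroupOfEquivOfLe h1).toEquiv, card_map_of_injective (MulAut.conj g).injective, hAc, pow_one]
    obtain ⟨P, hP⟩ := hA1.exists_le_sylow
    obtain ⟨Q, hQ⟩ := hA2.exists_le_sylow
    obtain ⟨c, hc'⟩ := MulAction.exists_smul_eq (Fx x) Q P
    have hPcyc : IsCyclic ↥((P : Subgroup (Fx x)).map (Fx x).subtype) := by
      apply hc
      exact P.isPGroup'.map _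
    have hAP : A ≤ (P : Subgroup (Fx x)).map (Fx x).subtype := by
      intro a ha
      exact ⟨⟨a, hx ha⟩, hP ha, rfl⟩
    have hAQ : A.map (MulAut.conj ((c : S) * g)).toMonoidHom ≤ (P : Subgroup (Fx x)).map (Fx x).subtype := by
      rintro _ ⟨a, ha, rfl⟩
      have h2 : g * a * g⁻¹ ∈ A.map (MulAut.conj g).toMonoidHom := ⟨a, ha, rfl⟩
      have h3 : (⟨g * a * g⁻¹, h1 h2⟩ : Fx x) ∈ (Q : Subgroup (Fx x)) := hQ h2
      refine ⟨c * ⟨g * a * g⁻¹, h1 h2⟩ * c⁻¹, ?_, ?_⟩
      · rw [← hc']
        exact ⟨_, h3, rfl⟩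
      · show (c : S) * (g * a * g⁻¹) * (c : S)⁻¹ = (c : S) * g * a * ((c : S) * g)⁻¹
        group
    have h4 := eq_of_card_eq_of_le_cyclic hPcyc hAQ hAP
      (by rw [card_map_of_injective (MulAut.conj ((c : S) * g)).injective])
    refine ⟨(c : S)⁻¹, inv_mem c.2, (c : S) * g, ?_, by group⟩
    rw [mem_normalizer_iff_map]
    exact h4
  choose! c hcF n hn hcn using key
  have e : (Bad A x).ncard = Nat.card (Bad A x) := rfl
  rw [e, ← Nat.card_prod, ← Nat.card_prod]
  refine Nat.card_le_card_of_injective (fun z : (Bad A x) × ↥(Fx x ⊓ normalizer (A : Set S)) =>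
    ((⟨c z.1 * z.2, mul_mem (hcF _ z.1.2) z.2.2.1⟩, ⟨(z.2 : S)⁻¹ * n z.1, mul_mem (inv_mem z.2.2.2) (hn _ z.1.2)⟩) :
      (Fx x) × (normalizer (A : Set S)))) ?_
  rintro ⟨g, t⟩ ⟨g', t'⟩ h
  simp only [Prod.mk.injEq, Subtype.mk.injEq] at h
  obtain ⟨h1, h2⟩ := h
  have h3 : (g : S) = g' := by
    rw [hcn _ g.2, hcn _ g'.2]
    calc c g * n g = (c g * t) * ((t : S)⁻¹ * n g) := by group
      _ = (c g' * t') * ((t' : S)⁻¹ * n g') := by rw [h1, h2]
      _ = c g' * n g' := by group
  have h4 : g = g' := Subtype.ext h3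
  subst h4
  have h5 : (t : S) = t' := mul_left_cancel h1
  rw [Prod.mk.injEq]
  exact ⟨rfl, Subtype.ext h5⟩

/-- proper subgroups of a simple group have index at least 3 -/
theorem three_le_index [IsSimpleGroup S] (hna : ¬ IsMulCommutative S) {N : Subgroup S} (hN : N ≠ ⊤) : 3 ≤ N.index := by
  by_contra hcon
  have h0 : N.index ≠ 0 := index_ne_zero_of_finite
  have hNn : N.Normal ∧ N.index ≤ 2 := by
    have h1 : N.index = 1 ∨ N.index = 2 := by omega
    rcases h1 with h1 | h1
    · exact absurd (index_eq_one.1 h1) hN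
    · exact ⟨normal_of_index_eq_two h1, h1.le⟩
  rcases hNn.1.eq_bot_or_eq_top with h1 | h1
  · rw [h1, index_bot] at hNn
    apply hna
    rcases Nat.lt_or_ge (Nat.card S) 2 with h2 | h2
    · have h3 : Nat.card S ≤ 1 := by omega
      have := (Finite.card_le_one_iff_subsingleton).1 h3
      exact ⟨⟨fun a b => Subsingleton.elim _ _⟩⟩
    · have h3 : Nat.card S = 2 := le_antisymm hNn.2 h2
      have : Fact (Nat.Prime 2) := ⟨Nat.prime_two⟩
      have := isCyclic_of_prime_card h3
      exact ⟨⟨fun a b => by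
        obtain ⟨g, hg⟩ := IsCyclic.exists_generator (α := S)
        obtain ⟨i, rfl⟩ := mem_zpowers_iff.1 (hg a)
        obtain ⟨j, rfl⟩ := mem_zpowers_iff.1 (hg b)
        rw [← zpow_add, ← zpow_add, add_comm]⟩⟩
  · exact hN h1

/-- the normaliser of a subgroup of prime order is proper -/
theorem norm_ne_top [IsSimpleGroup S] (hna : ¬ IsMulCommutative S) {p : ℕ} (hp : p.Prime) {A : Subgroup S}
    (hAc : Nat.card A = p) : normalizer (A : Set S) ≠ ⊤ := by
  intro h1
  have h2 : A.Normal := normalizer_eq_top_iff.1 h1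
  rcases h2.eq_bot_or_eq_top with h3 | h3
  · rw [h3, card_bot] at hAc
    exact hp.one_lt.ne hAc
  · apply hna
    have : Fact p.Prime := ⟨hp⟩
    rw [h3, card_top] at hAc
    have := isCyclic_of_prime_card hAc
    exact ⟨⟨fun a b => by
      obtain ⟨g, hg⟩ := IsCyclic.exists_generator (α := S)
      obtain ⟨i, rfl⟩ := mem_zpowers_iff.1 (hg a)
      obtain ⟨j, rfl⟩ := mem_zpowers_iff.1 (hg b)
      rw [← zpow_add, ← zpow_add, add_comm]⟩⟩

/-- **The criterion for cyclic Sylow subgroups.** -/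
theorem AS2.of_cyclic [IsSimpleGroup S] (hna : ¬ IsMulCommutative S) {p : ℕ} (hp : p.Prime) (h5 : 5 ≤ p)
    (hc : ∀ P : Subgroup S, IsPGroup p P → IsCyclic P) {y : S} (hy : SUel p y) {A : Subgroup S}
    (hA : A ≤ zpowers y) (hAc : Nat.card A = p)
    (h : ∀ x : MulAut S, (orderOf x).Prime → (∀ a ∈ A, x a = a) →
      2 * Nat.card (normalizer (A : Set S)) <
        Nat.card ↥(Fx x ⊓ normalizer (A : Set S)) * (Fx x).index) : AS2 S := by
  classical
  have hcen : center S = ⊥ := by
    rcases (inferInstance : (center S).Normal).eq_bot_or_eq_top with h1 | h1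
    · exact h1
    · exfalso
      apply hna
      refine ⟨⟨fun a b => ?_⟩⟩
      have : b ∈ center S := by rw [h1]; trivial
      exact mem_center_iff.1 this a
  set N := normalizer (A : Set S) with hN
  -- the index of N
  have hNidx : 3 ≤ N.index := three_le_index hna (norm_ne_top hna hp hAc)
  refine AS2.of_half hcen hy hA hAc fun x hx => ?_
  have hfix : ∀ g : S, (∀ a ∈ A, ((MulAut.conj g)⁻¹ * x * MulAut.conj g) a = a) →
      A.map (MulAut.conj g).toMonoidHom ≤ Fx x := by
    rintro g hg _ ⟨a, ha, rfl⟩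
    have h1 := congrArg (MulAut.conj g) (hg a ha)
    rw [MulAut.mul_apply, MulAut.mul_apply, MulAut.apply_inv_self] at h1
    exact h1
  by_cases hcase : ∃ g ∈ Bad A x, ¬ ∀ a ∈ A, ((MulAut.conj g)⁻¹ * x * MulAut.conj g) a = a
  · obtain ⟨g, hg, hgc⟩ := hcase
    rw [← ncard_bad_conj A x g]
    have h1 := card_bad_of_not_cent hp hc hAc (mem_bad.1 hg) hgc
    rw [← hN] at h1
    generalize (Bad A ((MulAut.conj g)⁻¹ * x * MulAut.conj g)).ncard = b at h1 ⊢
    have h2 : Nat.card S = Nat.card N * N.index := N.card_mul_index.symm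
    have h3 : 3 * Nat.card N ≤ Nat.card S := by
      rw [h2, mul_comm]
      exact Nat.mul_le_mul_left _ hNidx
    have h4 : 0 < Nat.card N := Nat.card_pos
    obtain ⟨k, rfl⟩ : ∃ k, p = k + 5 := ⟨p - 5, by omega⟩
    have e1 : k + 5 - 1 = k + 4 := rfl
    rw [e1] at h1
    by_contra hcon
    push Not at hcon
    have h6 : (k + 5) * Nat.card S ≤ 2 * ((k + 5) * b) := by
      calc (k + 5) * Nat.card S ≤ (k + 5) * (2 * b) := Nat.mul_le_mul_left _ hcon
        _ = 2 * ((k + 5) * b) := by ring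
    have h7 : (k + 3) * Nat.card S ≤ 2 * (k + 4) * Nat.card N := by
      have e2 : (k + 5) * Nat.card S = (k + 3) * Nat.card S + 2 * Nat.card S := by ring
      have e3 : 2 * ((k + 4) * Nat.card N) = 2 * (k + 4) * Nat.card N := by ring
      omega
    have h8 : (k + 3) * (3 * Nat.card N) ≤ (k + 3) * Nat.card S := Nat.mul_le_mul_left _ h3
    have e4 : (k + 3) * (3 * Nat.card N) = 2 * (k + 4) * Nat.card N + (k + 1) * Nat.card N := by ring
    have h9 : 0 < (k + 1) * Nat.card N := Nat.mul_pos (by omega) h4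
    omega
  · push Not at hcase
    rcases (Bad A x).eq_empty_or_nonempty with h0 | ⟨g0, hg0⟩
    · rw [h0, Set.ncard_empty]
      exact Nat.card_pos
    rw [← ncard_bad_conj A x g0]
    have hz := hcase g0 hg0
    have hzo : (orderOf ((MulAut.conj g0)⁻¹ * x * MulAut.conj g0)).Prime := by rw [orderOf_conj]; exact hx
    have hzB : ∀ g ∈ Bad A ((MulAut.conj g0)⁻¹ * x * MulAut.conj g0),
        A.map (MulAut.conj g).toMonoidHom ≤ Fx ((MulAut.conj g0)⁻¹ * x * MulAut.conj g0) := by
      intro g hg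
      have e : (MulAut.conj g)⁻¹ * ((MulAut.conj g0)⁻¹ * x * MulAut.conj g0) * MulAut.conj g =
          (MulAut.conj (g0 * g))⁻¹ * x * MulAut.conj (g0 * g) := by
        rw [map_mul]; group
      have h1 : g0 * g ∈ Bad A x := by
        rw [mem_bad] at hg ⊢
        rw [← e]
        exact hg
      rintro _ ⟨a, ha, rfl⟩
      have h2 := hcase _ h1 a ha
      rw [← e] at h2
      have h3 := congrArg (MulAut.conj g) h2
      rw [MulAut.mul_apply, MulAut.mul_apply, MulAut.apply_inv_self] at h3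
      exact h3
    set z := (MulAut.conj g0)⁻¹ * x * MulAut.conj g0 with hzdef
    have h1 := card_bad_of_cent hp hc hAc (x := z) (fun a ha => hz a ha) hzB
    have h2 := h z hzo hz
    by_contra hcon
    push Not at hcon
    rw [← (Fx z).card_mul_index] at hcon
    have hF : 0 < Nat.card (Fx z) := Nat.card_pos
    have h3 : Nat.card (Fx z) * (Nat.card ↥(Fx z ⊓ N) * (Fx z).index) ≤ Nat.card (Fx z) * (2 * Nat.card N) := by
      calc Nat.card (Fx z) * (Nat.card ↥(Fx z ⊓ N) * (Fx z).index)
          = (Nat.card (Fx z) * (Fx z).index) * Nat.card ↥(Fx z ⊓ N) := by ring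
        _ ≤ (2 * (Bad A z).ncard) * Nat.card ↥(Fx z ⊓ N) := Nat.mul_le_mul_right _ hcon
        _ = 2 * ((Bad A z).ncard * Nat.card ↥(Fx z ⊓ N)) := by ring
        _ ≤ 2 * (Nat.card (Fx z) * Nat.card N) := Nat.mul_le_mul_left _ h1
        _ = Nat.card (Fx z) * (2 * Nat.card N) := by ring
    have h4 := Nat.le_of_mul_le_mul_left h3 hF
    omega

/-! ### the rows -/

/-- coprime action: `N = C_N(x) T`, `T = C_S(A)` -/
theorem coprime_fix {A : Subgroup S} {x : MulAut S} (hx : ∀ a ∈ A, x a = a) (hs : (orderOf x).Prime)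
    (hd : ¬ orderOf x ∣ Nat.card ↥(centralizer (A : Set S))) :
    Nat.card (normalizer (A : Set S)) * Nat.card ↥(Fx x ⊓ centralizer (A : Set S)) ≤
      Nat.card ↥(Fx x ⊓ normalizer (A : Set S)) * Nat.card ↥(centralizer (A : Set S)) := by
  classical
  set T := centralizer (A : Set S) with hT
  set N := normalizer (A : Set S) with hN
  have hTN : T ≤ N := by
    rw [hT, hN]
    exact centralizer_le_normalizer _
  have hxN : ∀ m ∈ N, ∀ a ∈ A, x m * a * (x m)⁻¹ = m * a * m⁻¹ := by
    intro m hm a ha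
    have h1 : m * a * m⁻¹ ∈ A := (mem_normalizer_iff.1 hm a).1 ha
    have h2 := hx _ h1
    rw [map_mul, map_mul, map_inv, hx a ha] at h2
    exact h2
  have key : ∀ n ∈ N, ∃ m ∈ Fx x ⊓ N, ∃ t ∈ T, n = m * t := by
    intro n hn
    have hf : ∀ (k : ℕ) (t : T), n⁻¹ * (x ^ k) (n * t) ∈ T := by
      intro k t
      have hxk : ∀ k : ℕ, ∀ m ∈ N, ∀ a ∈ A, (x ^ k) m * a * ((x ^ k) m)⁻¹ = m * a * m⁻¹ := by
        intro k m hm a ha
        have h1 : m * a * m⁻¹ ∈ A := (mem_normalizer_iff.1 hm a).1 ha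
        have h3 : ∀ a ∈ A, (x ^ k) a = a := by
          intro a ha
          induction k with
          | zero => rfl
          | succ k ih => rw [pow_succ, MulAut.mul_apply, hx a ha, ih]
        have h2 := h3 _ h1
        rw [map_mul, map_mul, map_inv, h3 a ha] at h2
        exact h2
      have goal : ∀ a ∈ A, a * (n⁻¹ * (x ^ k) (n * t)) = n⁻¹ * (x ^ k) (n * t) * a := ?_
      · exact mem_centralizer_iff.2 goal
      intro a ha
      have h1 := hxk k (n * t) (mul_mem hn (hTN t.2)) a ha
      have h2 : (t : S) * a * (t : S)⁻¹ = a := by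
        have := (mem_centralizer_iff.1 t.2) a ha
        rw [← this]; group
      have h3 : (x ^ k) (n * t) * a * ((x ^ k) (n * t))⁻¹ = n * a * n⁻¹ := by
        rw [h1]
        calc n * t * a * (n * t)⁻¹ = n * (t * a * (t : S)⁻¹) * n⁻¹ := by group
          _ = n * a * n⁻¹ := by rw [h2]
      generalize (x ^ k) (n * t) = w at h3 ⊢
      calc a * (n⁻¹ * w) = n⁻¹ * (n * a * n⁻¹) * w := by group
        _ = n⁻¹ * (w * a * w⁻¹) * w := by rw [h3]
        _ = n⁻¹ * w * a := by group
    let f : Function.End T := fun t => ⟨n⁻¹ * x (n * t), by have := hf 1 t; rwa [pow_one] at this⟩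
    have hfk : ∀ (k : ℕ) (t : T), ((f ^ k) t : S) = n⁻¹ * (x ^ k) (n * t) := by
      intro k t
      induction k with
      | zero => show (t : S) = n⁻¹ * (n * t); group
      | succ k ih =>
        rw [pow_succ']
        show n⁻¹ * x (n * ((f ^ k) t : T)) = _
        rw [ih, pow_succ', MulAut.mul_apply, mul_inv_cancel_left]
    have hfp : f ^ (orderOf x) ^ 1 = 1 := by
      rw [pow_one]
      funext t
      apply Subtype.ext
      rw [hfk, pow_orderOf_eq_one]
      show n⁻¹ * (n * t) = (t : S)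
      group
    have : Fact (orderOf x).Prime := ⟨hs⟩
    have := Fintype.ofFinite T
    have h1 := Equiv.Perm.card_fixedPoints_modEq hfp
    have h2 : (Fintype.card f.fixedPoints) ≠ 0 := by
      intro h0
      rw [h0] at h1
      apply hd
      rw [Nat.card_eq_fintype_card]
      exact (Nat.modEq_zero_iff_dvd).1 h1
    have h3 : Nonempty f.fixedPoints := by
      rw [← Fintype.card_pos_iff]
      exact Nat.pos_of_ne_zero h2
    obtain ⟨t, ht⟩ := h3
    have h4 : f t = t := ht
    have h5 := congrArg (Subtype.val) h4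
    have h6 : n⁻¹ * x (n * t) = (t : S) := h5
    refine ⟨n * t, ⟨?_, mul_mem hn (hTN t.2)⟩, (t : S)⁻¹, inv_mem t.2, by group⟩
    show x (n * t) = n * t
    calc x (n * t) = n * (n⁻¹ * x (n * t)) := by group
      _ = n * t := by rw [h6]
  choose! m hm t ht hn using key
  rw [← Nat.card_prod, ← Nat.card_prod]
  refine Nat.card_le_card_of_injective (fun z : N × ↥(Fx x ⊓ T) =>
    ((⟨m z.1 * z.2, mul_mem (hm _ z.1.2) ⟨z.2.2.1, hTN z.2.2.2⟩⟩, ⟨(z.2 : S)⁻¹ * t z.1, mul_mem (inv_mem z.2.2.2) (ht _ z.1.2)⟩) :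
      ↥(Fx x ⊓ N) × T)) ?_
  rintro ⟨g, r⟩ ⟨g', r'⟩ h
  simp only [Prod.mk.injEq, Subtype.mk.injEq] at h
  obtain ⟨h1, h2⟩ := h
  have h3 : (g : S) = g' := by
    rw [hn _ g.2, hn _ g'.2]
    calc m g * t g = (m g * r) * ((r : S)⁻¹ * t g) := by group
      _ = (m g' * r') * ((r' : S)⁻¹ * t g') := by rw [h1, h2]
      _ = m g' * t g' := by group
  have h4 : g = g' := Subtype.ext h3
  subst h4
  have h5 : (r : S) = r' := mul_left_cancel h1
  rw [Prod.mk.injEq]
  exact ⟨rfl, Subtype.ext h5⟩

theorem centralizer_zp (z : S) : centralizer ((zpowers z : Subgroup S) : Set S) = centralizer {z} := by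
  apply le_antisymm
  · apply centralizer_le
    rw [Set.singleton_subset_iff]
    exact mem_zpowers z
  · intro g hg
    rw [mem_centralizer_iff] at hg ⊢
    rintro _ ⟨i, rfl⟩
    have h1 : Commute z g := hg z rfl
    exact (h1.zpow_left i)

theorem card_norm_le {A : Subgroup S} {p : ℕ} (hp : p.Prime) (hAc : Nat.card A = p) :
    Nat.card (normalizer (A : Set S)) ≤ (p - 1) * Nat.card ↥(centralizer (A : Set S)) := by
  have : Fact p.Prime := ⟨hp⟩
  have h1 : Nat.card A.normalizerMonoidHom.range ≤ p - 1 := by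
    have : IsCyclic A := isCyclic_of_prime_card hAc
    have h2 : Nat.card (MulAut A) = p - 1 := by
      rw [IsCyclic.card_mulAut, hAc, Nat.totient_prime hp]
    rw [← h2]
    have : Finite (MulAut A) := inferInstance
    exact Nat.card_le_card_of_injective _ (Subgroup.subtype_injective _)
  have h2 : Nat.card (normalizer (A : Set S)) = Nat.card A.normalizerMonoidHom.range * Nat.card A.normalizerMonoidHom.ker := by
    rw [← index_ker, mul_comm, card_mul_index]
  have h3 : Nat.card A.normalizerMonoidHom.ker = Nat.card ↥(centralizer (A : Set S)) := by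
    rw [normalizerMonoidHom_ker]
    exact Nat.card_congr (subgroupOfEquivOfLe (centralizer_le_normalizer _)).toEquiv
  rw [h2, h3]
  exact Nat.mul_le_mul_right _ h1

section Row

variable [IsSimpleGroup S] {p a : ℕ} {y : S}

/-- **General row**: only automorphisms of prime order `≠ p` centralising `A` matter. -/
theorem AS2.of_gen (hna : ¬ IsMulCommutative S) (hr : SURow S p a y) (h5 : 5 ≤ p)
    (h : ∀ x : MulAut S, (orderOf x).Prime → orderOf x ≠ p → x (y ^ p ^ (a - 1)) = y ^ p ^ (a - 1) →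
      2 * Nat.card (normalizer ((zpowers (y ^ p ^ (a - 1)) : Subgroup S) : Set S)) <
        Nat.card ↥(Fx x ⊓ normalizer ((zpowers (y ^ p ^ (a - 1)) : Subgroup S) : Set S)) * (Fx x).index) : AS2 S := by
  have hp := hr.hp
  have : Fact p.Prime := ⟨hp⟩
  have hc := pcyc hp hr.ord hr.full
  have hA : zpowers (y ^ p ^ (a - 1)) ≤ zpowers y := zpowers_le.2 (npow_mem_zpowers _ _)
  have hAc : Nat.card (zpowers (y ^ p ^ (a - 1))) = p := card_socle hr.ord hr.ha
  set z := y ^ p ^ (a - 1) with hz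
  refine AS2.of_cyclic hna hp h5 hc hr.su hA hAc fun x hx hxA => ?_
  by_cases hxp : orderOf x = p
  · -- inner
    obtain ⟨u, hu⟩ := hr.inn x ⟨1, by rw [hxp, pow_one]⟩
    have hcen : center S = ⊥ := by
      rcases (inferInstance : (center S).Normal).eq_bot_or_eq_top with h1 | h1
      · exact h1
      · exfalso
        apply hna
        refine ⟨⟨fun a b => ?_⟩⟩
        have : b ∈ center S := by rw [h1]; trivial
        exact mem_center_iff.1 this a
    have huo : orderOf u = p := by
      rw [← hxp, hu, orderOf_injective (MulAut.conj : S →* MulAut S) (conj_injective hcen) u]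
    have huA : ∀ a ∈ zpowers z, u * a = a * u := by
      intro a ha
      have h1 := hxA a ha
      rw [hu] at h1
      have h2 : u * a * u⁻¹ = a := h1
      calc u * a = u * a * u⁻¹ * u := by group
        _ = a * u := by rw [h2]
    have h1 : zpowers u = zpowers z := by
      refine eq_of_norm hp hc (by rw [Nat.card_zpowers, huo]) hAc ?_
      rw [zpowers_le]
      apply (centralizer_le_normalizer _)
      rw [mem_centralizer_iff]
      intro a ha
      exact (huA a ha).symm
    have h2 : Fx x = centralizer ((zpowers z : Subgroup S) : Set S) := by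
      rw [← h1, centralizer_zp]
      ext v
      rw [mem_Fx, hu, mem_centralizer_singleton_iff]
      show u * v * u⁻¹ = v ↔ _
      rw [mul_inv_eq_iff_eq_mul]
      exact eq_comm
    have h3 : Fx x ⊓ normalizer ((zpowers z : Subgroup S) : Set S) = Fx x := by
      rw [inf_eq_left, h2]
      exact centralizer_le_normalizer _
    rw [h3, card_mul_index]
    -- index of N ≥ 3
    set N := normalizer ((zpowers z : Subgroup S) : Set S) with hN
    have hNidx : 3 ≤ N.index := three_le_index hna (norm_ne_top hna hp hAc)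
    rw [← N.card_mul_index]
    have h4 : 0 < Nat.card N := Nat.card_pos
    calc 2 * Nat.card N < 3 * Nat.card N := by omega
      _ = Nat.card N * 3 := by ring
      _ ≤ Nat.card N * N.index := Nat.mul_le_mul_left _ hNidx
  · exact h x hx hxp (hxA z (mem_zpowers z))

theorem fix_all {x : MulAut S} {z : S} (h : x z = z) : ∀ a ∈ zpowers z, x a = a := by
  rintro _ ⟨i, rfl⟩
  show x (z ^ i) = z ^ i
  rw [map_zpow, h]

/-- an automorphism of prime order `≠ p` acting on `⟨y⟩`, trivial on the socle, is trivial on `⟨y⟩` -/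
theorem fix_y {S : Type*} [Group S] {p a : ℕ} {y : S} (hp : p.Prime) (ha : 1 ≤ a) (hord : orderOf y = p ^ a) {x : MulAut S}
    (hx : (orderOf x).Prime) (hxp : orderOf x ≠ p) (hxz : x (y ^ p ^ (a - 1)) = y ^ p ^ (a - 1))
    (hxy : x y ∈ zpowers y) : x y = y := by
  obtain ⟨k, hk⟩ := mem_zpowers_iff.1 hxy
  set s := orderOf x with hs
  have hpow : ∀ n : ℕ, (x ^ n) y = y ^ (k ^ n) := by
    intro n
    induction n with
    | zero => simp
    | succ n ih => rw [pow_succ, MulAut.mul_apply, ← hk, map_zpow, ih, ← zpow_mul, pow_succ]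
  have h1 : y ^ (k ^ s) = y := by rw [← hpow, hs, pow_orderOf_eq_one]; rfl
  have h2 : (p ^ a : ℤ) ∣ k ^ s - 1 := by
    have h3 : y ^ (k ^ s - 1) = 1 := by rw [zpow_sub_one, h1, mul_inv_cancel]
    have := orderOf_dvd_iff_zpow_eq_one.2 h3
    rw [hord] at this
    exact_mod_cast this
  have h3 : (p : ℤ) ∣ k - 1 := by
    rw [map_pow, ← hk] at hxz
    have h4 : y ^ ((p ^ (a - 1) : ℕ) * (k - 1) : ℤ) = 1 := by
      have e : ((p ^ (a - 1) : ℕ) * (k - 1) : ℤ) = k * (p ^ (a - 1) : ℕ) - (p ^ (a - 1) : ℕ) := by ring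
      rw [e, zpow_sub, zpow_mul, zpow_natCast, hxz, zpow_natCast, mul_inv_cancel]
    have h5 := orderOf_dvd_iff_zpow_eq_one.2 h4
    rw [hord] at h5
    have h6 : ((p ^ (a - 1) : ℕ) * (p : ℤ)) ∣ ((p ^ (a - 1) : ℕ) * (k - 1) : ℤ) := by
      have e : ((p ^ (a - 1) : ℕ) * (p : ℤ)) = ((p ^ a : ℕ) : ℤ) := by
        have : p ^ a = p ^ (a - 1) * p := by rw [← pow_succ]; congr 1; omega
        rw [this]; push_cast; ring
      rw [e]
      exact h5
    have h7 : ((p ^ (a - 1) : ℕ) : ℤ) ≠ 0 := by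
      have := pow_pos hp.pos (a - 1)
      exact_mod_cast this.ne'
    exact Int.dvd_of_mul_dvd_mul_left h7 h6
  have h4 : (p ^ a : ℤ) ∣ k - 1 := by
    have e : k ^ s - 1 = (∑ i ∈ Finset.range s, k ^ i) * (k - 1) := (geom_sum_mul k s).symm
    rw [e] at h2
    refine IsCoprime.dvd_of_dvd_mul_left ?_ h2
    apply IsCoprime.pow_left
    rw [Int.isCoprime_iff_gcd_eq_one]
    have h5 : (p : ℤ) ∣ (∑ i ∈ Finset.range s, k ^ i) - s := by
      have e2 : ((s : ℕ) : ℤ) = ∑ i ∈ Finset.range s, (1 : ℤ) ^ i := by simp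
      rw [e2, ← Finset.sum_sub_distrib]
      refine Finset.dvd_sum fun i _ => ?_
      exact h3.trans (sub_dvd_pow_sub_pow k 1 i)
    have h6 : ¬ (p : ℤ) ∣ ∑ i ∈ Finset.range s, k ^ i := by
      intro h7
      have h8 : (p : ℤ) ∣ s := by
        have := (dvd_sub_right h7).1 h5
        exact this
      have h9 : p ∣ s := by exact_mod_cast h8
      exact hxp ((Nat.prime_dvd_prime_iff_eq hp hx).1 h9).symm
    have h7 := (Nat.Prime.coprime_iff_not_dvd hp (n := (∑ i ∈ Finset.range s, k ^ i).natAbs)).2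
      (fun h8 => h6 (Int.natCast_dvd.2 h8))
    rw [Int.gcd, Int.natAbs_natCast]
    exact h7
  have h5 : y ^ (k - 1) = 1 := by
    rw [← orderOf_dvd_iff_zpow_eq_one, hord]
    exact_mod_cast h4
  rw [← hk]
  rw [zpow_sub_one, mul_inv_eq_one] at h5
  exact h5

/-- if `C_S(A)` has order `p ^ a`, nothing is needed -/
theorem AS2.of_self (hna : ¬ IsMulCommutative S) (hr : SURow S p a y) (h5 : 5 ≤ p)
    (hc : Nat.card ↥(centralizer ({y ^ p ^ (a - 1)} : Set S)) = p ^ a) : AS2 S := by
  refine AS2.of_gen hna hr h5 fun x hx hxp hxz => ?_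
  have hp := hr.hp
  have : Fact p.Prime := ⟨hp⟩
  set z := y ^ p ^ (a - 1) with hz
  have hAc : Nat.card (zpowers z) = p := card_socle hr.ord hr.ha
  set N := normalizer ((zpowers z : Subgroup S) : Set S) with hN
  set T := centralizer ((zpowers z : Subgroup S) : Set S) with hT
  have hTc : Nat.card T = p ^ a := by rw [hT, centralizer_zp, hc]
  have hxA := fix_all hxz
  have hnd : ¬ orderOf x ∣ Nat.card T := by
    rw [hTc]
    intro hd
    exact hxp ((Nat.prime_dvd_prime_iff_eq hx hp).1 (hx.dvd_of_dvd_pow hd))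
  have h1 := coprime_fix hxA hx hnd
  rw [← hN, ← hT] at h1
  have hTcyc : T = zpowers y := by
    symm
    apply Subgroup.eq_of_le_of_card_ge
    · rw [hT, centralizer_zp, zpowers_le, mem_centralizer_singleton_iff, hz, ← pow_succ, ← pow_succ']
    · rw [hTc, Nat.card_zpowers, hr.ord]
  -- x fixes y
  have hxy : x y = y := by
    have h2 : x y ∈ zpowers y := by
      rw [← hTcyc, hT, centralizer_zp, mem_centralizer_singleton_iff]
      have h3 : x (y * z) = x (z * y) := by
        congr 1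
        rw [hz, ← pow_succ, ← pow_succ']
      rw [map_mul, map_mul, hxz] at h3
      exact h3
    exact fix_y hp hr.ha hr.ord hx hxp hxz h2
  have hTF : T ≤ Fx x := by
    rw [hTcyc, zpowers_le]
    exact hxy
  have h2 : Fx x ⊓ T = T := inf_eq_right.2 hTF
  rw [h2] at h1
  have h3 := Nat.le_of_mul_le_mul_right h1 Nat.card_pos
  have h4 : 3 ≤ (Fx x).index := three_le_index hna (Fx_ne_top fun h => by
    rw [h, orderOf_one] at hx
    exact Nat.not_prime_one hx)
  have h5 : 0 < Nat.card N := Nat.card_pos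
  calc 2 * Nat.card N < 3 * Nat.card N := by omega
    _ = Nat.card N * 3 := by ring
    _ ≤ Nat.card ↥(Fx x ⊓ N) * (Fx x).index := Nat.mul_le_mul h3 h4

/-- with a bound `e` for `|N_S(A) : C_S(A)|`, `c` for `|C_S(A)|` and `b` for the indices -/
theorem AS2.of_row_e (hna : ¬ IsMulCommutative S) (hr : SURow S p a y) (h5 : 5 ≤ p) {c b e : ℕ}
    (hc : Nat.card ↥(centralizer ({y ^ p ^ (a - 1)} : Set S)) ≤ c)
    (he : Nat.card (normalizer ((zpowers (y ^ p ^ (a - 1)) : Subgroup S) : Set S)) ≤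
      e * Nat.card ↥(centralizer ({y ^ p ^ (a - 1)} : Set S)))
    (hb : ∀ H : Subgroup S, H ≠ ⊤ → b ≤ H.index) (h : 2 * (e * c) < p * b) : AS2 S := by
  refine AS2.of_gen hna hr h5 fun x hx hxp hxz => ?_
  have hp := hr.hp
  have : Fact p.Prime := ⟨hp⟩
  set z := y ^ p ^ (a - 1) with hz
  have hAc : Nat.card (zpowers z) = p := card_socle hr.ord hr.ha
  have hxA := fix_all hxz
  have h1 : p ≤ Nat.card ↥(Fx x ⊓ normalizer ((zpowers z : Subgroup S) : Set S)) := by
    have h1 : zpowers z ≤ Fx x ⊓ normalizer ((zpowers z : Subgroup S) : Set S) :=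
      le_inf (fun a ha => hxA a ha) le_normalizer
    have := Nat.card_le_card_of_injective _ (inclusion_injective h1)
    rwa [hAc] at this
  have h2 : b ≤ (Fx x).index := hb _ (Fx_ne_top fun h => by
    rw [h, orderOf_one] at hx
    exact Nat.not_prime_one hx)
  calc 2 * Nat.card (normalizer ((zpowers z : Subgroup S) : Set S)) ≤ 2 * (e * c) :=
        Nat.mul_le_mul_left _ (he.trans (Nat.mul_le_mul_left _ hc))
    _ < p * b := h
    _ ≤ _ := Nat.mul_le_mul h1 h2

/-- `2 |C_S(A)| ≤ b` suffices -/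
theorem AS2.of_row (hna : ¬ IsMulCommutative S) (hr : SURow S p a y) (h5 : 5 ≤ p) {c b : ℕ}
    (hc : Nat.card ↥(centralizer ({y ^ p ^ (a - 1)} : Set S)) ≤ c)
    (hb : ∀ H : Subgroup S, H ≠ ⊤ → b ≤ H.index) (h : 2 * c ≤ b) : AS2 S := by
  have hp := hr.hp
  have : Fact p.Prime := ⟨hp⟩
  have hAc : Nat.card (zpowers (y ^ p ^ (a - 1))) = p := card_socle hr.ord hr.ha
  have h1 := card_norm_le hp hAc
  rw [centralizer_zp] at h1
  refine AS2.of_row_e hna hr h5 hc h1 hb ?_
  have h2 : 0 < c := lt_of_lt_of_le Nat.card_pos hc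
  obtain ⟨k, rfl⟩ : ∃ k, p = k + 1 := ⟨p - 1, by omega⟩
  rw [Nat.add_sub_cancel]
  calc 2 * (k * c) = k * (2 * c) := by ring
    _ ≤ k * b := Nat.mul_le_mul_left _ h
    _ < (k + 1) * b := by
      have : 0 < b := by omega
      nlinarith

/-- **Row for abelian `C_S(A)`.** -/
theorem AS2.of_row_ab (hna : ¬ IsMulCommutative S) (hr : SURow S p a y) (h5 : 5 ≤ p) {c b e : ℕ}
    (hab : ∀ u ∈ centralizer ({y ^ p ^ (a - 1)} : Set S), ∀ v ∈ centralizer ({y ^ p ^ (a - 1)} : Set S), u * v = v * u)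
    (hc : Nat.card ↥(centralizer ({y ^ p ^ (a - 1)} : Set S)) ≤ c)
    (he : Nat.card (normalizer ((zpowers (y ^ p ^ (a - 1)) : Subgroup S) : Set S)) ≤
      e * Nat.card ↥(centralizer ({y ^ p ^ (a - 1)} : Set S)))
    (hb : ∀ H : Subgroup S, H ≠ ⊤ → b ≤ H.index) (h1 : 2 * e < b)
    (h2 : ∀ s : ℕ, s.Prime → s ∣ Nat.card (Cfsg.Out S) → s ≠ p → 2 * (e * c) < p ^ a * b ∨
      (¬ s ∣ Nat.card ↥(centralizer ({y ^ p ^ (a - 1)} : Set S)) ∧ 2 * c < p ^ a * b)) : AS2 S := by
  refine AS2.of_gen hna hr h5 fun x hx hxp hxz => ?_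
  have hp := hr.hp
  have : Fact p.Prime := ⟨hp⟩
  have hbx : b ≤ (Fx x).index := hb _ (Fx_ne_top fun h => by
    rw [h, orderOf_one] at hx
    exact Nat.not_prime_one hx)
  set z := y ^ p ^ (a - 1) with hz
  have hAc : Nat.card (zpowers z) = p := card_socle hr.ord hr.ha
  have hxA := fix_all hxz
  rw [← centralizer_zp z] at hc he h2
  have hab' : ∀ u ∈ centralizer ((zpowers z : Subgroup S) : Set S), ∀ v ∈ centralizer ((zpowers z : Subgroup S) : Set S),
      u * v = v * u := by
    rw [centralizer_zp]; exact hab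
  set N := normalizer ((zpowers z : Subgroup S) : Set S) with hN
  set T := centralizer ((zpowers z : Subgroup S) : Set S) with hT
  have hTN : T ≤ N := centralizer_le_normalizer _
  have hTpos : 0 < Nat.card T := Nat.card_pos
  have hyT : y ∈ T := by
    rw [hT, centralizer_zp, mem_centralizer_singleton_iff, hz, ← pow_succ, ← pow_succ']
  by_cases hinn : ∃ u : S, x = MulAut.conj u
  · obtain ⟨u, hu⟩ := hinn
    have huT : u ∈ T := by
      rw [hT, centralizer_zp, mem_centralizer_singleton_iff]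
      rw [hu] at hxz
      have h3 : u * z * u⁻¹ = z := hxz
      exact mul_inv_eq_iff_eq_mul.1 h3
    have h3 : T ≤ Fx x ⊓ N := by
      refine le_inf (fun v hv => ?_) hTN
      rw [mem_Fx, hu]
      show u * v * u⁻¹ = v
      rw [hab' u huT v hv]; group
    have h4 := Nat.card_le_card_of_injective _ (inclusion_injective h3)
    calc 2 * Nat.card N ≤ 2 * (e * Nat.card T) := Nat.mul_le_mul_left _ he
      _ = Nat.card T * (2 * e) := by ring
      _ < Nat.card T * b := Nat.mul_lt_mul_of_pos_left h1 hTpos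
      _ ≤ _ := Nat.mul_le_mul h4 hbx
  · have hsO : orderOf x ∣ Nat.card (Cfsg.Out S) := by
      have h3 : orderOf (QuotientGroup.mk' (Cfsg.Inn S) x) ∣ orderOf x := orderOf_map_dvd _ x
      have h4 : orderOf (QuotientGroup.mk' (Cfsg.Inn S) x) ∣ Nat.card (Cfsg.Out S) := orderOf_dvd_natCard _
      rcases (Nat.dvd_prime hx).1 h3 with h5 | h5
      · exfalso
        apply hinn
        rw [orderOf_eq_one_iff] at h5
        have h6 : x ∈ Cfsg.Inn S := (QuotientGroup.eq_one_iff x).1 h5
        obtain ⟨g, hg⟩ := h6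
        exact ⟨g, hg.symm⟩
      · rwa [h5] at h4
    have hxy : x y = y := by
      refine fix_y hp hr.ha hr.ord hx hxp hxz ?_
      have hxyT : x y ∈ T := by
        rw [hT, centralizer_zp, mem_centralizer_singleton_iff]
        have h3 : x (y * z) = x (z * y) := by
          congr 1
          rw [hz, ← pow_succ, ← pow_succ']
        rw [map_mul, map_mul, hxz] at h3
        exact h3
      have hpy : IsPGroup p (zpowers y) := IsPGroup.of_card (n := a) (by rw [Nat.card_zpowers, hr.ord])
      have hpx : IsPGroup p (zpowers (x y)) := IsPGroup.of_card (n := a) (by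
        rw [Nat.card_zpowers, MulEquiv.orderOf_eq, hr.ord])
      have hcomm : Commute y (x y) := hab' y hyT _ hxyT
      have h3 : IsPGroup p ↥(zpowers y ⊔ zpowers (x y)) := by
        refine hpy.to_sup_of_normal_right' hpx ?_
        rw [zpowers_le]
        apply centralizer_le_normalizer
        rw [centralizer_zp, mem_centralizer_singleton_iff]
        exact hcomm
      have h4 := eq_of_card_eq_of_le_cyclic (pcyc hp hr.ord hr.full _ h3) (A := zpowers y) (B := zpowers (x y))
        le_sup_left le_sup_right (by rw [Nat.card_zpowers, Nat.card_zpowers, MulEquiv.orderOf_eq])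
      rw [h4]
      exact mem_zpowers _
    have hyF : zpowers y ≤ Fx x ⊓ T := by
      rw [zpowers_le]
      exact ⟨hxy, hyT⟩
    have hyFc := Nat.card_le_card_of_injective _ (inclusion_injective hyF)
    rw [Nat.card_zpowers, hr.ord] at hyFc
    have hFTN : Fx x ⊓ T ≤ Fx x ⊓ N := inf_le_inf_left _ hTN
    have hFTNc := Nat.card_le_card_of_injective _ (inclusion_injective hFTN)
    rcases h2 _ hx hsO hxp with h3 | ⟨h3, h4⟩
    · calc 2 * Nat.card N ≤ 2 * (e * c) := Nat.mul_le_mul_left _ (he.trans (Nat.mul_le_mul_left _ hc))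
        _ < p ^ a * b := h3
        _ ≤ _ := Nat.mul_le_mul (hyFc.trans hFTNc) hbx
    · have h6 := coprime_fix hxA hx h3
      rw [← hN, ← hT] at h6
      have hpa : 0 < p ^ a := pow_pos hp.pos a
      have hFN : 0 < Nat.card ↥(Fx x ⊓ N) := Nat.card_pos
      have h7 : p ^ a * (2 * Nat.card N) < p ^ a * (Nat.card ↥(Fx x ⊓ N) * b) := by
        calc p ^ a * (2 * Nat.card N) = 2 * (Nat.card N * p ^ a) := by ring
          _ ≤ 2 * (Nat.card N * Nat.card ↥(Fx x ⊓ T)) := Nat.mul_le_mul_left _ (Nat.mul_le_mul_left _ hyFc)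
          _ ≤ 2 * (Nat.card ↥(Fx x ⊓ N) * Nat.card T) := Nat.mul_le_mul_left _ h6
          _ ≤ 2 * (Nat.card ↥(Fx x ⊓ N) * c) := Nat.mul_le_mul_left _ (Nat.mul_le_mul_left _ hc)
          _ = Nat.card ↥(Fx x ⊓ N) * (2 * c) := by ring
          _ < Nat.card ↥(Fx x ⊓ N) * (p ^ a * b) := Nat.mul_lt_mul_of_pos_left h4 hFN
          _ = p ^ a * (Nat.card ↥(Fx x ⊓ N) * b) := by ring
      exact (Nat.lt_of_mul_lt_mul_left h7).trans_le (Nat.mul_le_mul_left _ hbx)

end Row

end Cfsg.Agent.H965.AS
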