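import Cfsg.Agent.J2.HundredGens
import Cfsg.Agent.J2Sylow.SporSylow

/-!
# The normaliser of a Sylow 3-subgroup of the Hall–Janko group contains an element of order 8

`j2` : some subgroup of order 27 of `J2` is normalised by an element of order 8.
-/

set_option autoImplicit false

namespace Cfsg.Agent.H965.J2Norm

open Subgroup

section Abs

variable {X : Type*} [Group X]

/-- Relations of an extraspecial group of order 27 normalised by `h`. -/
structure Rel27 (u v c h : X) : Prop where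
  u3 : u * u * u = 1
  v3 : v * v * v = 1
  c3 : c * c * c = 1
  c1 : c ≠ 1
  uv : u * v = c * (v * u)
  cu : c * u = u * c
  cv : c * v = v * c
  hu : h * u = v * h
  hv : h * v = u * v * c * c * h
  hc : h * c = c * c * h
  h8 : h * h * h * h * (h * h * h * h) = 1
  h4 : h * h * h * h ≠ 1

variable {u v c h : X}

/-- the words `u ^ i * v ^ j * c ^ k` -/
def S27 (u v c : X) : Set X := {x | ∃ i j k : ℕ, x = u ^ i * v ^ j * c ^ k}

theorem Rel27.v_u (r : Rel27 u v c h) : v * u = u * v * c ^ 2 := by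
  have hc' : Commute c u := r.cu
  have hv' : Commute c v := r.cv
  have : c * c * (u * v) = v * u := by
    rw [r.uv, ← mul_assoc, r.c3, one_mul]
  rw [← this, pow_two]
  have : Commute (c * c) (u * v) := ((hc'.mul_right hv').mul_left (hc'.mul_right hv'))
  exact this.eq

theorem Rel27.v_pow_u (r : Rel27 u v c h) (i : ℕ) : v * u ^ i = u ^ i * v * c ^ (2 * i) := by
  have hc' : Commute c u := r.cu
  have h1 := r.v_u
  induction i with
  | zero => simp
  | succ i ih =>
    have h2 : Commute (c ^ (2 * i)) u := hc'.pow_left _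
    calc v * u ^ (i + 1) = v * u ^ i * u := by rw [pow_succ, mul_assoc]
      _ = u ^ i * v * c ^ (2 * i) * u := by rw [ih]
      _ = u ^ i * (v * u) * c ^ (2 * i) := by
          rw [mul_assoc (u ^ i * v), h2.eq]
          simp only [mul_assoc]
      _ = u ^ i * (u * v * c ^ 2) * c ^ (2 * i) := by rw [h1]
      _ = u ^ (i + 1) * v * c ^ (2 * (i + 1)) := by
          rw [pow_succ u, show 2 * (i + 1) = 2 + 2 * i by ring, pow_add c]
          simp only [mul_assoc]

theorem Rel27.pow_v_u (r : Rel27 u v c h) (j : ℕ) : v ^ j * u = u * v ^ j * c ^ (2 * j) := by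
  have hv' : Commute c v := r.cv
  have h1 := r.v_u
  induction j with
  | zero => simp
  | succ j ih =>
    have h2 : Commute (c ^ 2) (v ^ j) := hv'.pow_pow _ _
    calc v ^ (j + 1) * u = v ^ j * (v * u) := by rw [pow_succ, mul_assoc]
      _ = v ^ j * (u * v * c ^ 2) := by rw [h1]
      _ = (v ^ j * u) * v * c ^ 2 := by simp only [mul_assoc]
      _ = (u * v ^ j * c ^ (2 * j)) * v * c ^ 2 := by rw [ih]
      _ = u * v ^ (j + 1) * c ^ (2 * (j + 1)) := by
          rw [mul_assoc (u * v ^ j), ((hv'.pow_left (2 * j)).eq), pow_succ v,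
            show 2 * (j + 1) = 2 * j + 2 by ring, pow_add]
          simp only [mul_assoc]

theorem Rel27.u_mul (_r : Rel27 u v c h) {x : X} (hx : x ∈ S27 u v c) : u * x ∈ S27 u v c := by
  obtain ⟨i, j, k, rfl⟩ := hx
  exact ⟨i + 1, j, k, by rw [pow_succ']; simp only [mul_assoc]⟩

theorem Rel27.v_mul (r : Rel27 u v c h) {x : X} (hx : x ∈ S27 u v c) : v * x ∈ S27 u v c := by
  obtain ⟨i, j, k, rfl⟩ := hx
  refine ⟨i, j + 1, 2 * i + k, ?_⟩
  have hv' : Commute (c ^ (2 * i)) (v ^ j) := (show Commute c v from r.cv).pow_pow _ _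
  rw [← mul_assoc, ← mul_assoc, r.v_pow_u, pow_succ', pow_add]
  rw [mul_assoc (u ^ i * v), hv'.eq]
  simp only [mul_assoc]

theorem Rel27.c_mul (r : Rel27 u v c h) {x : X} (hx : x ∈ S27 u v c) : c * x ∈ S27 u v c := by
  obtain ⟨i, j, k, rfl⟩ := hx
  refine ⟨i, j, k + 1, ?_⟩
  have h1 : Commute c (u ^ i) := (show Commute c u from r.cu).pow_right _
  have h2 : Commute c (v ^ j) := (show Commute c v from r.cv).pow_right _
  have h3 : Commute c (c ^ k) := (Commute.refl c).pow_right _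
  have h4 : Commute c (u ^ i * v ^ j) := h1.mul_right h2
  rw [← mul_assoc, h4.eq, mul_assoc, pow_succ, h3.eq]

theorem Rel27.inv_u (r : Rel27 u v c h) : u⁻¹ = u * u := (eq_inv_of_mul_eq_one_left r.u3).symm
theorem Rel27.inv_v (r : Rel27 u v c h) : v⁻¹ = v * v := (eq_inv_of_mul_eq_one_left r.v3).symm
theorem Rel27.inv_c (r : Rel27 u v c h) : c⁻¹ = c * c := (eq_inv_of_mul_eq_one_left r.c3).symm

/-- iterated left multiplication -/
theorem pow_mul_mem' {S : Set X} {a : X} (ha : ∀ x ∈ S, a * x ∈ S) (n : ℕ) :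
    ∀ x ∈ S, a ^ n * x ∈ S := by
  induction n with
  | zero => intro x hx; simpa using hx
  | succ n ih => intro x hx; rw [pow_succ', mul_assoc]; exact ha _ (ih x hx)

/-- the subgroup -/
def Rel27.P (r : Rel27 u v c h) : Subgroup X where
  carrier := S27 u v c
  one_mem' := ⟨0, 0, 0, by simp⟩
  mul_mem' := by
    rintro x y ⟨i, j, k, rfl⟩ hy
    rw [mul_assoc, mul_assoc]
    exact pow_mul_mem' (fun _ => r.u_mul) _ _ (pow_mul_mem' (fun _ => r.v_mul) _ _
      (pow_mul_mem' (fun _ => r.c_mul) _ _ hy))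
  inv_mem' := by
    rintro x ⟨i, j, k, rfl⟩
    have : (u ^ i * v ^ j * c ^ k)⁻¹ = c ^ (2 * k) * (v ^ (2 * j) * (u ^ (2 * i) * 1)) := by
      rw [mul_inv_rev, mul_inv_rev, ← inv_pow, ← inv_pow, ← inv_pow, r.inv_u, r.inv_v, r.inv_c,
        ← pow_two, ← pow_two, ← pow_two, ← pow_mul, ← pow_mul, ← pow_mul, mul_one]
    rw [this]
    exact (pow_mul_mem' (fun _ => r.c_mul) _ _ (pow_mul_mem' (fun _ => r.v_mul) _ _
      (pow_mul_mem' (fun _ => r.u_mul) _ _ ⟨0, 0, 0, by simp⟩)))

theorem Rel27.orderOf_c (r : Rel27 u v c h) : orderOf c = 3 := by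
  have : Fact (Nat.Prime 3) := ⟨Nat.prime_three⟩
  exact orderOf_eq_prime (by rw [pow_succ, pow_two]; exact r.c3) r.c1

theorem Rel27.card_P (r : Rel27 u v c h) : Nat.card r.P = 27 := by
  have hu3 : u ^ 3 = 1 := by rw [pow_succ, pow_two]; exact r.u3
  have hv3 : v ^ 3 = 1 := by rw [pow_succ, pow_two]; exact r.v3
  have hc3 : c ^ 3 = 1 := by rw [pow_succ, pow_two]; exact r.c3
  let f : Fin 3 × Fin 3 × Fin 3 → r.P :=
    fun t => ⟨u ^ (t.1 : ℕ) * v ^ (t.2.1 : ℕ) * c ^ (t.2.2 : ℕ), ⟨_, _, _, rfl⟩⟩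
  have hf : Function.Bijective f := by
    constructor
    · rintro ⟨i, j, k⟩ ⟨i', j', k'⟩ e
      have e0 : u ^ (i : ℕ) * v ^ (j : ℕ) * c ^ (k : ℕ) =
          u ^ (i' : ℕ) * v ^ (j' : ℕ) * c ^ (k' : ℕ) := congrArg Subtype.val e
      have hcv : ∀ a b : ℕ, Commute (c ^ a) (v ^ b) := fun a b =>
        (show Commute c v from r.cv).pow_pow _ _
      have hcu : ∀ a : ℕ, Commute (c ^ a) u := fun a =>
        (show Commute c u from r.cu).pow_left _
      -- first coordinate
      have hL : ∀ a b d : ℕ, v * (u ^ a * v ^ b * c ^ d) =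
          (u ^ a * v ^ b * c ^ d) * v * c ^ (2 * a) := by
        intro a b d
        have h1 : Commute (c ^ (2 * a)) (v ^ b * c ^ d) :=
          (hcv _ _).mul_right (Commute.pow_pow_self c _ _)
        have h2 : Commute v (v ^ b * c ^ d) :=
          (Commute.self_pow v b).mul_right (by simpa using (hcv d 1).symm)
        calc v * (u ^ a * v ^ b * c ^ d) = v * u ^ a * (v ^ b * c ^ d) := by
              simp only [mul_assoc]
          _ = u ^ a * v * (c ^ (2 * a) * (v ^ b * c ^ d)) := by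
              rw [r.v_pow_u]; simp only [mul_assoc]
          _ = u ^ a * (v * (v ^ b * c ^ d)) * c ^ (2 * a) := by
              rw [h1.eq]; simp only [mul_assoc]
          _ = _ := by rw [h2.eq]; simp only [mul_assoc]
      have e1 : c ^ (2 * (i : ℕ)) = c ^ (2 * (i' : ℕ)) := by
        have e2 := hL i j k
        rw [e0, hL] at e2
        exact (mul_left_cancel e2).symm
      have ei : i = i' := by
        rw [pow_eq_pow_iff_modEq, r.orderOf_c] at e1
        have := i.2; have := i'.2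
        unfold Nat.ModEq at e1
        apply Fin.ext
        omega
      subst ei
      rw [mul_assoc, mul_assoc] at e0
      have e3 : v ^ (j : ℕ) * c ^ (k : ℕ) = v ^ (j' : ℕ) * c ^ (k' : ℕ) := mul_left_cancel e0
      have hR : ∀ b d : ℕ, (v ^ b * c ^ d) * u = u * (v ^ b * c ^ d) * c ^ (2 * b) := by
        intro b d
        rw [mul_assoc, (hcu d).eq, ← mul_assoc, r.pow_v_u, mul_assoc, ← pow_add, add_comm,
          pow_add]
        simp only [mul_assoc]
      have e4 : c ^ (2 * (j : ℕ)) = c ^ (2 * (j' : ℕ)) := by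
        have e5 := hR j k
        rw [e3, hR] at e5
        exact (mul_left_cancel e5).symm
      have ej : j = j' := by
        rw [pow_eq_pow_iff_modEq, r.orderOf_c] at e4
        have := j.2; have := j'.2
        unfold Nat.ModEq at e4
        apply Fin.ext
        omega
      subst ej
      have e6 := mul_left_cancel e3
      have ek : k = k' := by
        rw [pow_eq_pow_iff_modEq, r.orderOf_c] at e6
        have := k.2; have := k'.2
        unfold Nat.ModEq at e6
        apply Fin.ext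
        omega
      rw [ek]
    · rintro ⟨x, i, j, k, rfl⟩
      refine ⟨(⟨i % 3, Nat.mod_lt _ (by norm_num)⟩, ⟨j % 3, Nat.mod_lt _ (by norm_num)⟩,
        ⟨k % 3, Nat.mod_lt _ (by norm_num)⟩), ?_⟩
      apply Subtype.ext
      show u ^ (i % 3) * v ^ (j % 3) * c ^ (k % 3) = _
      rw [← pow_eq_pow_mod i hu3, ← pow_eq_pow_mod j hv3, ← pow_eq_pow_mod k hc3]
  rw [← Nat.card_congr (Equiv.ofBijective f hf)]
  simp

theorem Rel27.orderOf_h (r : Rel27 u v c h) : orderOf h = 8 := by
  have : Fact (Nat.Prime 2) := ⟨Nat.prime_two⟩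
  have h1 : h ^ 4 = h * h * h * h := by rw [pow_succ, pow_succ, pow_two]
  have h2 : ¬ h ^ 2 ^ 2 = 1 := by rw [show 2 ^ 2 = 4 by norm_num, h1]; exact r.h4
  have h3 : h ^ 2 ^ (2 + 1) = 1 := by
    rw [show 2 ^ (2 + 1) = 4 + 4 by norm_num, pow_add, h1]; exact r.h8
  rw [orderOf_eq_prime_pow h2 h3]; norm_num

theorem Rel27.uP (r : Rel27 u v c h) : u ∈ r.P := ⟨1, 0, 0, by simp⟩
theorem Rel27.vP (r : Rel27 u v c h) : v ∈ r.P := ⟨0, 1, 0, by simp⟩
theorem Rel27.cP (r : Rel27 u v c h) : c ∈ r.P := ⟨0, 0, 1, by simp⟩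

theorem Rel27.conj_mem (r : Rel27 u v c h) {x : X} (hx : x ∈ r.P) : h * x * h⁻¹ ∈ r.P := by
  obtain ⟨i, j, k, rfl⟩ := hx
  have hu : h * u * h⁻¹ = v := by rw [r.hu, mul_inv_cancel_right]
  have hv : h * v * h⁻¹ = u * v * c * c := by rw [r.hv, mul_inv_cancel_right]
  have hc : h * c * h⁻¹ = c * c := by rw [r.hc, mul_inv_cancel_right]
  have : h * (u ^ i * v ^ j * c ^ k) * h⁻¹ =
      (h * u * h⁻¹) ^ i * (h * v * h⁻¹) ^ j * (h * c * h⁻¹) ^ k := by
    rw [conj_pow, conj_pow, conj_pow]; group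
  rw [this, hu, hv, hc]
  exact mul_mem (mul_mem (pow_mem r.vP _) (pow_mem (mul_mem (mul_mem (mul_mem r.uP r.vP) r.cP)
    r.cP) _)) (pow_mem (mul_mem r.cP r.cP) _)

theorem Rel27.mem_norm (r : Rel27 u v c h) : h ∈ normalizer (r.P : Set X) := by
  have hn : ∀ n : ℕ, ∀ x ∈ r.P, h ^ n * x * (h ^ n)⁻¹ ∈ r.P := by
    intro n
    induction n with
    | zero => intro x hx; simpa using hx
    | succ n ih =>
      intro x hx
      have := r.conj_mem (ih x hx)
      rw [pow_succ', mul_inv_rev]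
      simpa only [mul_assoc] using this
  rw [mem_normalizer_iff]
  intro x
  refine ⟨fun hx => r.conj_mem hx, fun hx => ?_⟩
  have h8 : h ^ 8 = 1 := by rw [← r.orderOf_h]; exact pow_orderOf_eq_one h
  have h7 : h ^ 7 = h⁻¹ := by
    apply eq_inv_of_mul_eq_one_left
    rw [← pow_succ]; exact h8
  have := hn 7 _ hx
  rw [h7] at this
  simpa [mul_assoc] using this

theorem Rel27.map {Y : Type*} [Group Y] (r : Rel27 u v c h) (f : X →* Y)
    (hf : Function.Injective f) : Rel27 (f u) (f v) (f c) (f h) where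
  u3 := by rw [← map_mul, ← map_mul, r.u3, map_one]
  v3 := by rw [← map_mul, ← map_mul, r.v3, map_one]
  c3 := by rw [← map_mul, ← map_mul, r.c3, map_one]
  c1 := fun e => r.c1 (hf (by rw [e, map_one]))
  uv := by rw [← map_mul, ← map_mul, ← map_mul, r.uv]
  cu := by rw [← map_mul, ← map_mul, r.cu]
  cv := by rw [← map_mul, ← map_mul, r.cv]
  hu := by rw [← map_mul, ← map_mul, r.hu]
  hv := by simp only [← map_mul, r.hv]
  hc := by simp only [← map_mul, r.hc]
  h8 := by simp only [← map_mul, r.h8, map_one]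
  h4 := fun e => r.h4 (hf (by simp only [map_mul, map_one]; exact e))

end Abs

section Concrete

open Cfsg.Agent.J2.HundredGens Cfsg.Agent.SporadicA.J2Hundred

/-- word of `h` -/
def wh : List ℕ := [2, 3, 4, 2, 3, 2, 1]
/-- word of `u` -/
def wu : List ℕ := [2, 3, 4, 2, 3, 0, 1, 2, 3, 4, 1, 2, 3, 2, 1, 0, 1, 0]
/-- word of `v` -/
def wv : List ℕ := [3, 1, 2, 3, 4, 2, 3, 1, 2, 3, 4, 1, 2, 3, 2, 1, 0, 1, 2, 3, 4, 2, 3, 2]
/-- word of `c` -/
def wc : List ℕ := [4, 3]

theorem pw_ne {L : List ℕ} (i : Fin 100) (h : Nat.beq (run L i) i = false) : pw L ≠ 1 := by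
  intro e
  have h1 : ((pw L i : Fin 100) : ℕ) = i := by rw [e]; rfl
  rw [pw_val] at h1
  rw [h1] at h
  have : Nat.beq i i = true := Nat.beq_refl i
  rw [this] at h
  exact absurd h (by decide)

theorem rel_pw : Rel27 (pw wu) (pw wv) (pw wc) (pw wh) where
  u3 := by rw [pw_mul, pw_mul, ← pw_nil]; exact pw_eq (by decide +kernel)
  v3 := by rw [pw_mul, pw_mul, ← pw_nil]; exact pw_eq (by decide +kernel)
  c3 := by rw [pw_mul, pw_mul, ← pw_nil]; exact pw_eq (by decide +kernel)
  c1 := pw_ne 2 (by decide +kernel)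
  uv := by rw [pw_mul, pw_mul, pw_mul]; exact pw_eq (by decide +kernel)
  cu := by rw [pw_mul, pw_mul]; exact pw_eq (by decide +kernel)
  cv := by rw [pw_mul, pw_mul]; exact pw_eq (by decide +kernel)
  hu := by rw [pw_mul, pw_mul]; exact pw_eq (by decide +kernel)
  hv := by rw [pw_mul, pw_mul, pw_mul, pw_mul, pw_mul]; exact pw_eq (by decide +kernel)
  hc := by rw [pw_mul, pw_mul, pw_mul]; exact pw_eq (by decide +kernel)
  h8 := by rw [pw_mul, pw_mul, pw_mul, pw_mul, ← pw_nil]; exact pw_eq (by decide +kernel)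
  h4 := by
    rw [pw_mul, pw_mul, pw_mul]
    exact pw_ne 2 (by decide +kernel)

theorem j2 : ∃ (P : Subgroup Cfsg.Spor.J2) (h : Cfsg.Spor.J2), Nat.card P = 27 ∧
    h ∈ Subgroup.normalizer (P : Set Cfsg.Spor.J2) ∧ orderOf h = 8 := by
  obtain ⟨e⟩ := J2_iso Cfsg.Agent.J2Sylow.SporSylow.card_J2
  have r0 : Rel27 (⟨pw wu, pw_mem wu⟩ : G) ⟨pw wv, pw_mem wv⟩ ⟨pw wc, pw_mem wc⟩
      ⟨pw wh, pw_mem wh⟩ := by
    have r := rel_pw
    exact
      { u3 := Subtype.ext r.u3
        v3 := Subtype.ext r.v3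
        c3 := Subtype.ext r.c3
        c1 := fun e => r.c1 (congrArg Subtype.val e)
        uv := Subtype.ext r.uv
        cu := Subtype.ext r.cu
        cv := Subtype.ext r.cv
        hu := Subtype.ext r.hu
        hv := Subtype.ext r.hv
        hc := Subtype.ext r.hc
        h8 := Subtype.ext r.h8
        h4 := fun e => r.h4 (congrArg Subtype.val e) }
  have r1 := r0.map e.symm.toMonoidHom e.symm.injective
  exact ⟨r1.P, _, r1.card_P, r1.mem_norm, r1.orderOf_h⟩

end Concrete

end Cfsg.Agent.H965.J2Norm
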