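import Cfsg.Agent.H568.OwnChar
import Cfsg.Agent.H62.PPTwist
import Cfsg.Agent.KFacts.RgdFiltTwAll

/-!
# Elements of `³D₄(q)` normalising no `r`-subgroup (helper965)

`noNorm_twD4`: `x ∈ ³D₄(q)` of prime order `l`, `q` of order 12 mod `l`, commuting with no element of order
`r = char F`, normalises no nontrivial `r`-subgroup (`|V_J| = q^9, q^11`).
-/

set_option autoImplicit false
set_option linter.unusedSectionVars false

namespace Cfsg.Agent.H965.OwnTwD4

open CoxeterSystem Cfsg.Lie Cfsg.Agent.ChevalleyStructure Cfsg.Agent.ChevalleyStructure.CoxeterGeom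
  Cfsg.Agent.ChevalleyStructure.CoxeterGeomTypes
  Cfsg.Agent.Tits.Roots Cfsg.Agent.Tits.Core Cfsg.Agent.Nodes.Reps Cfsg.Agent.Nodes.BNOf
  Cfsg.Agent.Nodes.RGDChev
  Cfsg.Agent.Nodes.StabComb Cfsg.Agent.Nodes.Bruhat Cfsg.Agent.Nodes.LeviDec
  Cfsg.Agent.ParSys.RootCount Cfsg.Agent.ParSys.RootExc Cfsg.Agent.KFacts.RgdCharP
open Cfsg.Agent.Nodes.RGDFold hiding refl
open Cfsg.Agent.H62.PPTwist Cfsg.Agent.H568 Cfsg.Agent.KFacts.RgdFilt

section

variable {I W Y : Type*} [Fintype I] [DecidableEq I] [Group W] [Group Y] {M : CoxeterMatrix I}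
  {cs : CoxeterSystem M W} {A : I → I → ℤ} {h : IsCartan M A} {X : (I → ℤ) → Subgroup Y}

theorem sup_lev_eq (i : I) : RGD.Sup X (Lev cs h i 1) = VJ cs h X {i}ᶜ := by
  unfold VJ
  congr 1
  ext x
  constructor
  · rintro ⟨hx, hi⟩
    refine ⟨hx, ?_, i, by simp, by omega⟩
    rcases hx.pos_or_neg with h1 | h1
    · exact h1
    · have := h1 i
      simp only [Pi.zero_apply] at this
      omega
  · rintro ⟨hx, -, k, hk, hk'⟩
    have : k = i := by simpa using hk
    subst this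
    exact ⟨hx, by omega⟩

end

open Cfsg.Agent.Nodes.RGDTwD4 Cfsg.Agent.ClosedExc.TwD4 Cfsg.Agent.H62.PPTwist.D4

/-- **Own characteristic for `³D₄(q)`.** -/
theorem noNorm_twD4 {K : Type} [Field K] [Fintype K] {q : ℕ} (hq : IsPrimePow q) (hK : Fintype.card K = q ^ 3)
    {r : ℕ} [CharP K r] {l : ℕ} (hl : l.Prime) {x : ↥(twistedD4 K q)} (hx : orderOf x = l)
    (hcen : ∀ y : ↥(twistedD4 K q), orderOf y = r → x * y ≠ y * x)
    (h9 : ¬ l ∣ q ^ 9 - 1) (h11 : ¬ l ∣ q ^ 11 - 1) : NoNorm r x := by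
  obtain ⟨φ, hφ⟩ := D4Fixed.exists_frob hq hK
  have hle := D4Fixed.twisted_le_fix hK hφ
  have hr : Fact r.Prime := ⟨CharP.char_is_prime K r⟩
  let cs := CoxeterMatrix.G₂.toCoxeterSystem
  have hW : Finite CoxeterMatrix.G₂.Group := Cfsg.Agent.Nodes.RGDFold.finite_W
    (hp := Cfsg.Agent.Nodes.RGDTwD4.hp) cs isCartan foldData
  have : Finite ↥(twistedD4 K q) := by
    have : Finite (GL chevD4.Idx K) := inferInstance
    infer_instance
  have R := rgd cs hK hφ r
  have c0 := card_X0 hφ hle hq.two_le hK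
  have c1 := card_X1 (K := K) hφ hle
  rw [hK] at c1
  have hcV := fun i => card_VJ R posRoots (by decide +kernel) (q := q) w (by decide +kernel)
    (by
      intro i
      fin_cases i
      · exact c0.trans (pow_one q).symm
      · exact c1) i
  refine noNorm_rgd R (fun Q hQ hQ1 => borel_tits_of_filt
    (KFacts.RgdFiltTwAll.filt_fold cs isCartan foldData (foldGrp hφ (D4Fixed.twisted_le_fix hK hφ)) r)
    (G1_eq_top cs hK hφ) hQ hQ1) hl hx hcen ?_
  intro j
  refine ⟨1, levOk_one j, ?_⟩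
  rw [sup_lev_eq, hcV j]
  have hj : ((LG.filter fun v => 0 < v j).map w).sum = 9 ∨ ((LG.filter fun v => 0 < v j).map w).sum = 11 :=
    (by decide +kernel : ∀ j : Fin 2, ((LG.filter fun v => 0 < v j).map w).sum = 9 ∨
      ((LG.filter fun v => 0 < v j).map w).sum = 11) j
  rcases hj with h | h <;> rw [h] <;> assumption

end Cfsg.Agent.H965.OwnTwD4
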