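import Cfsg.Agent.H965.SUNum
import Cfsg.Agent.H965.OwnTwD4
import Cfsg.Agent.H129.TwD4Cyc
import Cfsg.Agent.CpAutTwD.Row
import Cfsg.Agent.S2129
import Cfsg.Agent.H967.CopSz

/-!
# Solvably unique elements of `³D₄(2)` (helper965)
-/

set_option autoImplicit false

namespace Cfsg.Agent.H965.SU

open Subgroup Cfsg Cfsg.Lie Cfsg.Agent.H465.SU Cfsg.Agent.H568

universe u

/-- a representation of small degree: `y` normalises no `t`-subgroup if `y` is self-centralising of order `l` -/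
theorem noNorm_of_lin {G : Type*} [Group G] [Finite G] {F V : Type*} [Field F] [AddCommGroup V] [Module F V]
    [FiniteDimensional F V] (ρ : G →* (V ≃ₗ[F] V)) (hρ : Function.Injective ρ) {l t : ℕ} (hl : l.Prime) (hl2 : l ≠ 2)
    (ht : t.Prime) (htl : t ≠ l) (htF : (t : F) ≠ 0) {y : G} (hy : orderOf y = l)
    (hc : Nat.card ↥(centralizer ({y} : Set G)) = l) (hn : Module.finrank F V + 1 < l) : NoNorm t y := by
  intro Q hQ hyQ
  have h1 := Cfsg.Agent.H465.LinSolv.centralize ρ hρ hl hl2 (a := 1) le_rfl ht htl htF (by rw [hy, pow_one]) hQ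
    (fun u hu => (mem_normalizer_iff.1 hyQ u).1 hu) (Or.inl (by simpa using hn))
  have : Fact t.Prime := ⟨ht⟩
  have h2 : Q ≤ centralizer ({y} : Set G) := by
    intro u hu
    rw [mem_centralizer_singleton_iff]
    have h3 := h1 u hu
    simp only [Nat.sub_self, pow_zero, pow_one] at h3
    exact h3.symm
  have h3 := card_dvd_of_le h2
  rw [hc] at h3
  obtain ⟨k, hk⟩ := (IsPGroup.iff_card (p := t)).1 hQ
  rcases Nat.eq_zero_or_pos k with h0 | h0
  · rw [h0, pow_zero] at hk
    exact Subgroup.card_eq_one.1 hk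
  · exfalso
    rw [hk] at h3
    exact htl ((Nat.prime_dvd_prime_iff_eq ht hl).1 ((dvd_pow_self t h0.ne').trans h3))

theorem row_twD4_two_aux {F : Type} [Field F] [Fintype F] (hF : Fintype.card F = 8) :
    ∃ (p a : ℕ) (y : ↥(twistedD4 F 2)), SURow ↥(twistedD4 F 2) p a y := by
  have hF3 : Fintype.card F = 2 ^ 3 := by rw [hF]; norm_num
  have hq : IsPrimePow 2 := Nat.prime_two.isPrimePow
  have : Finite ↥(twistedD4 F 2) := by
    have : Finite (GL chevD4.Idx F) := inferInstance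
    infer_instance
  have h2f : Fact (Nat.Prime 2) := ⟨Nat.prime_two⟩
  have hc2 : CharP F 2 := Cfsg.Agent.H967.CopSz.charP_of_card Nat.prime_two hF3
  have h13 : Nat.Prime 13 := by norm_num
  have : Fact (Nat.Prime 13) := ⟨h13⟩
  have hcard : Nat.card ↥(twistedD4 F 2) = 211341312 := by
    rw [Cfsg.Agent.S1067.result hq hF3]
    norm_num
  obtain ⟨H, hH, hHc, hHH⟩ := Cfsg.Agent.H129.TwD4Cyc.coxeter_torus (K := F) hq hF3
  have hH13 : Nat.card ↥H = 13 := by rw [hHc]; norm_num
  obtain ⟨g, hg⟩ := IsCyclic.exists_ofOrder_eq_natCard (α := ↥H)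
  have hy : orderOf (g : ↥(twistedD4 F 2)) = 13 := by rw [Subgroup.orderOf_coe, hg, hH13]
  have hzH : zpowers (g : ↥(twistedD4 F 2)) = H := by
    refine eq_of_le_of_card_ge (zpowers_le.2 g.2) ?_
    rw [Nat.card_zpowers, hy, hH13]
  have hc : Nat.card ↥(centralizer ({(g : ↥(twistedD4 F 2))} : Set ↥(twistedD4 F 2))) = 13 := by
    have h1 : centralizer ({(g : ↥(twistedD4 F 2))} : Set ↥(twistedD4 F 2)) =
        centralizer (zpowers (g : ↥(twistedD4 F 2)) : Set ↥(twistedD4 F 2)) := by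
      ext u
      rw [mem_centralizer_singleton_iff, mem_centralizer_iff]
      constructor
      · intro hu
        rintro _ ⟨k, rfl⟩
        exact ((Commute.zpow_right (show Commute u (g : ↥(twistedD4 F 2)) from hu) k).eq).symm
      · intro hu
        exact (hu _ (mem_zpowers _)).symm
    rw [h1, hzH, hHH, hH13]
  have hfull : ¬ 13 ^ 2 ∣ Nat.card ↥(twistedD4 F 2) := by rw [hcard]; norm_num
  obtain ⟨ρ, hρ, -⟩ := Cfsg.Agent.CpAutTwD.Emb.exists_rho (F := F) (CharP.cast_eq_zero F 2) (q := 2)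
  let τ : ↥(twistedD4 F 2) →* ((Fin 4 ⊕ Fin 4 → F) ≃ₗ[F] (Fin 4 ⊕ Fin 4 → F)) :=
    (LinearMap.GeneralLinearGroup.generalLinearEquiv F (Fin 4 ⊕ Fin 4 → F)).toMonoidHom.comp
      (Matrix.GeneralLinearGroup.toLin.toMonoidHom.comp ρ)
  have hτ : Function.Injective τ :=
    (LinearMap.GeneralLinearGroup.generalLinearEquiv F (Fin 4 ⊕ Fin 4 → F)).injective.comp
      (Matrix.GeneralLinearGroup.toLin.injective.comp hρ)
  refine ⟨13, 1, g, h13, by norm_num, le_rfl, by rw [hy, pow_one], ?_, hfull, ?_⟩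
  · refine suel_of_noNorm h13 hy hfull fun t ht htl _ => ?_
    by_cases ht2 : t = 2
    · subst ht2
      exact Cfsg.Agent.H965.OwnTwD4.noNorm_twD4 hq hF3 h13 hy (cen_of_card h13 Nat.prime_two htl hc)
        (by norm_num) (by norm_num)
    · refine noNorm_of_lin τ hτ h13 (by norm_num) ht htl ?_ hy hc ?_
      · intro h0
        exact ht2 ((Nat.prime_dvd_prime_iff_eq Nat.prime_two ht).1 ((CharP.cast_eq_zero_iff F 2 t).1 h0)).symm
      · rw [Module.finrank_fintype_fun_eq_card, Fintype.card_sum, Fintype.card_fin]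
        norm_num
  · refine inner_of_card h13 ?_
    have h1 := Cfsg.Agent.S2129.result (K := F) 2 1 (by rw [hF3]) le_rfl
    rw [pow_one] at h1
    rw [h1]
    norm_num

/-- **The row of `³D₄(2)`.** -/
theorem row_twD4_two (K : Type u) [Group K] {F : Type} [Field F] [Fintype F] (hF : Fintype.card F = 8)
    (e : K ≃* ↥(twistedD4 F 2)) : ∃ (p a : ℕ) (y : K), SURow K p a y := by
  obtain ⟨p, a, y, h⟩ := row_twD4_two_aux hF
  exact ⟨p, a, e.symm y, h.congr e.symm⟩

end Cfsg.Agent.H965.SU
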