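import Cfsg.Agent.H965.SUNum
import Cfsg.Agent.H845.CopTits
import Cfsg.Agent.H867.TitsOut

/-!
# Solvably unique elements of the Tits group (helper965)
-/

set_option autoImplicit false

namespace Cfsg.Agent.H965.SU

open Subgroup Cfsg.Agent.H465.SU Cfsg.Agent.H568 Cfsg.Agent.H87.TitsAbs

universe u

theorem dat_of_iso {S T : Type*} [Group S] [Group T] (e : S ≃* T) (D : Dat S) : Nonempty (Dat T) := by
  have hc : ∀ {a b : S}, IsConj a b → IsConj (e a) (e b) := fun {a b} h => by
    rw [isConj_iff] at h ⊢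
    obtain ⟨c, hc⟩ := h
    exact ⟨e c, by rw [← hc]; simp⟩
  exact ⟨{
    x := e D.x
    t := e D.t
    s := e D.s
    z := e D.z
    x13 := by rw [← map_pow, D.x13, map_one]
    x1 := fun h => D.x1 (e.injective (by rw [h, map_one]))
    txt := by rw [← map_mul, ← map_inv, ← map_mul, D.txt, map_pow]
    t1 := fun h => D.t1 (e.injective (by rw [h, map_one]))
    t3 := by rw [← map_pow, D.t3, map_one]
    s3 := by rw [← map_pow, D.s3, map_one]
    z3 := by rw [← map_pow, D.z3, map_one]
    zt := by rw [← map_mul, D.zt, map_mul]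
    zs := by rw [← map_mul, D.zs, map_mul]
    ts := by rw [← map_mul, D.ts, map_mul, map_mul]
    conj := fun a ha b hb c hc' h => by
      have := hc (D.conj a ha b hb c hc' h)
      simpa using this }⟩

theorem dat_aux {X : Type*} [Group X] (C : Subgroup X) {G : Type*} [Group G] (e : Nonempty (G ≃* commutator C))
    (h : Nonempty (Dat (commutator C))) : Nonempty (Dat G) := by
  obtain ⟨e⟩ := e
  obtain ⟨D⟩ := h
  exact dat_of_iso e.symm D

/-- **The row of the Tits group.** -/
theorem row_tits (K : Type u) [Group K] [Finite K] (h : Cfsg.Lie.IsoTits K) :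
    ∃ (p a : ℕ) (y : K), SURow K p a y := by
  have hcard : Nat.card K = 17971200 := Cfsg.Agent.NotCT.Orders.tits h
  obtain ⟨D⟩ : Nonempty (Dat K) := dat_aux _ h Cfsg.Agent.H87.TitsData.dat_tits
  have hc := Cfsg.Agent.H845.CopTits.card_cent_x h D
  have h13 : Nat.Prime 13 := by norm_num
  have : Fact (Nat.Prime 13) := ⟨h13⟩
  have hx : orderOf D.x = 13 := orderOf_eq_prime D.x13 D.x1
  have hfull : ¬ 13 ^ 2 ∣ Nat.card K := by rw [hcard]; norm_num
  have hz1 : D.z ≠ 1 := by
    intro h0
    have h1 := D.conj 0 (by norm_num) 0 (by norm_num) 1 (by norm_num) (by norm_num)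
    rw [pow_zero, pow_zero, pow_one, one_mul, one_mul, h0] at h1
    exact D.t1 (isConj_one_right.1 h1)
  have hts : D.t * D.s ≠ D.s * D.t := by
    intro h0
    have h1 := D.ts
    rw [h0] at h1
    exact hz1 (mul_eq_right.1 h1.symm)
  refine ⟨13, 1, D.x, h13, by norm_num, le_rfl, by rw [hx, pow_one], ?_, hfull, ?_⟩
  · refine suel_of_noNorm h13 hx hfull fun t ht htl htd => ?_
    have h0 : (17971200 : ℕ) = 2 ^ 11 * 3 ^ 3 * 5 ^ 2 * 13 := by norm_num
    have ht' : t = 2 ∨ t = 3 ∨ t = 5 := by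
      rw [hcard, h0] at htd
      rcases (Nat.Prime.dvd_mul ht).1 htd with h1 | h1
      · rcases (Nat.Prime.dvd_mul ht).1 h1 with h1 | h1
        · rcases (Nat.Prime.dvd_mul ht).1 h1 with h1 | h1
          · exact Or.inl ((Nat.prime_dvd_prime_iff_eq ht Nat.prime_two).1 (ht.dvd_of_dvd_pow h1))
          · exact Or.inr (Or.inl ((Nat.prime_dvd_prime_iff_eq ht Nat.prime_three).1 (ht.dvd_of_dvd_pow h1)))
        · exact Or.inr (Or.inr ((Nat.prime_dvd_prime_iff_eq ht (by norm_num)).1 (ht.dvd_of_dvd_pow h1)))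
      · exact absurd ((Nat.prime_dvd_prime_iff_eq ht h13).1 h1) htl
    refine noNorm_of_num h13 ht htl hx hc fun k hk hkd hkl => ?_
    have hk13 : k ≤ 24 := by
      by_contra h1
      have h2 : t ^ 25 ∣ Nat.card K := (pow_dvd_pow t (by omega)).trans hkd
      have h3 : 2 ^ 25 ≤ t ^ 25 := Nat.pow_le_pow_left ht.two_le 25
      have h4 := Nat.le_of_dvd Nat.card_pos h2
      rw [hcard] at h4
      omega
    rw [hcard] at hkd
    rcases ht' with rfl | rfl | rfl
    · exfalso
      interval_cases k <;> revert hkd hkl <;> norm_num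
    · have hk3 : k = 3 := by
        interval_cases k <;> revert hkd hkl <;> norm_num
      subst hk3
      refine ⟨fun j hj1 hj3 hj => ?_, fun Q hQ _ => ?_⟩
      · interval_cases j <;> revert hj <;> norm_num
      · have : Fact (Nat.Prime 3) := ⟨Nat.prime_three⟩
        refine nonab_of_pair (t := 3) (k := 3) (Q0 := D.R) (IsPGroup.of_card (n := 3) (by rw [D.card_R]; norm_num))
          ⟨1, 0, 0, ?_⟩ ⟨0, 1, 0, ?_⟩ hts (by rw [hcard]; norm_num) Q hQ
        · show D.t ^ 1 * D.s ^ 0 * D.z ^ 0 = D.t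
          rw [pow_one, pow_zero, pow_zero, mul_one, mul_one]
        · show D.t ^ 0 * D.s ^ 1 * D.z ^ 0 = D.s
          rw [pow_one, pow_zero, pow_zero, mul_one, one_mul]
    · exfalso
      interval_cases k <;> revert hkd hkl <;> norm_num
  · refine inner_of_card h13 fun hd => ?_
    have h1 := Cfsg.Agent.H867.TitsOut.card_out_le h
    have h2 := Nat.le_of_dvd Nat.card_pos hd
    omega

end Cfsg.Agent.H965.SU
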