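import Mathlib
import Cfsg.Agent.H465.Red

/-!
# Reduction of S3943 to simple groups (helper965)

`AS2 S`: for non-trivial automorphisms `a`, `b` of `S` there is `s ∈ S` with `⟨a, s⟩`, `⟨b, s⟩` not solvable.

`reduction`: if `AS2 K` for all non-abelian finite simple groups `K` then S3943.
-/

set_option autoImplicit false
set_option linter.unusedSectionVars false

namespace Cfsg.Agent.H965.AS

open Cfsg Subgroup Cfsg.Agent.SignalizersComponents.ComponentExists Cfsg.Agent.H459.Rad
open Cfsg.Agent.SignalizersComponents.Components Cfsg.Agent.H459.Reduce Cfsg.Agent.H465.Red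

universe u

/-- for non-trivial automorphisms `a`, `b` there is `s` with `⟨a, s⟩`, `⟨b, s⟩` not solvable -/
def AS2 (S : Type*) [Group S] : Prop :=
  ∀ a b : MulAut S, a ≠ 1 → b ≠ 1 → ∃ s : S,
    ¬ Group.IsSolvable (closure ({a, MulAut.conj s} : Set (MulAut S))) ∧
    ¬ Group.IsSolvable (closure ({b, MulAut.conj s} : Set (MulAut S)))

theorem AS2.congr {K L : Type*} [Group K] [Group L] (e : K ≃* L) (h : AS2 K) : AS2 L := by
  have key : ∀ (x : MulAut L) (y : K),
      ¬ Group.IsSolvable (closure ({MulAut.congr e.symm x, MulAut.conj y} : Set (MulAut K))) →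
      ¬ Group.IsSolvable (closure ({x, MulAut.conj (e y)} : Set (MulAut L))) := by
    intro x y hns hs
    apply hns
    have h1 : (closure ({MulAut.congr e.symm x, MulAut.conj y} : Set (MulAut K))).map (MulAut.congr e).toMonoidHom =
        closure ({x, MulAut.conj (e y)} : Set (MulAut L)) := by
      rw [MonoidHom.map_closure, Set.image_pair]
      have e1 : (MulAut.congr e).toMonoidHom (MulAut.congr e.symm x) = x := by
        ext l
        simp
      have e2 : (MulAut.congr e).toMonoidHom (MulAut.conj y) = MulAut.conj (e y) := by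
        ext l
        simp
      rw [e1, e2]
    have e1 := (closure ({MulAut.congr e.symm x, MulAut.conj y} : Set (MulAut K))).equivMapOfInjective
      (MulAut.congr e).toMonoidHom (MulAut.congr e).injective
    rw [h1] at e1
    exact Group.isSolvable_of_isSolvable_injective (f := e1.toMonoidHom) e1.injective
  have hne : ∀ x : MulAut L, x ≠ 1 → MulAut.congr e.symm x ≠ 1 := fun x hx h1 =>
    hx ((MulAut.congr e.symm).injective (by rw [h1, map_one]))
  intro a b ha hb
  obtain ⟨s, h1, h2⟩ := h _ _ (hne a ha) (hne b hb)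
  exact ⟨e s, key a s h1, key b s h2⟩

section Main

variable {G : Type u} [Group G] [Finite G]

/-- the components -/
abbrev V (G : Type*) [Group G] : Type _ := {L : Subgroup G // IsComponent L}

/-- `s` acts on every component `v` as `σ v` -/
def Acts (σ : ∀ v : V G, ↥v.1) (s : G) : Prop := ∀ (v : V G), ∀ l ∈ v.1, s * l * s⁻¹ = σ v * l * (σ v : G)⁻¹

theorem comm_of_ne {v w : V G} (h : v ≠ w) {a b : G} (ha : a ∈ v.1) (hb : b ∈ w.1) : a * b = b * a := by
  have h1 := component_le_centralizer_of_ne v.2 w.2 (fun h2 => h (Subtype.ext h2)) ha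
  exact (mem_centralizer_iff.1 h1 b hb).symm

theorem exists_acts (σ : ∀ v : V G, ↥v.1) : ∃ s : G, Acts σ s := by
  classical
  have : Finite (V G) := inferInstance
  have := Fintype.ofFinite (V G)
  have key : ∀ F : Finset (V G), ∃ s : G, ∀ v : V G, ∀ l ∈ v.1,
      (v ∈ F → s * l * s⁻¹ = σ v * l * (σ v : G)⁻¹) ∧ (v ∉ F → s * l * s⁻¹ = l) := by
    intro F
    induction F using Finset.induction_on with
    | empty => exact ⟨1, fun v l _ => ⟨fun h => absurd h (Finset.notMem_empty v), fun _ => by group⟩⟩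
    | insert w F hw ih =>
      obtain ⟨s, hs⟩ := ih
      refine ⟨σ w * s, fun v l hl => ⟨fun hv => ?_, fun hv => ?_⟩⟩
      · by_cases hvw : v = w
        · subst hvw
          have h1 := (hs v l hl).2 hw
          calc σ v * s * l * (σ v * s)⁻¹ = σ v * (s * l * s⁻¹) * (σ v : G)⁻¹ := by group
            _ = _ := by rw [h1]
        · have hvF : v ∈ F := (Finset.mem_insert.1 hv).resolve_left hvw
          have h1 := (hs v l hl).1 hvF
          have h2 : σ v * l * (σ v : G)⁻¹ ∈ v.1 := mul_mem (mul_mem (σ v).2 hl) (inv_mem (σ v).2)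
          have h3 := comm_of_ne hvw h2 (σ w).2
          calc σ w * s * l * (σ w * s)⁻¹ = σ w * (s * l * s⁻¹) * (σ w : G)⁻¹ := by group
            _ = (σ v * l * (σ v : G)⁻¹ * σ w) * (σ w : G)⁻¹ := by rw [h1, h3]
            _ = _ := by group
      · rw [Finset.mem_insert, not_or] at hv
        have h1 := (hs v l hl).2 hv.2
        have h3 := comm_of_ne hv.1 hl (σ w).2
        calc σ w * s * l * (σ w * s)⁻¹ = σ w * (s * l * s⁻¹) * (σ w : G)⁻¹ := by group
          _ = (l * σ w) * (σ w : G)⁻¹ := by rw [h1, h3]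
          _ = _ := by group
  obtain ⟨s, hs⟩ := key Finset.univ
  exact ⟨s, fun v l hl => (hs v l hl).1 (Finset.mem_univ v)⟩

theorem mem_normalizer_of_acts {L : Subgroup G} {s u : G} (hu : u ∈ L) (h : ∀ l ∈ L, s * l * s⁻¹ = u * l * u⁻¹) :
    s ∈ normalizer (L : Set G) := by
  rw [mem_normalizer_iff_map_conj_eq]
  refine eq_of_le_of_card_ge ?_ (le_of_eq (card_map_of_injective (MulAut.conj s).injective).symm)
  rintro _ ⟨l, hl, rfl⟩
  show s * l * s⁻¹ ∈ L
  rw [h l hl]
  exact mul_mem (mul_mem hu hl) (inv_mem hu)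

theorem acts_eq {L : Subgroup G} {s : G} {u : L} (h : ∀ l ∈ L, s * l * s⁻¹ = u * l * (u : G)⁻¹)
    (hs : s ∈ normalizer (L : Set G)) : L.normalizerMonoidHom ⟨s, hs⟩ = MulAut.conj u := by
  ext l
  exact h l l.2

/-- a condition on assignments which implies that `⟨x, s⟩` is not solvable, and can be satisfied at every component of `X` -/
structure Con (x : G) (X : Set (V G)) (C : (∀ v : V G, ↥v.1) → Prop) : Prop where
  nonempty : X.Nonempty
  dep : ∀ σ τ : (∀ v : V G, ↥v.1), (∀ v ∈ X, σ v = τ v) → C σ → C τ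
  loc : ∀ v ∈ X, ∀ σ : (∀ v : V G, ↥v.1), (∀ w, σ w ≠ 1) → ∃ α : MulAut v.1, α ≠ 1 ∧ ∀ t : v.1,
    ¬ Group.IsSolvable (closure ({α, MulAut.conj t} : Set (MulAut v.1))) → ∀ τ : (∀ v : V G, ↥v.1),
      τ v = t → (∀ w, w ≠ v → τ w = σ w) → C τ
  fin : ∀ (σ : ∀ v : V G, ↥v.1) (s : G), Acts σ s → C σ → ¬ Group.IsSolvable (closure ({x, s} : Set G))

theorem closure_sub {L : Subgroup G} (a b : L) :
    Group.IsSolvable (closure ({(a : G), (b : G)} : Set G)) ↔ Group.IsSolvable (closure ({a, b} : Set L)) := by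
  have h1 : (closure ({a, b} : Set L)).map L.subtype = closure ({(a : G), (b : G)} : Set G) := by
    rw [MonoidHom.map_closure, Set.image_pair]; rfl
  rw [← h1]
  constructor
  · intro h
    exact Group.isSolvable_of_isSolvable_injective
      (f := ((closure ({a, b} : Set L)).equivMapOfInjective _ L.subtype_injective).toMonoidHom) (MulEquiv.injective _)
  · intro h
    exact isSolvable_map h _

theorem closure_conj_pair {x a b : G} (h : Group.IsSolvable (closure ({a, b} : Set G))) :
    Group.IsSolvable (closure ({x * a * x⁻¹, x * b * x⁻¹} : Set G)) := by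
  have h1 : (closure ({a, b} : Set G)).map (MulAut.conj x).toMonoidHom =
      closure ({x * a * x⁻¹, x * b * x⁻¹} : Set G) := by
    rw [MonoidHom.map_closure, Set.image_pair]; rfl
  rw [← h1]
  exact isSolvable_map h _

/-- nonsolvable in `MulAut L` implies nonsolvable in `G` -/
theorem not_solv {L : Subgroup G} {a b : L}
    (h : ¬ Group.IsSolvable (closure ({MulAut.conj a, MulAut.conj b} : Set (MulAut L)))) :
    ¬ Group.IsSolvable (closure ({(a : G), (b : G)} : Set G)) := by
  intro h1
  apply h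
  rw [closure_sub] at h1
  have h2 : (closure ({a, b} : Set L)).map (MulAut.conj : L →* MulAut L) =
      closure ({MulAut.conj a, MulAut.conj b} : Set (MulAut L)) := by
    rw [MonoidHom.map_closure, Set.image_pair]
  rw [← h2]
  exact isSolvable_map h1 _

theorem pair_swap {H : Type*} [Group H] {a b : H} (h : Group.IsSolvable (closure ({a, b} : Set H))) :
    Group.IsSolvable (closure ({b, a} : Set H)) := by rwa [Set.pair_comm] at h

theorem exists_con (hR : solvableRadical G = ⊥) {x : G} (hx : x ≠ 1) : ∃ X C, Con x X C := by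
  obtain ⟨L, hL, l0, hl0, hne0⟩ := exists_component hR hx
  have hcen := component_center hR hL
  by_cases hm : x ∈ normalizer (L : Set G)
  · set x' : MulAut L := L.normalizerMonoidHom ⟨x, hm⟩ with hx'
    have hx1 : x' ≠ 1 := by
      intro h1
      apply hne0
      have h3 : ((x' ⟨l0, hl0⟩ : L) : G) = l0 := by rw [h1]; rfl
      have h4 : ((x' ⟨l0, hl0⟩ : L) : G) = x * l0 * x⁻¹ := rfl
      rw [h4] at h3
      calc x * l0 = (x * l0 * x⁻¹) * x := by group
        _ = l0 * x := by rw [h3]
    refine ⟨{⟨L, hL⟩}, fun σ => ¬ Group.IsSolvable (closure ({x', MulAut.conj (σ ⟨L, hL⟩)} : Set (MulAut L))),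
      Set.singleton_nonempty _, ?_, ?_, ?_⟩
    · intro σ τ h hσ
      rwa [h _ rfl] at hσ
    · rintro v rfl σ _
      refine ⟨x', hx1, fun t ht τ hτ _ => ?_⟩
      rwa [hτ]
    · intro σ s hs hC hsol
      apply hC
      have h1 := hs ⟨L, hL⟩
      have hsN : s ∈ normalizer (L : Set G) := mem_normalizer_of_acts (σ ⟨L, hL⟩).2 h1
      exact key hsol (c := x) (d := s) (subset_closure (by simp)) (subset_closure (by simp)) hm hsN hx'.symm
        (acts_eq (u := σ ⟨L, hL⟩) h1 hsN)
  · have hxi : cj x⁻¹ L ≠ L := by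
      intro h1
      have h2 := mem_normalizer_of_cj h1
      exact hm (by simpa using inv_mem h2)
    have hL' : IsComponent (cj x⁻¹ L) := isComponent_conj x⁻¹ hL
    have hcen' := component_center hR hL'
    set v : V G := ⟨L, hL⟩ with hv
    set w : V G := ⟨cj x⁻¹ L, hL'⟩ with hw
    have hvw : w ≠ v := fun h => hxi (congrArg Subtype.val h)
    have hconj : ∀ u ∈ w.1, x * u * x⁻¹ ∈ L := by
      intro u hu
      have h1 := mem_cj.1 hu
      rwa [inv_inv] at h1
    have hconj' : ∀ u ∈ L, x⁻¹ * u * x ∈ w.1 := by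
      intro u hu
      rw [hw]
      show x⁻¹ * u * x ∈ cj x⁻¹ L
      rw [mem_cj]
      have : x⁻¹⁻¹ * (x⁻¹ * u * x) * x⁻¹ = u := by group
      rwa [this]
    refine ⟨{v, w}, fun σ => ¬ Group.IsSolvable (closure ({(σ v : G), x * (σ w : G) * x⁻¹} : Set G)),
      ⟨v, by simp⟩, ?_, ?_, ?_⟩
    · intro σ τ h hσ
      rwa [h v (by simp), h w (by simp)] at hσ
    · rintro z (rfl | rfl) σ hσ
      · -- at `L`
        refine ⟨MulAut.conj (⟨x * (σ w : G) * x⁻¹, hconj _ (σ w).2⟩ : L), ?_, fun t ht τ hτ hτ' hs => ?_⟩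
        · intro h
          have h1 := conj_injective hcen (h.trans (map_one _).symm)
          have h2 : x * (σ w : G) * x⁻¹ = 1 := congrArg Subtype.val h1
          apply hσ w
          apply Subtype.ext
          show (σ w : G) = 1
          calc (σ w : G) = x⁻¹ * (x * (σ w : G) * x⁻¹) * x := by group
            _ = 1 := by rw [h2]; group
        · have h1 := not_solv ht
          apply h1
          rw [hτ, hτ' w hvw] at hs
          exact pair_swap hs
      · -- at `x⁻¹ L x`
        refine ⟨MulAut.conj (⟨x⁻¹ * (σ v : G) * x, hconj' _ (σ v).2⟩ : ↥w.1), ?_, fun t ht τ hτ hτ' hs => ?_⟩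
        · intro h
          have h1 := conj_injective hcen' (h.trans (map_one _).symm)
          have h2 : x⁻¹ * (σ v : G) * x = 1 := congrArg Subtype.val h1
          apply hσ v
          apply Subtype.ext
          show (σ v : G) = 1
          calc (σ v : G) = x * (x⁻¹ * (σ v : G) * x) * x⁻¹ := by group
            _ = 1 := by rw [h2]; group
        · have h1 := not_solv ht
          apply h1
          rw [hτ, hτ' v hvw.symm] at hs
          have h2 := closure_conj_pair (x := x⁻¹) hs
          have e1 : x⁻¹ * (x * (t : G) * x⁻¹) * x⁻¹⁻¹ = t := by group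
          have e2 : x⁻¹ * (σ v : G) * x⁻¹⁻¹ = x⁻¹ * (σ v : G) * x := by group
          rw [e1, e2] at h2
          exact h2
    · intro σ s hs hC hsol
      apply hC
      have h1 := hs v
      have h2 := hs w
      have h3 : ∀ l ∈ L, x * s * x⁻¹ * l * (x * s * x⁻¹)⁻¹ =
          (x * (σ w : G) * x⁻¹) * l * (x * (σ w : G) * x⁻¹)⁻¹ := by
        intro l hl
        have h4 := h2 _ (hconj' l hl)
        calc x * s * x⁻¹ * l * (x * s * x⁻¹)⁻¹ = x * (s * (x⁻¹ * l * x) * s⁻¹) * x⁻¹ := by group
          _ = x * (σ w * (x⁻¹ * l * x) * (σ w : G)⁻¹) * x⁻¹ := by rw [h4]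
          _ = _ := by group
      have hsN : s ∈ normalizer (L : Set G) := mem_normalizer_of_acts (σ v).2 h1
      have hsN' : x * s * x⁻¹ ∈ normalizer (L : Set G) := mem_normalizer_of_acts (hconj _ (σ w).2) h3
      have h5 := key hsol (c := s) (d := x * s * x⁻¹) (subset_closure (by simp))
        (mul_mem (mul_mem (subset_closure (by simp)) (subset_closure (by simp)))
          (inv_mem (subset_closure (by simp)))) hsN hsN'
        (acts_eq (u := σ v) h1 hsN) (acts_eq (u := (⟨x * (σ w : G) * x⁻¹, hconj _ (σ w).2⟩ : L)) h3 hsN')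
      have h6 := solvable_of_conj hcen h5
      have h7 := (closure_sub (L := L) (σ v) (⟨x * (σ w : G) * x⁻¹, hconj _ (σ w).2⟩ : L)).2 h6
      exact h7

theorem ne_one_of_not_solv {L : Type*} [Group L] {α : MulAut L} {t : L}
    (h : ¬ Group.IsSolvable (closure ({α, MulAut.conj t} : Set (MulAut L)))) : t ≠ 1 := by
  rintro rfl
  apply h
  refine isSolvable_of_le (K := zpowers α) ?_ (Group.isSolvable_of_comm fun a b => ?_)
  · rw [closure_le]
    rintro z (rfl | rfl)
    · exact mem_zpowers _
    · rw [map_one]; exact one_mem _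
  · obtain ⟨i, hi⟩ := mem_zpowers_iff.1 a.2
    obtain ⟨j, hj⟩ := mem_zpowers_iff.1 b.2
    apply Subtype.ext
    push_cast
    rw [← hi, ← hj, ← zpow_add, ← zpow_add, add_comm]

open Classical in
theorem exists_sol (hAS : ∀ v : V G, AS2 v.1) {x y : G} {X Y : Set (V G)} {C D : (∀ v : V G, ↥v.1) → Prop}
    (hC : Con x X C) (hD : Con y Y D) (σ : ∀ v : V G, ↥v.1) (hσ : ∀ v, σ v ≠ 1) : ∃ τ, C τ ∧ D τ := by
  -- the asymmetric case
  have key : ∀ {x y : G} {X Y : Set (V G)} {C D : (∀ v : V G, ↥v.1) → Prop}, Con x X C → Con y Y D →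
      ∀ z ∈ X, z ∉ Y → ∃ τ, C τ ∧ D τ := by
    intro x y X Y C D hC hD z hz hzY
    obtain ⟨w, hw⟩ := hD.nonempty
    obtain ⟨β, hβ, h1⟩ := hD.loc w hw σ hσ
    obtain ⟨t, ht, -⟩ := hAS w β β hβ hβ
    have hσ1 : ∀ v, Function.update σ w t v ≠ 1 := by
      intro v
      by_cases hv : v = w
      · subst hv
        rw [Function.update_self]
        exact ne_one_of_not_solv ht
      · rw [Function.update_of_ne hv]
        exact hσ v
    have h2 : D (Function.update σ w t) := h1 t ht _ (Function.update_self _ _ _) fun v hv => Function.update_of_ne hv _ _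
    obtain ⟨α, hα, h3⟩ := hC.loc z hz _ hσ1
    obtain ⟨u, hu, -⟩ := hAS z α α hα hα
    refine ⟨Function.update (Function.update σ w t) z u,
      h3 u hu _ (Function.update_self _ _ _) fun v hv => Function.update_of_ne hv _ _, ?_⟩
    refine hD.dep _ _ (fun v hv => ?_) h2
    rw [Function.update_of_ne (a := v) (a' := z)]
    rintro rfl
    exact hzY hv
  by_cases h1 : ∃ z ∈ X, z ∉ Y
  · obtain ⟨z, hz, hzY⟩ := h1
    exact key hC hD z hz hzY
  by_cases h2 : ∃ z ∈ Y, z ∉ X
  · obtain ⟨z, hz, hzX⟩ := h2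
    obtain ⟨τ, h3, h4⟩ := key hD hC z hz hzX
    exact ⟨τ, h4, h3⟩
  push Not at h1 h2
  obtain ⟨z, hz⟩ := hC.nonempty
  obtain ⟨α, hα, h3⟩ := hC.loc z hz σ hσ
  obtain ⟨β, hβ, h4⟩ := hD.loc z (h1 z hz) σ hσ
  obtain ⟨t, ht1, ht2⟩ := hAS z α β hα hβ
  exact ⟨Function.update σ z t, h3 t ht1 _ (Function.update_self _ _ _) fun v hv => Function.update_of_ne hv _ _,
    h4 t ht2 _ (Function.update_self _ _ _) fun v hv => Function.update_of_ne hv _ _⟩

theorem main_trivial (hR : solvableRadical G = ⊥)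
    (core : ∀ L : Subgroup G, IsSimpleGroup L → ¬ IsMulCommutative L → AS2 L) {x y : G} (hx : x ≠ 1) (hy : y ≠ 1) :
    ∃ s : G, ¬ Group.IsSolvable (closure ({x, s} : Set G)) ∧ ¬ Group.IsSolvable (closure ({y, s} : Set G)) := by
  have hAS : ∀ v : V G, AS2 v.1 := fun v => core v.1 (component_simple hR v.2) (quasisimple_not_isMulCommutative v.2.2)
  have hne : ∀ v : V G, ∃ a : v.1, a ≠ 1 := by
    intro v
    have := component_simple hR v.2
    exact exists_ne 1
  choose σ hσ using hne
  obtain ⟨X, C, hC⟩ := exists_con hR hx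
  obtain ⟨Y, D, hD⟩ := exists_con hR hy
  obtain ⟨τ, h1, h2⟩ := exists_sol hAS hC hD σ hσ
  obtain ⟨s, hs⟩ := exists_acts τ
  exact ⟨s, hC.fin τ s hs h1, hD.fin τ s hs h2⟩

/-- **The reduction of S3943 to simple groups.** -/
theorem reduction (core : ∀ (K : Type u) [Group K] [Finite K] [IsSimpleGroup K], ¬ IsMulCommutative K → AS2 K)
    (G : Type u) [Group G] [Finite G] (x y : G) (hx : x ∉ Cfsg.solvableRadical G) (hy : y ∉ Cfsg.solvableRadical G) :
    ∃ s : G, ¬ Group.IsSolvable (closure ({x, s} : Set G)) ∧ ¬ Group.IsSolvable (closure ({y, s} : Set G)) := by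
  have hRn := rad_normal G
  set R := solvableRadical G with hRdef
  have hx' : QuotientGroup.mk' R x ≠ 1 := fun h => hx ((QuotientGroup.eq_one_iff x).1 h)
  have hy' : QuotientGroup.mk' R y ≠ 1 := fun h => hy ((QuotientGroup.eq_one_iff y).1 h)
  obtain ⟨s, h1, h2⟩ := main_trivial (rad_quotient (G := G)) (fun L hL hL' => core L hL') hx' hy'
  obtain ⟨g, rfl⟩ := QuotientGroup.mk'_surjective R s
  have key : ∀ z : G, Group.IsSolvable (closure ({z, g} : Set G)) →
      Group.IsSolvable (closure ({QuotientGroup.mk' R z, QuotientGroup.mk' R g} : Set (G ⧸ R))) := by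
    intro z hz
    have h2 : (closure ({z, g} : Set G)).map (QuotientGroup.mk' R) =
        closure ({QuotientGroup.mk' R z, QuotientGroup.mk' R g} : Set (G ⧸ R)) := by
      rw [MonoidHom.map_closure, Set.image_pair]
    rw [← h2]
    exact isSolvable_map hz _
  exact ⟨g, fun h => h1 (key x h), fun h => h2 (key y h)⟩

end Main

end Cfsg.Agent.H965.AS
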