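import Cfsg.Agent.H965.ASCount
import Cfsg.Agent.H296.CommCases
import Cfsg.Agent.OrdDiv.Table
import Cfsg.Agent.H149.Sp.Engine

/-!
# `AS2` for groups with an isolated prime (helper965)

`AS2.of_comm` : the elements of prime order `p` are solvably unique and do not commute with involutions; the orders of
the nonabelian simple groups dividing `|S| / q` which are divisible by `p` are at most `B`:
`2 B < |S : N(⟨y⟩)|` implies `AS2 S`.
-/

set_option autoImplicit false
set_option linter.unusedSectionVars false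

namespace Cfsg.Agent.H965.AS

open Pointwise
open Cfsg Subgroup Cfsg.Agent.H465.SU Cfsg.Agent.H465.Red Cfsg.Agent.H965.SU Cfsg.Agent.H296.TwoPart
open Cfsg.Agent.H296.Comm Cfsg.Agent.OrdDiv Cfsg.Agent.H393.Iso Cfsg.Agent.H363.Frat

universe u

/-- a solvable subgroup normalised by a solvably unique `y` of prime order `p` is centralised by `y` -/
theorem comm_of_solv {S : Type u} [Group S] [Finite S] {p : ℕ} (hp : p.Prime) {y : S} (hy : orderOf y = p)
    (hsu : SUel p y) {W : Subgroup S} (hW : Group.IsSolvable W) (hpW : ¬ p ∣ Nat.card W)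
    (hn : ∀ w ∈ W, y * w * y⁻¹ ∈ W) : ∀ w ∈ W, w * y = y * w := by
  have hpf : Fact p.Prime := ⟨hp⟩
  have hyn : y ∈ normalizer (W : Set S) := by
    have h1 : W.map (MulAut.conj y).toMonoidHom = W := by
      refine eq_of_le_of_card_ge ?_ (le_of_eq (card_map_of_injective (MulAut.conj y).injective).symm)
      rintro _ ⟨v, hv, rfl⟩
      exact hn v hv
    rw [mem_normalizer_iff]
    intro h
    constructor
    · exact hn h
    · intro h2
      rw [← h1] at h2
      obtain ⟨v, hv, e⟩ := h2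
      have : v = h := by
        have h3 : y * v * y⁻¹ = y * h * y⁻¹ := e
        exact mul_left_cancel (mul_right_cancel h3)
      rw [← this]; exact hv
  have hle : zpowers y ≤ normalizer (W : Set S) := zpowers_le.2 hyn
  -- `W ⊔ ⟨y⟩` is solvable
  set M := W ⊔ zpowers y with hM
  have hWM : W ≤ M := le_sup_left
  have hyM : y ∈ M := (le_sup_right : zpowers y ≤ M) (mem_zpowers y)
  have hMn : M ≤ normalizer (W : Set S) := sup_le le_normalizer hle
  have hnorm : (W.subgroupOf M).Normal := by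
    refine ⟨fun w hw g => ?_⟩
    rw [mem_subgroupOf] at hw ⊢
    exact (mem_normalizer_iff.1 (hMn g.2) w).1 hw
  have hsolv : Group.IsSolvable M := by
    have h1 : Group.IsSolvable (W.subgroupOf M) :=
      Group.isSolvable_of_isSolvable_injective (f := (subgroupOfEquivOfLe hWM).toMonoidHom) (subgroupOfEquivOfLe hWM).injective
    have h2 : Function.Surjective ((QuotientGroup.mk' (W.subgroupOf M)).comp (inclusion (le_sup_right : zpowers y ≤ M))) := by
      intro q
      obtain ⟨m, rfl⟩ := QuotientGroup.mk'_surjective _ q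
      have hm : (m : S) ∈ (((zpowers y : Subgroup S) : Set S) * (W : Set S) : Set S) := by
        rw [← coe_mul_of_left_le_normalizer_right _ _ hle, sup_comm]
        exact m.2
      obtain ⟨a, ha, b, hb, e⟩ := hm
      refine ⟨⟨a, ha⟩, ?_⟩
      show QuotientGroup.mk' (W.subgroupOf M) _ = QuotientGroup.mk' (W.subgroupOf M) m
      rw [QuotientGroup.mk'_apply, QuotientGroup.mk'_apply, QuotientGroup.eq]
      rw [mem_subgroupOf]
      show a⁻¹ * (m : S) ∈ W
      rw [← e, inv_mul_cancel_left]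
      exact hb
    have h3 : Group.IsSolvable (M ⧸ W.subgroupOf M) := Group.isSolvable_of_surjective h2
    exact Group.isSolvable_of_ker_le_range (W.subgroupOf M).subtype (QuotientGroup.mk' (W.subgroupOf M)) (by
      rw [QuotientGroup.ker_mk', range_subtype])
  intro w hw
  have h1 := hsu.2.2 M hsolv hyM ((zpowers y).map (MulAut.conj w).toMonoidHom) (zpowers y) (by
      rintro _ ⟨v, hv, rfl⟩
      exact mul_mem (mul_mem (hWM hw) ((le_sup_right : zpowers y ≤ M) hv)) (inv_mem (hWM hw))) le_sup_right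
    (by rw [card_map_of_injective (MulAut.conj w).injective, Nat.card_zpowers, hy]) (by rw [Nat.card_zpowers, hy])
  have h2 : w * y * w⁻¹ ∈ zpowers y := by
    rw [← h1]
    exact ⟨y, mem_zpowers y, rfl⟩
  have h3 : w * y * w⁻¹ * y⁻¹ ∈ zpowers y := mul_mem h2 (inv_mem (mem_zpowers y))
  have h4 : w * y * w⁻¹ * y⁻¹ ∈ W := by
    have : w * y * w⁻¹ * y⁻¹ = w * (y * w⁻¹ * y⁻¹) := by group
    rw [this]
    exact mul_mem hw (hn _ (inv_mem hw))
  have h5 : w * y * w⁻¹ * y⁻¹ = 1 := by
    by_contra hne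
    have h6 : orderOf (w * y * w⁻¹ * y⁻¹) ∣ p := by
      have := orderOf_dvd_natCard (⟨_, h3⟩ : zpowers y)
      rwa [orderOf_mk, Nat.card_zpowers, hy] at this
    have h7 := ((Nat.dvd_prime hp).1 h6).resolve_left (fun h => hne (orderOf_eq_one_iff.1 h))
    apply hpW
    rw [← h7, ← orderOf_mk _ h4]
    exact orderOf_dvd_natCard _
  calc w * y = w * y * w⁻¹ * y⁻¹ * (y * w) := by group
    _ = y * w := by rw [h5, one_mul]

section

variable {S : Type u} [Group S] [Finite S] {p : ℕ}

/-- `|D| ≤ |N_D(⟨y⟩)| |M / R|` -/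
theorem card_cent_le (hp : p.Prime) (hp2 : p ≠ 2) (h2 : ¬ p ^ 2 ∣ Nat.card S) (hsu : ∀ y : S, orderOf y = p → SUel p y)
    (na : NA p S) {y : S} (hy : orderOf y = p) {D : Subgroup S} (hyD : y ∈ D) {R M : Subgroup ↥D}
    [hRn : R.Normal] (F : Fac p R M) :
    Nat.card D ≤ Nat.card ↥(D ⊓ normalizer ((zpowers y : Subgroup S) : Set S)) *
        Nat.card ↥(M.map (QuotientGroup.mk' R)) := by
  have hpf : Fact p.Prime := ⟨hp⟩
  have hyo : orderOf (⟨y, hyD⟩ : D) = p := by rw [orderOf_mk, hy]
  have hD2 : ¬ p ^ 2 ∣ Nat.card D := fun h => h2 (h.trans (card_subgroup_dvd_card D))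
  have hpD : p ∣ Nat.card D := by rw [← hyo]; exact orderOf_dvd_natCard _
  have hpos : p ∣ R.index := by
    have h3 := hpD
    rw [← R.card_mul_index] at h3
    exact (hp.dvd_mul.1 h3).resolve_left F.nd
  -- `R` has odd order
  have hodd : ¬ 2 ∣ Nat.card R := by
    intro h3
    obtain ⟨T, Q, hTR, hT2, hTc, hQp, hQd, hQT⟩ := exists_normalizing (G := D) hp Nat.prime_two R (k := 1)
      (by rw [pow_one]; exact hpos)
    rw [pow_one] at hQd
    obtain ⟨q, hq⟩ := exists_prime_orderOf_dvd_card' p hQd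
    have hqo : orderOf (((q : D)) : S) = p := by rw [orderOf_coe, orderOf_coe, hq]
    have hT2' : IsPGroup 2 ↥(T.map D.subtype) := hT2.map _
    have hf2 : Fact (Nat.Prime 2) := ⟨Nat.prime_two⟩
    have hTs : Group.IsSolvable ↥(T.map D.subtype) := by
      have := hT2'.isNilpotent
      infer_instance
    have h4 := comm_of_solv hp hqo (hsu _ hqo) hTs (fun h4 => by
      obtain ⟨n, hn⟩ := IsPGroup.iff_card.1 hT2'
      rw [hn] at h4
      exact hp2 ((Nat.prime_dvd_prime_iff_eq hp Nat.prime_two).1 (hp.dvd_of_dvd_pow h4))) (by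
      rintro _ ⟨t, ht, rfl⟩
      exact ⟨_, (mem_normalizer_iff.1 (hQT q.2) t).1 ht, rfl⟩)
    have h5 : 2 ∣ Nat.card T := by
      rw [hTc]
      exact dvd_pow_self 2 (Nat.prime_two.factorization_pos_of_dvd Nat.card_pos.ne' h3).ne'
    obtain ⟨t, ht⟩ := exists_prime_orderOf_dvd_card' 2 h5
    refine na _ (((t : D)) : S) hqo (by rw [orderOf_coe, orderOf_coe, ht]) ?_
    exact (h4 _ ⟨(t : D), t.2, rfl⟩).symm
  have hRs : Group.IsSolvable ↥(R.map D.subtype) := by
    refine S0205.result ?_
    rw [card_map_of_injective D.subtype_injective]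
    exact Nat.not_even_iff_odd.1 fun h => hodd (even_iff_two_dvd.1 h)
  have hRC := comm_of_solv hp hy (hsu y hy) hRs (by
      rw [card_map_of_injective D.subtype_injective]; exact F.nd) (by
    rintro _ ⟨r, hr, rfl⟩
    exact ⟨_, hRn.conj_mem r hr ⟨y, hyD⟩, rfl⟩)
  -- the Frattini argument
  have hMn := F.nM
  obtain ⟨P, hP⟩ := Cfsg.Agent.H149.Sp.Eng.exists_sylow hp hD2 hyo
  have hyM : (⟨y, hyD⟩ : D) ∈ M := F.mem hp hD2 hyo
  have hPM : (P : Subgroup D) ≤ M := by rw [hP, zpowers_le]; exact hyM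
  have hfr := Sylow.normalizer_sup_eq_top' P hPM
  set H := normalizer ((P : Subgroup D) : Set D) with hH
  have hfr' : H ⊔ M = ⊤ := hfr
  have h1 : M.relIndex H = M.index := by rw [← relIndex_sup_right, hfr', relIndex_top_right]
  have h3 : Nat.card ↥(M ⊓ H) * M.index = Nat.card H := by
    rw [← h1, ← inf_relIndex_right M H]
    exact Cfsg.Agent.Lib.HallHigman.card_mul_relIndex' inf_le_right
  have hRH : R ≤ M ⊓ H := by
    intro r hr
    refine ⟨F.le hr, ?_⟩
    have h4 : (⟨y, hyD⟩ : D) * r = r * ⟨y, hyD⟩ := Subtype.ext (hRC _ ⟨r, hr, rfl⟩).symm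
    apply centralizer_le_normalizer
    rw [mem_centralizer_iff]
    intro v hv
    rw [hP] at hv
    obtain ⟨i, rfl⟩ := mem_zpowers_iff.1 hv
    have h5 : Commute (⟨y, hyD⟩ : D) r := h4
    exact (h5.zpow_left i).eq
  have h4 : Nat.card R ≤ Nat.card ↥(M ⊓ H) := card_le_of_le hRH
  have h5 : Nat.card H ≤ Nat.card ↥(D ⊓ normalizer ((zpowers y : Subgroup S) : Set S)) := by
    have e : Nat.card H = Nat.card ↥(H.map D.subtype) := (card_map_of_injective D.subtype_injective).symm
    rw [e]
    apply card_le_of_le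
    rintro _ ⟨h, hh, rfl⟩
    refine ⟨h.2, ?_⟩
    apply Cfsg.Agent.H149.Sp.Eng.mem_nm_of
    have h6 := (mem_normalizer_iff.1 hh ⟨y, hyD⟩).1 (by
      show _ ∈ (P : Subgroup D)
      rw [hP]; exact mem_zpowers _)
    have h7 : h * ⟨y, hyD⟩ * h⁻¹ ∈ (P : Subgroup D) := h6
    rw [hP] at h7
    obtain ⟨i, hi⟩ := mem_zpowers_iff.1 h7
    exact mem_zpowers_iff.2 ⟨i, congrArg Subtype.val hi⟩
  have h6 : Nat.card R * Nat.card D ≤ Nat.card R * (Nat.card H * Nat.card ↥(M.map (QuotientGroup.mk' R))) := by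
    calc Nat.card R * Nat.card D = Nat.card R * (Nat.card M * M.index) := by rw [M.card_mul_index]
      _ ≤ Nat.card ↥(M ⊓ H) * (Nat.card M * M.index) := Nat.mul_le_mul_right _ h4
      _ = (Nat.card ↥(M ⊓ H) * M.index) * Nat.card M := by ring
      _ = Nat.card H * (Nat.card R * Nat.card ↥(M.map (QuotientGroup.mk' R))) := by rw [h3, F.card]
      _ = _ := by ring
  exact (Nat.le_of_mul_le_mul_left h6 Nat.card_pos).trans (Nat.mul_le_mul_right _ h5)

/-- **The order of the chief factor of `C(u)`** -/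
theorem card_fac_le (AK : ∀ (S : Type u) [Group S] [Finite S] [IsSimpleGroup S], IsKnownSimple' S) (hp : p.Prime)
    {q : ℕ} (hq : q.Prime) {u : S} (hu : orderOf u = q) {R M : Subgroup ↥(centralizer ({u} : Set S))}
    [hRn : R.Normal] (F : Fac p R M) {L : List (ℕ × ℕ)} {N B : ℕ} (hB : p ≤ B) (hv : valid L N = true)
    (hN : Nat.card S = N) (hc : ∀ g ∈ cands L N, ordN g % p = 0 → ordN g ≤ B ∨ ordN g = N) :
    Nat.card ↥(M.map (QuotientGroup.mk' R)) ≤ B := by
  have hsm := F.simple
  have hMn := F.nM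
  by_cases hab : ∀ a b : ↥(M.map (QuotientGroup.mk' R)), a * b = b * a
  · have hcomm : IsMulCommutative ↥(M.map (QuotientGroup.mk' R)) := ⟨⟨hab⟩⟩
    let _ : CommGroup ↥(M.map (QuotientGroup.mk' R)) :=
      { (inferInstance : Group ↥(M.map (QuotientGroup.mk' R))) with mul_comm := hab }
    have h1 : (Nat.card ↥(M.map (QuotientGroup.mk' R))).Prime := IsSimpleGroup.prime_card (α := ↥(M.map (QuotientGroup.mk' R)))
    rw [← (Nat.prime_dvd_prime_iff_eq hp h1).1 F.dvd]
    exact hB
  · have huD : u ∈ centralizer ({u} : Set S) := mem_centralizer_singleton_iff.2 rfl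
    have huc : ∀ d : ↥(centralizer ({u} : Set S)), (⟨u, huD⟩ : ↥(centralizer ({u} : Set S))) * d = d * ⟨u, huD⟩ :=
      fun d => Subtype.ext (mem_centralizer_singleton_iff.1 d.2).symm
    have hSp : Nat.card ↥(M.map (QuotientGroup.mk' R)) * q ∣ Nat.card ↥(centralizer ({u} : Set S)) := by
      have h1 : Nat.card ↥(centralizer ({u} : Set S)) =
          Nat.card ↥(M.map (QuotientGroup.mk' R)) * (Nat.card R * M.index) := by
        rw [← M.card_mul_index, F.card]
        ring
      rw [h1]
      apply Nat.mul_dvd_mul_left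
      by_cases huR : (⟨u, huD⟩ : ↥(centralizer ({u} : Set S))) ∈ R
      · apply Dvd.dvd.mul_right
        rw [← hu, ← Subgroup.orderOf_mk u huD, ← Subgroup.orderOf_mk (⟨u, huD⟩ : ↥(centralizer ({u} : Set S))) huR]
        exact orderOf_dvd_natCard _
      · apply Dvd.dvd.mul_left
        have huM : (⟨u, huD⟩ : ↥(centralizer ({u} : Set S))) ∉ M := by
          intro huM
          set s : ↥(M.map (QuotientGroup.mk' R)) := ⟨QuotientGroup.mk' R ⟨u, huD⟩, ⟨_, huM, rfl⟩⟩ with hs
          have hsc : s ∈ center ↥(M.map (QuotientGroup.mk' R)) := by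
            rw [mem_center_iff]
            rintro ⟨_, m, hm, rfl⟩
            apply Subtype.ext
            show QuotientGroup.mk' R m * QuotientGroup.mk' R ⟨u, huD⟩ = QuotientGroup.mk' R ⟨u, huD⟩ * QuotientGroup.mk' R m
            rw [← map_mul, ← map_mul, huc]
          have hcb : center ↥(M.map (QuotientGroup.mk' R)) = ⊥ := by
            rcases (inferInstance : (center ↥(M.map (QuotientGroup.mk' R))).Normal).eq_bot_or_eq_top with h | h
            · exact h
            · exfalso
              apply hab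
              intro a b
              exact (mem_center_iff.1 (h ▸ mem_top b : b ∈ center ↥(M.map (QuotientGroup.mk' R))) a)
          rw [hcb, mem_bot] at hsc
          have h2 : QuotientGroup.mk' R ⟨u, huD⟩ = 1 := congrArg Subtype.val hsc
          exact huR ((QuotientGroup.eq_one_iff _).1 h2)
        have h3 : orderOf ((⟨u, huD⟩ : ↥(centralizer ({u} : Set S))) : ↥(centralizer ({u} : Set S)) ⧸ M) ∣ q := by
          rw [← hu, ← Subgroup.orderOf_mk u huD]
          exact orderOf_map_dvd (QuotientGroup.mk' M) _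
        rcases (Nat.dvd_prime hq).1 h3 with h4 | h4
        · exact absurd ((QuotientGroup.eq_one_iff _).1 (orderOf_eq_one_iff.1 h4)) huM
        · rw [← h4]
          exact orderOf_dvd_natCard _
    have hSq : Nat.card ↥(M.map (QuotientGroup.mk' R)) * q ∣ N :=
      hSp.trans (hN ▸ Subgroup.card_subgroup_dvd_card _)
    have hSN : Nat.card ↥(M.map (QuotientGroup.mk' R)) ∣ N := (dvd_mul_right _ _).trans hSq
    obtain ⟨g, hg, hr, hcg⟩ := exists_good OrdDiv.table (AK _) hab hv hSN
    rw [hcg] at hSq ⊢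
    refine (hc g hg ?_).resolve_right fun h => ?_
    · rw [← hcg]
      exact Nat.mod_eq_zero_of_dvd F.dvd
    · rw [h] at hSq
      have h1 := Nat.le_of_dvd (valid_pos hv) hSq
      have h2 := valid_pos hv
      have h3 : N * 2 ≤ N * q := Nat.mul_le_mul_left _ hq.two_le
      omega

end

/-! ### the check -/

/-- all proper simple groups dividing `N` and divisible by `p` have order `≤ B` -/
def chkL (L : List (ℕ × ℕ)) (N p B : ℕ) : Bool :=
  valid L N && (cands L N).all fun g => !(ordN g % p == 0) || (decide (ordN g ≤ B) || ordN g == N)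

theorem chkL_spec {L : List (ℕ × ℕ)} {N p B : ℕ} (h : chkL L N p B = true) :
    ∀ g ∈ cands L N, ordN g % p = 0 → ordN g ≤ B ∨ ordN g = N := by
  intro g hg h1
  unfold chkL at h
  rw [Bool.and_eq_true] at h
  have h2 := List.all_eq_true.1 h.2 g hg
  simp only [Bool.or_eq_true, Bool.not_eq_true', decide_eq_true_eq, beq_iff_eq] at h2
  rcases h2 with h2 | h2
  · rw [h1] at h2
    exact absurd h2 (by decide)
  · exact h2

/-- **The criterion for groups with an isolated prime.** -/
theorem AS2.of_comm (AK : ∀ (S : Type u) [Group S] [Finite S] [IsSimpleGroup S], IsKnownSimple' S) {S : Type u} [Group S]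
    [Finite S] [IsSimpleGroup S] (hna : ¬ IsMulCommutative S) {p : ℕ} (hp : p.Prime) (h5 : 5 ≤ p)
    (hd : p ∣ Nat.card S) (h2 : ¬ p ^ 2 ∣ Nat.card S) (hsu : ∀ y : S, orderOf y = p → SUel p y)
    (na : NA p S) (hin : ∀ b : MulAut S, ∃ g : S, b = MulAut.conj g) {L : List (ℕ × ℕ)} {N B : ℕ} (hN : Nat.card S = N)
    (hB : p ≤ B) (hchk : chkL L N p B = true)
    (hidx : ∀ y : S, orderOf y = p → 2 * B < (normalizer ((zpowers y : Subgroup S) : Set S)).index) : AS2 S := by
  have hpf : Fact p.Prime := ⟨hp⟩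
  have hp2 : p ≠ 2 := by omega
  have hcen : center S = ⊥ := by
    rcases (inferInstance : (center S).Normal).eq_bot_or_eq_top with h1 | h1
    · exact h1
    · exfalso
      apply hna
      refine ⟨⟨fun a b => ?_⟩⟩
      have : b ∈ center S := by rw [h1]; trivial
      exact mem_center_iff.1 this a
  obtain ⟨y, hy⟩ := exists_prime_orderOf_dvd_card' (G := S) p hd
  have hr : SURow S p 1 y :=
    { hp := hp
      odd := hp2
      ha := le_refl 1
      ord := by rw [hy, pow_one]
      su := hsu y hy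
      full := h2
      inn := fun b _ => hin b }
  refine AS2.of_gen hna hr h5 fun x hx hxp hxz => ?_
  have e1 : y ^ p ^ (1 - 1) = y := by simp
  rw [e1] at hxz ⊢
  obtain ⟨u, rfl⟩ := hin x
  have huo : orderOf u = orderOf (MulAut.conj u) :=
    (orderOf_injective (MulAut.conj : S →* MulAut S) (conj_injective hcen) u).symm
  rw [← huo] at hx hxp
  have huy : u * y = y * u := mul_inv_eq_iff_eq_mul.1 hxz
  have hFx : Fx (MulAut.conj u) = centralizer ({u} : Set S) := by
    ext v
    rw [mem_Fx, mem_centralizer_singleton_iff]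
    show u * v * u⁻¹ = v ↔ _
    rw [mul_inv_eq_iff_eq_mul]
    exact eq_comm
  rw [hFx]
  have hyD : y ∈ centralizer ({u} : Set S) := mem_centralizer_singleton_iff.2 huy.symm
  have hu2 : orderOf u ≠ 2 := fun h => na y u hy h huy.symm
  have hD2 : ¬ p ^ 2 ∣ Nat.card ↥(centralizer ({u} : Set S)) := fun h => h2 (h.trans (card_subgroup_dvd_card _))
  have hpD : p ∣ Nat.card ↥(centralizer ({u} : Set S)) := by
    rw [← hy, ← orderOf_mk y hyD]; exact orderOf_dvd_natCard _
  obtain ⟨R, M, hR, F⟩ := exists_fac hp hpD hD2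
  have hv : valid L N = true := by
    have h := hchk
    unfold chkL at h
    rw [Bool.and_eq_true] at h
    exact h.1
  have h3 := card_fac_le AK hp hx rfl F hB hv hN (chkL_spec hchk)
  have h4 := card_cent_le hp hp2 h2 hsu na hy hyD F
  have h5 := hidx y hy
  set D := centralizer ({u} : Set S) with hD
  set Ny := normalizer ((zpowers y : Subgroup S) : Set S) with hNy
  have hNc : 0 < Nat.card Ny := Nat.card_pos
  have hB0 : 0 < B := by omega
  have h6 : Nat.card D ≤ Nat.card ↥(D ⊓ Ny) * B := h4.trans (Nat.mul_le_mul_left _ h3)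
  have h7 : B * (2 * Nat.card Ny) < B * (Nat.card ↥(D ⊓ Ny) * D.index) := by
    calc B * (2 * Nat.card Ny) = Nat.card Ny * (2 * B) := by ring
      _ < Nat.card Ny * Ny.index := Nat.mul_lt_mul_of_pos_left h5 hNc
      _ = Nat.card D * D.index := by rw [card_mul_index, card_mul_index]
      _ ≤ (Nat.card ↥(D ⊓ Ny) * B) * D.index := Nat.mul_le_mul_right _ h6
      _ = _ := by ring
  exact Nat.lt_of_mul_lt_mul_left h7

/-- the index of `N(⟨y⟩)` is divisible by a large power of 2 -/
theorem two_pow_dvd_index {S : Type u} [Group S] [Finite S] {p a : ℕ} (hp : p.Prime) (na : NA p S) {y : S}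
    (hy : orderOf y = p) (h4 : ¬ 4 ∣ p - 1) (ha : 2 ^ (a + 1) ∣ Nat.card S) :
    2 ^ a ∣ (normalizer ((zpowers y : Subgroup S) : Set S)).index := by
  obtain ⟨k, hk, hc⟩ := Cfsg.Agent.H149.Sp.Eng.card_nm hp hy
  have hodd := Cfsg.Agent.H149.Sp.Eng.odd_cm na hy
  have h1 := (normalizer ((zpowers y : Subgroup S) : Set S)).card_mul_index
  have h2 : ¬ 4 ∣ Nat.card ↥(normalizer ((zpowers y : Subgroup S) : Set S)) := by
    intro h3
    rw [show Nat.card ↥(normalizer ((zpowers y : Subgroup S) : Set S)) = _ from hc] at h3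
    have h5 : Nat.Coprime 4 (Nat.card ↥(Cfsg.Agent.H149.Sp.Eng.Cm y)) := by
      have := (Nat.coprime_two_left.2 hodd).pow_left 2
      simpa using this
    exact h4 ((h5.dvd_of_dvd_mul_left h3).trans hk)
  rw [← h1] at ha
  generalize Nat.card ↥(normalizer ((zpowers y : Subgroup S) : Set S)) = n at *
  generalize (normalizer ((zpowers y : Subgroup S) : Set S)).index = i at *
  by_cases h3 : 2 ∣ n
  · obtain ⟨m, rfl⟩ := h3
    have h5 : ¬ 2 ∣ m := fun ⟨c, hc'⟩ => h2 ⟨c, by rw [hc']; ring⟩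
    rw [pow_succ, mul_comm (2 ^ a) 2, mul_assoc] at ha
    have h6 : 2 ^ a ∣ m * i := Nat.dvd_of_mul_dvd_mul_left two_pos ha
    exact (((Nat.Prime.coprime_iff_not_dvd Nat.prime_two).2 h5).pow_left a).dvd_of_dvd_mul_left h6
  · have h6 : 2 ^ a ∣ n * i := (pow_dvd_pow 2 (Nat.le_succ a)).trans ha
    exact (((Nat.Prime.coprime_iff_not_dvd Nat.prime_two).2 h3).pow_left a).dvd_of_dvd_mul_left h6

end Cfsg.Agent.H965.AS
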