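import Cfsg.Agent.H965.ASLt

/-!
# `AS2` by counting solvable pairs (helper965)
-/

set_option autoImplicit false

namespace Cfsg.Agent.H965.AS

open Subgroup

universe u

variable {S : Type u} [Group S] [Finite S]

/-- **The plain counting criterion.** -/
theorem AS2.of_count {s : S} (h : ∀ x : MulAut S, (orderOf x).Prime →
    2 * ({g : S | Group.IsSolvable (closure ({x, MulAut.conj (g * s * g⁻¹)} : Set (MulAut S)))} : Set S).ncard <
      Nat.card S) : AS2 S := by
  classical
  have key : ∀ x : MulAut S, x ≠ 1 →
      2 * ({g : S | Group.IsSolvable (closure ({x, MulAut.conj (g * s * g⁻¹)} : Set (MulAut S)))} : Set S).ncard <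
      Nat.card S := by
    intro x hx
    obtain ⟨t, ht, htx⟩ := Nat.exists_prime_and_dvd (n := orderOf x) (by rwa [ne_eq, orderOf_eq_one_iff])
    have hfin : Finite (MulAut S) := inferInstance
    have h1 : orderOf (x ^ (orderOf x / t)) = t := orderOf_pow_orderOf_div (orderOf_pos x).ne' htx
    refine lt_of_le_of_lt (Nat.mul_le_mul_left 2 (Set.ncard_le_ncard ?_ (Set.toFinite _)))
      (h _ (by rw [h1]; exact ht))
    intro g hg
    have hg' : Group.IsSolvable (closure ({x, MulAut.conj (g * s * g⁻¹)} : Set (MulAut S))) := hg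
    have hle : closure ({x ^ (orderOf x / t), MulAut.conj (g * s * g⁻¹)} : Set (MulAut S)) ≤
        closure ({x, MulAut.conj (g * s * g⁻¹)} : Set (MulAut S)) := by
      rw [closure_le]
      rintro w (rfl | rfl)
      · exact pow_mem (subset_closure (by simp)) _
      · exact subset_closure (by simp)
    exact Group.isSolvable_of_isSolvable_injective (f := inclusion hle) (inclusion_injective hle)
  intro a b ha hb
  by_contra hcon
  push Not at hcon
  have h1 : ({g : S | Group.IsSolvable (closure ({a, MulAut.conj (g * s * g⁻¹)} : Set (MulAut S)))} : Set S) ∪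
      {g : S | Group.IsSolvable (closure ({b, MulAut.conj (g * s * g⁻¹)} : Set (MulAut S)))} = Set.univ := by
    rw [Set.eq_univ_iff_forall]
    intro g
    by_cases hg : Group.IsSolvable (closure ({a, MulAut.conj (g * s * g⁻¹)} : Set (MulAut S)))
    · exact Or.inl hg
    · exact Or.inr (hcon _ hg)
  have h2 := Set.ncard_union_le
    ({g : S | Group.IsSolvable (closure ({a, MulAut.conj (g * s * g⁻¹)} : Set (MulAut S)))} : Set S)
    {g : S | Group.IsSolvable (closure ({b, MulAut.conj (g * s * g⁻¹)} : Set (MulAut S)))}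
  rw [h1, Set.ncard_univ] at h2
  have h3 := key a ha
  have h4 := key b hb
  omega

/-- the same, with the number of conjugates of `x` -/
theorem AS2.of_count_frac {s : S} (h : ∀ x : MulAut S, (orderOf x).Prime → ∃ B : Set S,
    (∀ g : S, Group.IsSolvable (closure ({x, MulAut.conj (g * s * g⁻¹)} : Set (MulAut S))) → g ∈ B) ∧
      2 * B.ncard < Nat.card S) : AS2 S := by
  refine AS2.of_count (s := s) fun x hx => ?_
  obtain ⟨B, hB, h2⟩ := h x hx
  exact lt_of_le_of_lt (Nat.mul_le_mul_left 2 (Set.ncard_le_ncard hB (Set.toFinite _))) h2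

end Cfsg.Agent.H965.AS
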