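import Cfsg.Agent.H965.ASComm
import Cfsg.Agent.H821.SpB
import Cfsg.Agent.H149.Sp.Small
import Cfsg.Agent.H393.Iso.Monster
import Cfsg.Agent.H393.Iso.Baby

/-!
# `AS2` for `Ly`, `B`, `M` (helper965)
-/

set_option autoImplicit false

namespace Cfsg.Agent.H965.AS

open Cfsg Subgroup Cfsg.Agent.H465.SU Cfsg.Agent.H465.Red Cfsg.Agent.H965.SU Cfsg.Agent.H393.Iso

universe u

theorem inner_of_one {K : Type u} [Group K] [Finite K] (h : Nat.card (Cfsg.Out K) = 1) (b : MulAut K) :
    ∃ g : K, b = MulAut.conj g := by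
  have h1 : Subsingleton (Cfsg.Out K) := (Nat.card_eq_one_iff_unique.1 h).1
  have h2 : QuotientGroup.mk' (Cfsg.Inn K) b = 1 := Subsingleton.elim _ _
  have h4 : b ∈ Cfsg.Inn K := (QuotientGroup.eq_one_iff b).1 h2
  obtain ⟨g, hg⟩ := h4
  exact ⟨g, hg.symm⟩

variable (AK : ∀ (S : Type u) [Group S] [Finite S] [IsSimpleGroup S], IsKnownSimple' S)

include AK

theorem row_ly {K : Type u} [Group K] [Finite K] [IsSimpleGroup K] (hna : ¬ IsMulCommutative K) (h : Spor.IsoLy K) :
    AS2 K := by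
  have hcard := Cfsg.Agent.NotCT.Orders.ly h
  have n67 : NA 67 K := Cfsg.Agent.H149.Sp.na_ly_all h (by norm_num) (by norm_num) (by norm_num)
  have hp : Nat.Prime 67 := by norm_num
  have hnd : ¬ 67 ^ 2 ∣ Nat.card K := by rw [hcard]; norm_num
  refine AS2.of_comm AK hna hp (by norm_num) (by rw [hcard]; norm_num) hnd
    (fun y hy => SUel.of_arith hp hnd (arith_of_list [(2, 8), (3, 7), (5, 6), (7, 1), (11, 1), (31, 1), (37, 1)]
      (by norm_num) (by rw [hcard]; norm_num) hp (by decide +kernel) (by decide +kernel)) hy) n67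
    (fun b => ?_) (L := [(2, 8), (3, 7), (5, 6), (7, 1), (11, 1), (31, 1), (37, 1), (67, 1)]) (B := 67) hcard (le_refl _)
    (by decide +kernel) (fun y hy => ?_)
  · obtain ⟨g, hg⟩ := Cfsg.Agent.TypeM.OutLyFin.inner h b
    exact ⟨g, hg.symm⟩
  · have h1 := two_pow_dvd_index (a := 7) hp n67 hy (by norm_num) (by rw [hcard]; norm_num)
    have h2 := Cfsg.Agent.H149.Sp.Eng.index_nm_mod hp hnd hy
    have h3 : (Cfsg.Agent.H149.Sp.Eng.Nm y).index = (normalizer ((zpowers y : Subgroup K) : Set K)).index := rfl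
    rw [h3] at h2
    omega

theorem row_m {K : Type u} [Group K] [Finite K] [IsSimpleGroup K] (hna : ¬ IsMulCommutative K) (h : Spor.IsoM K) :
    AS2 K := by
  have hcard := Cfsg.Agent.NotCT.Orders.m h
  have n59 : NA 59 K := na_m h (Or.inr (Or.inl rfl))
  have hp : Nat.Prime 59 := by norm_num
  have hnd : ¬ 59 ^ 2 ∣ Nat.card K := by rw [hcard]; norm_num
  have ho : Nat.card (Cfsg.Out K) = 1 := h.elim fun e => (Cfsg.Agent.H149.Sp.card_out_congr e).trans S2085.result
  refine AS2.of_comm AK hna hp (by norm_num) (by rw [hcard]; norm_num) hnd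
    (fun y hy => SUel.of_arith hp hnd (arith_of_list [(2, 46), (3, 20), (5, 9), (7, 6), (11, 2), (13, 3), (17, 1),
      (19, 1), (23, 1), (29, 1), (31, 1), (41, 1), (47, 1), (71, 1)]
      (by norm_num) (by rw [hcard]; norm_num) hp (by decide +kernel) (by decide +kernel)) hy) n59
    (inner_of_one ho) (L := [(2, 46), (3, 20), (5, 9), (7, 6), (11, 2), (13, 3), (17, 1),
      (19, 1), (23, 1), (29, 1), (31, 1), (41, 1), (47, 1), (59, 1), (71, 1)]) (B := 102660) hcard (by norm_num)
    (by decide +kernel) (fun y hy => ?_)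
  have h1 := two_pow_dvd_index (a := 45) hp n59 hy (by norm_num) (by rw [hcard]; norm_num)
  have h2 := Nat.le_of_dvd (Nat.pos_of_ne_zero index_ne_zero_of_finite) h1
  exact lt_of_lt_of_le (by norm_num) h2

theorem row_b {K : Type u} [Group K] [Finite K] [IsSimpleGroup K] (hna : ¬ IsMulCommutative K) (h : Spor.IsoB K) :
    AS2 K := by
  have hcard := Cfsg.Agent.NotCT.Orders.b h
  have n47 : NA 47 K := na_b h
  have hp : Nat.Prime 47 := by norm_num
  have hnd : ¬ 47 ^ 2 ∣ Nat.card K := by rw [hcard]; norm_num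
  have ho : Nat.card (Cfsg.Out K) = 1 := h.elim fun e => (Cfsg.Agent.H149.Sp.card_out_congr e).trans S2084.result
  refine AS2.of_comm AK hna hp (by norm_num) (by rw [hcard]; norm_num) hnd
    (fun y hy => Cfsg.Agent.H821.SpB.SUel_of_two hp hnd hy ?_ ?_ ?_) n47
    (inner_of_one ho) (L := [(2,41),(3,13),(5,6),(7,2),(11,1),(13,1),(17,1),(19,1),(23,1),(31,1),(47,1)]) (B := 51888)
    hcard (by norm_num) (by decide +kernel) (fun y hy => ?_)
  · intro t k ht htp ht2 hk hdvd h47
    have h1 : t ^ k ∣ 47 * ([(3, 13), (5, 6), (7, 2), (11, 1), (13, 1), (17, 1), (19, 1), (23, 1), (31, 1)].map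
        fun x : ℕ × ℕ => x.1 ^ x.2).prod := by
      have h2 : t ^ k ∣ 2 ^ 41 * (47 * ([(3, 13), (5, 6), (7, 2), (11, 1), (13, 1), (17, 1), (19, 1), (23, 1), (31, 1)].map
          fun x : ℕ × ℕ => x.1 ^ x.2).prod) := by
        rw [hcard] at hdvd
        convert hdvd using 1
        decide +kernel
      exact (Nat.Coprime.pow k 41 ((Nat.coprime_primes ht Nat.prime_two).2 ht2)).dvd_of_dvd_mul_left h2
    exact arith_of_list (p := 47) [(3, 13), (5, 6), (7, 2), (11, 1), (13, 1), (17, 1), (19, 1), (23, 1), (31, 1)]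
      (by norm_num) rfl hp (by decide +kernel) (by decide +kernel) t k ht htp hk h1 h47
  · intro u hu
    exact n47 y u hy hu
  · intro k E hk hE hdvd h47 h2
    have hk23 : 23 ≤ k := by
      by_contra hcon
      push Not at hcon
      interval_cases k <;> norm_num at h47
    have h1 := Cfsg.Agent.H821.SpB.card_le h h2
    rw [hE] at h1
    exact absurd h1 (not_le.2 (Nat.pow_lt_pow_right (by norm_num) (by omega)))
  · have h1 := two_pow_dvd_index (a := 40) hp n47 hy (by norm_num) (by rw [hcard]; norm_num)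
    have h2 := Nat.le_of_dvd (Nat.pos_of_ne_zero index_ne_zero_of_finite) h1
    exact lt_of_lt_of_le (by norm_num) h2

end Cfsg.Agent.H965.AS
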