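import Cfsg.Agent.H965.ASLt
import Cfsg.Agent.H965.ASCount
import Cfsg.Agent.H465.SpArith
import Cfsg.Agent.H408.SporSelf
import Cfsg.Agent.H498.SporOut
import Cfsg.Agent.H199.NSmAbs
import Cfsg.Agent.H465.PETable

/-!
# `AS2` for sporadic groups with a self-centralising solvably unique element of prime order (helper965)
-/

set_option autoImplicit false
set_option linter.unusedSectionVars false

namespace Cfsg.Agent.H965.AS

open Cfsg Subgroup Cfsg.Agent Cfsg.Agent.H465.SU Cfsg.Agent.H965.SU Cfsg.Agent.H408.SporEng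

universe u

section

variable {K : Type u} [Group K] [Finite K] [IsSimpleGroup K]

theorem not_dvd_out (hsp : IsSporadicGroup K) {p : ℕ} (h5 : 5 ≤ p) : ¬ p ∣ Nat.card (Cfsg.Out K) := by
  intro hd
  have h2 := Cfsg.Agent.H498.SporOut.index_le_two hsp
  have h3 : (MulAut.conj : K →* MulAut K).range.index = Nat.card (Cfsg.Out K) := rfl
  rw [h3] at h2
  have := Nat.le_of_dvd Nat.card_pos hd
  omega

/-- a solvably unique element of prime order `p` and a self-centralising one -/
theorem AS2.of_self1 (hna : ¬ IsMulCommutative K) (hsp : IsSporadicGroup K) {p : ℕ} (hp : p.Prime) (h5 : 5 ≤ p)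
    (h2 : ¬ p ^ 2 ∣ Nat.card K) {y : K} (hy : orderOf y = p) (hsu : SUel p y) (hs : Self p K) : AS2 K := by
  obtain ⟨x, hx, hc⟩ := hs
  have h1 := H199.NSmAbs.card_cent_dvd hp h2 hx hy
  rw [hc] at h1
  have h3 : Nat.card ↥(centralizer ({y} : Set K)) = p := by
    refine Nat.dvd_antisymm h1 ?_
    have h4 := H199.NSmAbs.card_cent_dvd hp h2 hy hx
    rwa [hc] at h4
  have hr : SURow K p 1 y :=
    { hp := hp
      odd := by omega
      ha := le_refl 1
      ord := by rw [hy, pow_one]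
      su := hsu
      full := h2
      inn := fun b hb => inner_of_card hp (not_dvd_out hsp h5) b hb }
  refine AS2.of_self hna hr h5 ?_
  have e1 : y ^ p ^ (1 - 1) = y := by simp
  rw [e1, h3, pow_one]

theorem AS2.of_ls (hna : ¬ IsMulCommutative K) (hsp : IsSporadicGroup K) {N p : ℕ} (L : List (ℕ × ℕ))
    (hG : Nat.card K = N) (hp : p.Prime) (hp5 : 5 ≤ p)
    (hN : N = p * (L.map fun x => x.1 ^ x.2).prod) (hL : ∀ x ∈ L, x.1.Prime) (hnd : (p :: L.map Prod.fst).Nodup)
    (h : ∀ x ∈ L, ∀ k ∈ List.range (x.2 + 1), 0 < k → ¬ p ∣ x.1 ^ k - 1) (h1 : ¬ p ^ 2 ∣ N) (hs : Self p K) :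
    AS2 K := by
  subst hG
  have : Fact p.Prime := ⟨hp⟩
  obtain ⟨y, hy⟩ := exists_prime_orderOf_dvd_card' (G := K) p (by rw [hN]; exact dvd_mul_right _ _)
  rw [List.nodup_cons] at hnd
  exact AS2.of_self1 hna hsp hp hp5 h1 hy (SUel.of_arith hp h1 (arith_of_list L hL hN hp hnd.2 h) hy) hs

theorem row_m11 (hna : ¬ IsMulCommutative K) (hsp : IsSporadicGroup K) (h : Spor.IsoM11 K) : AS2 K :=
  AS2.of_ls hna hsp (p := 11) [(2, 4), (3, 2), (5, 1)] (NotCT.Orders.m11 h) (by norm_num) (by norm_num)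
    (by norm_num) (by norm_num) (by decide +kernel) (by decide +kernel) (by norm_num)
    (h.elim fun e => H408.SporSelf.m11.congr e.symm)

theorem row_m12 (hna : ¬ IsMulCommutative K) (hsp : IsSporadicGroup K) (h : Spor.IsoM12 K) : AS2 K :=
  AS2.of_ls hna hsp (p := 11) [(2, 6), (3, 3), (5, 1)] (NotCT.Orders.m12 h) (by norm_num) (by norm_num)
    (by norm_num) (by norm_num) (by decide +kernel) (by decide +kernel) (by norm_num)
    (h.elim fun e => H408.SporSelf.m12.congr e.symm)

theorem row_m22 (hna : ¬ IsMulCommutative K) (hsp : IsSporadicGroup K) (h : Spor.IsoM22 K) : AS2 K :=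
  AS2.of_ls hna hsp (p := 11) [(2, 7), (3, 2), (5, 1), (7, 1)] (NotCT.Orders.m22 h) (by norm_num) (by norm_num)
    (by norm_num) (by norm_num) (by decide +kernel) (by decide +kernel) (by norm_num)
    (h.elim fun e => H408.SporSelf.m22.congr e.symm)

theorem row_m23 (hna : ¬ IsMulCommutative K) (hsp : IsSporadicGroup K) (h : Spor.IsoM23 K) : AS2 K :=
  AS2.of_ls hna hsp (p := 23) [(2, 7), (3, 2), (5, 1), (7, 1), (11, 1)] (NotCT.Orders.m23 h) (by norm_num) (by norm_num)
    (by norm_num) (by norm_num) (by decide +kernel) (by decide +kernel) (by norm_num)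
    (h.elim fun e => H408.SporSelf.m23.congr e.symm)

theorem row_m24 (hna : ¬ IsMulCommutative K) (hsp : IsSporadicGroup K) (h : Spor.IsoM24 K) : AS2 K :=
  AS2.of_ls hna hsp (p := 23) [(2, 10), (3, 3), (5, 1), (7, 1), (11, 1)] (NotCT.Orders.m24 h) (by norm_num) (by norm_num)
    (by norm_num) (by norm_num) (by decide +kernel) (by decide +kernel) (by norm_num)
    (h.elim fun e => H408.SporSelf.m24.congr e.symm)

theorem row_j1 (hna : ¬ IsMulCommutative K) (hsp : IsSporadicGroup K) (h : Spor.IsoJ1 K) : AS2 K :=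
  AS2.of_ls hna hsp (p := 19) [(2, 3), (3, 1), (5, 1), (7, 1), (11, 1)] (NotCT.Orders.j1 h) (by norm_num) (by norm_num)
    (by norm_num) (by norm_num) (by decide +kernel) (by decide +kernel) (by norm_num)
    (h.elim fun e => H408.SporSelf.j1.congr e.symm)

theorem row_j3 (hna : ¬ IsMulCommutative K) (hsp : IsSporadicGroup K) (h : Spor.IsoJ3 K) : AS2 K :=
  AS2.of_ls hna hsp (p := 19) [(2, 7), (3, 5), (5, 1), (17, 1)] (NotCT.Orders.j3 h) (by norm_num) (by norm_num)
    (by norm_num) (by norm_num) (by decide +kernel) (by decide +kernel) (by norm_num) (H408.SporSelf.j3 h)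

theorem self_j4 : Self 37 Spor.J4 := by
  have hc := NotCT.Orders.j4 (K := Spor.J4) ⟨MulEquiv.refl _⟩
  have : Finite Spor.J4 := Nat.finite_of_card_ne_zero (by rw [hc]; norm_num)
  exact Self.of_all (by norm_num) (by rw [hc]; norm_num) fun x hx => H723.Spor.JFour.cent_big (by norm_num) hx

theorem row_j4 (hna : ¬ IsMulCommutative K) (hsp : IsSporadicGroup K) (h : Spor.IsoJ4 K) : AS2 K :=
  AS2.of_ls hna hsp (p := 37) [(2, 21), (3, 3), (5, 1), (7, 1), (11, 3), (23, 1), (29, 1), (31, 1), (43, 1)]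
    (NotCT.Orders.j4 h) (by norm_num) (by norm_num)
    (by norm_num) (by norm_num) (by decide +kernel) (by decide +kernel) (by norm_num)
    (h.elim fun e => self_j4.congr e.symm)

theorem row_fi24 (hna : ¬ IsMulCommutative K) (hsp : IsSporadicGroup K) (h : Spor.IsoFi24' K) : AS2 K :=
  AS2.of_ls hna hsp (p := 29) [(2, 21), (3, 16), (5, 2), (7, 3), (11, 1), (13, 1), (17, 1), (23, 1)]
    (NotCT.Orders.fi24 h) (by norm_num) (by norm_num)
    (by norm_num) (by norm_num) (by decide +kernel) (by decide +kernel) (by norm_num)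
    (h.elim fun e => H408.SporSelf.fi24.congr e.symm)

/-- extracting the prime from `HasSU1` -/
theorem of_hasSU1 (hna : ¬ IsMulCommutative K) (hsp : IsSporadicGroup K) {N p : ℕ} (hG : Nat.card K = N)
    (hq : ∀ q : ℕ, q.Prime → 5 ≤ q → q ∣ N → ¬ q ^ 2 ∣ N → q = p) (h : HasSU1 K) (hs : Self p K) : AS2 K := by
  obtain ⟨q, y, hq1, hq5, hy, h2, hsu⟩ := h
  have h3 : q = p := hq q hq1 hq5 (by rw [← hG, ← hy]; exact orderOf_dvd_natCard y) (by rw [← hG]; exact h2)
  subst h3
  exact AS2.of_self1 hna hsp hq1 hq5 h2 hy hsu hs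

/-- a prime divisor, by a list of primes -/
theorem dvd_list {q : ℕ} (hq : q.Prime) : ∀ {L : List (ℕ × ℕ)} (_ : ∀ x ∈ L, x.1.Prime)
    (_ : q ∣ (L.map fun x => x.1 ^ x.2).prod), ∃ x ∈ L, x.1 = q := by
  intro L hL hd
  obtain ⟨a, ha, hqa⟩ := (Prime.dvd_prod_iff hq.prime).1 hd
  obtain ⟨x, hx, rfl⟩ := List.mem_map.1 ha
  exact ⟨x, hx, ((Nat.prime_dvd_prime_iff_eq hq (hL x hx)).1 (hq.dvd_of_dvd_pow hqa)).symm⟩

theorem row_j2 (hna : ¬ IsMulCommutative K) (hsp : IsSporadicGroup K) (h : Spor.IsoJ2 K) : AS2 K := by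
  have hc := NotCT.Orders.j2 h
  refine of_hasSU1 (p := 7) hna hsp hc ?_ ?_ (h.elim fun e => H408.SporSelf.j2.congr e.symm)
  · intro q hq h5 hd h2
    obtain ⟨x, hx, rfl⟩ := dvd_list hq (L := [(2, 7), (3, 3), (5, 2), (7, 1)]) (by norm_num)
      (by norm_num; exact hd)
    simp only [List.mem_cons, List.not_mem_nil, or_false] at hx
    rcases hx with rfl | rfl | rfl | rfl
    · norm_num at h5
    · norm_num at h5
    · norm_num at h2
    · rfl
  · rcases Cfsg.Agent.H465.PETable.hasSU1_sporadic hsp with h1 | h1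
    · exact h1
    · have h3 := NotCT.Orders.fi22 h1
      rw [hc] at h3
      norm_num at h3

theorem row_he (hna : ¬ IsMulCommutative K) (hsp : IsSporadicGroup K) (h : Spor.IsoHe K) : AS2 K := by
  have hc := NotCT.Orders.he h
  refine of_hasSU1 (p := 17) hna hsp hc ?_ ?_ (h.elim fun e => H408.SporSelf.he.congr e.symm)
  · intro q hq h5 hd h2
    obtain ⟨x, hx, rfl⟩ := dvd_list hq (L := [(2, 10), (3, 3), (5, 2), (7, 3), (17, 1)]) (by norm_num)
      (by norm_num; exact hd)
    simp only [List.mem_cons, List.not_mem_nil, or_false] at hx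
    rcases hx with rfl | rfl | rfl | rfl | rfl
    · norm_num at h5
    · norm_num at h5
    · norm_num at h2
    · norm_num at h2
    · rfl
  · rcases Cfsg.Agent.H465.PETable.hasSU1_sporadic hsp with h1 | h1
    · exact h1
    · have h3 := NotCT.Orders.fi22 h1
      rw [hc] at h3
      norm_num at h3

end

end Cfsg.Agent.H965.AS
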