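import Cfsg.Agent.H965.ASSporA
import Cfsg.Agent.H965.ASSporC
import Cfsg.Agent.H489.AS.TableB
import Cfsg.Agent.H489.AS.RowG2
import Cfsg.Agent.H489.AS.RowTD4
import Cfsg.Agent.H489.AS.RowSz
import Cfsg.Agent.H489.AS.RowRee
import Cfsg.Agent.H489.AS.RowTF4
import Cfsg.Agent.H489.AS.RowTits
import Cfsg.Agent.H288.AsE6
import Cfsg.Agent.H288.AsTE6
import Cfsg.Agent.H531.AS.F4
import Cfsg.Agent.H568.AS.E7
import Cfsg.Agent.H568.AS.E8
import Cfsg.Agent.H99.AS.FiB
import Cfsg.Agent.H99.AS.OThree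
import Cfsg.Agent.H99.AS.OFive
import Cfsg.Agent.H518.ASCo1
import Cfsg.Agent.H479.AS.SpFourFin
import Cfsg.Agent.H479.AS.Anti
import Cfsg.Agent.H479.AS.SpSix
import Cfsg.Agent.H490.AS.OmSevenFive
import Cfsg.Agent.H500.AS.Seven
import Cfsg.Agent.H495.AS.Small
import Cfsg.Agent.S0822

/-!
# The table for `AS2` (helper965)
-/

set_option autoImplicit false

namespace Cfsg.Agent.H965.AS

open Cfsg Cfsg.Agent

universe u

section

variable {K : Type u} [Group K] [Finite K] [IsSimpleGroup K]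

/-- **the exceptional groups of Lie type** -/
theorem as2_exceptional (hna : ¬ IsMulCommutative K) (h : IsExceptionalLieType K) : AS2 K := by
  rcases h with h | h | h | h | h | h | h | h | h | h | h
  · exact H489.AS.as2_G2 hna h
  · exact H531.ASF4.as2_F4 h
  · exact H288.AsE6.as2_E6 h
  · exact H568.AS.E7.as2 hna h
  · exact H568.AS.E8.as2 hna h
  · exact H288.AsTE6.as2_2E6 h
  · exact H489.AS.as2_3D4 hna h
  · exact H489.AS.as2_Sz hna h
  · exact H489.AS.as2_Ree hna h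
  · exact H489.AS.as2_2F4 hna h
  · exact H489.AS.as2_Tits hna h

/-- **the sporadic groups** -/
theorem as2_sporadic (AK : ∀ (S : Type u) [Group S] [Finite S] [IsSimpleGroup S], IsKnownSimple' S)
    (hna : ¬ IsMulCommutative K) (hsp : IsSporadicGroup K) : AS2 K := by
  rcases id hsp with h | h | h | h | h | h | h | h | h | h | h | h | h | h | h | h | h | h | h | h | h | h | h | h |
    h | h
  · exact row_m11 hna hsp h
  · exact row_m12 hna hsp h
  · exact row_m22 hna hsp h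
  · exact row_m23 hna hsp h
  · exact row_m24 hna hsp h
  · exact row_j1 hna hsp h
  · exact row_j2 hna hsp h
  · exact row_j3 hna hsp h
  · exact row_j4 hna hsp h
  · exact H518.ASCo1.row_co1 hna h
  · exact row_co2 hna hsp h
  · exact row_co3 hna hsp h
  · exact row_mcl hna hsp h
  · exact row_hs hna hsp h
  · exact row_suz hna hsp h
  · exact row_he hna hsp h
  · exact row_ru hna hsp h
  · exact row_on hna hsp h
  · exact row_ly AK hna h
  · exact H99.AS.row_fi22 h
  · exact row_fi23 hna hsp h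
  · exact row_fi24 hna hsp h
  · exact row_hn hna hsp h
  · exact row_th hna hsp h
  · exact row_b AK hna h
  · exact row_m AK hna h

end

/-- the row `PΩ⁺₈(q)` -/
def PomEight (q : ℕ) : Prop :=
  ∀ {F : Type} [Field F] [Fintype F], Fintype.card F = q → ∀ {K : Type u} [Group K] [Finite K] [IsSimpleGroup K],
    ¬ IsMulCommutative K → K ≃* Cfsg.POmega F (Cfsg.quadFormPlus 4 F) → AS2 K

section

variable {K : Type u} [Group K] [Finite K] [IsSimpleGroup K]

theorem na_congr {K : Type*} {L : Type*} [Group K] [Group L] (e : K ≃* L) (h : ¬ IsMulCommutative K) :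
    ¬ IsMulCommutative L := by
  rintro ⟨⟨hc⟩⟩
  exact h ⟨⟨fun a b => e.injective (by rw [map_mul, map_mul, hc])⟩⟩

/-- **the exceptions** -/
theorem as2_exceptions (hna : ¬ IsMulCommutative K) (h : H518.SU.Exceptions K) (h82 : PomEight.{u} 2) : AS2 K := by
  obtain ⟨F, _, _, h⟩ := h
  rcases h with ⟨hF, ⟨e⟩⟩ | ⟨hF, ⟨e⟩⟩ | ⟨hF, ⟨e⟩⟩ | ⟨hF, ⟨e⟩⟩ | ⟨hF, ⟨e⟩⟩ | ⟨hF, ⟨e⟩⟩ | ⟨hF, ⟨e⟩⟩ | ⟨hF, ⟨e⟩⟩ |
    ⟨hF, ⟨e⟩⟩ | ⟨hF, ⟨e⟩⟩
  · exact (H479.AS.as2_psl_six_two hF).congr e.symm
  · exact (H479.AS.as2_psl_four_three hF).congr e.symm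
  · have hs : IsSimpleGroup (Cfsg.PSp 3 F) := e.symm.isSimpleGroup
    exact (H479.AS.as2_psp_six_two hF (na_congr e hna)).congr e.symm
  · exact (H479.AS.as2_psp_four_three hF).congr e.symm
  · have h3 : Fact (Nat.Prime 3) := ⟨Nat.prime_three⟩
    obtain ⟨f⟩ := S0822.result (F := F) (K := ZMod 3) hF (ZMod.card 3)
    exact (H479.AS.as2_psp_four_three (ZMod.card 3)).congr (e.trans f).symm
  · exact H500.AS.Seven.as2_exc_oseven_three hna hF ⟨e⟩
  · exact (H490.AS.as2_odd_seven_five hF).congr e.symm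
  · exact h82 hF hna e
  · exact H99.AS.OThree.row hna hF e
  · exact H99.AS.OFive.row hna hF e

/-- **the table** -/
theorem as2_all (AK : ∀ (S : Type u) [Group S] [Finite S] [IsSimpleGroup S], IsKnownSimple' S)
    (hna : ¬ IsMulCommutative K) (h82 : PomEight.{u} 2) : AS2 K := by
  have hcl : ∀ _ : IsPSL K ∨ IsPSp K ∨ IsPSU K ∨ IsPOmegaOdd K ∨ IsPOmegaPlus K ∨ IsPOmegaMinus K, AS2 K := by
    intro h
    rcases H489.AS.as2_classical' hna h with h1 | h1
    · exact as2_exceptions hna h1 h82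
    · exact h1
  rcases AK K with h | h | h | h | h | h | h | h | h | h
  · exfalso
    have : Fact (Nat.card K).Prime := ⟨h⟩
    have := isCyclic_of_prime_card (α := K) rfl
    exact hna IsCyclic.isMulCommutative
  · exact H495.AS.row h
  · exact hcl (Or.inl h)
  · exact hcl (Or.inr (Or.inl h))
  · exact hcl (Or.inr (Or.inr (Or.inl h)))
  · exact hcl (Or.inr (Or.inr (Or.inr (Or.inl h))))
  · exact hcl (Or.inr (Or.inr (Or.inr (Or.inr (Or.inl h)))))
  · exact hcl (Or.inr (Or.inr (Or.inr (Or.inr (Or.inr h)))))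
  · exact as2_exceptional hna h
  · exact as2_sporadic AK hna h

end

end Cfsg.Agent.H965.AS
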