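import Cfsg.Agent.H437.Code
import Cfsg.Agent.H436.Ppd

/-!
# Orders of the groups of Lie type: the part prime to the characteristic and its primitive primes (helper965)

`split` : `N = q ^ expo * M` with `p ∤ M`, `dd * M = cof`;
`top`, `snd` : the two largest multiples of `f` whose primitive primes divide `N`.
-/

set_option autoImplicit false

namespace Cfsg.Agent.H965

open Cfsg.Agent.H437 Cfsg.Agent.H436 Finset

/-- the largest exponent of a primitive prime divisor (times `f`) -/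
def top : LT → ℕ
  | .A n => n
  | .U n => if Even n then 2 * (n - 1) else 2 * n
  | .C m => 2 * m
  | .P m => 2 * (m - 1)
  | .M m => 2 * m
  | .G2 => 6
  | .F4 => 12
  | .E6 => 12
  | .E7 => 18
  | .E8 => 30
  | .TE6 => 18
  | .TD4 => 12
  | .Sz => 4
  | .Ree => 6
  | .TF4 => 12

/-- the second largest exponent of a primitive prime divisor (times `f`) -/
def snd : LT → ℕ
  | .A n => n - 1
  | .U n => if Even n then max (2 * (n - 3)) n else 2 * (n - 2)
  | .C m => 2 * (m - 1)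
  | .P m => 2 * (m - 2)
  | .M m => 2 * (m - 1)
  | .G2 => 3
  | .F4 => 8
  | .E6 => 9
  | .E7 => 14
  | .E8 => 24
  | .TE6 => 12
  | .TD4 => 6
  | .Sz => 2
  | .Ree => 2
  | .TF4 => 6

/-- the relative rank -/
def kap : LT → ℕ
  | .A n => n - 1
  | .U n => n / 2
  | .C m => m
  | .P m => m
  | .M m => m - 1
  | .G2 => 2
  | .F4 => 4
  | .E6 => 6
  | .E7 => 7
  | .E8 => 8
  | .TE6 => 4
  | .TD4 => 2
  | .Sz => 1
  | .Ree => 1
  | .TF4 => 2

theorem two_mul_expo {T : LT} {p f : ℕ} (hv : T.Valid p f) : 2 * T.expo = kap T * top T := by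
  cases T with
  | A n =>
    obtain ⟨h2, -⟩ := hv
    have h := Nat.even_mul_pred_self n
    simp only [LT.expo, kap, top]
    rw [Nat.mul_div_cancel' h.two_dvd, mul_comm]
  | U n =>
    have h := Nat.even_mul_pred_self n
    simp only [LT.expo, kap, top]
    rw [Nat.mul_div_cancel' h.two_dvd]
    split_ifs with he
    · obtain ⟨k, rfl⟩ := he
      rw [show (k + k) / 2 = k by omega]; ring
    · rw [Nat.not_even_iff_odd] at he
      obtain ⟨k, rfl⟩ := he
      rw [show (2 * k + 1) / 2 = k by omega, show 2 * k + 1 - 1 = 2 * k by omega]; ring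
  | C m => simp only [LT.expo, kap, top]; ring
  | P m => simp only [LT.expo, kap, top]; ring
  | M m => simp only [LT.expo, kap, top]; ring
  | _ => rfl

theorem not_dvd_sub_one {p a : ℕ} (hp : p.Prime) (ha : a ≠ 0) (k : ℕ) (h : k = p ^ a) : ¬ p ∣ k - 1 := by
  intro hd
  have h1 : p ∣ k := h ▸ dvd_pow_self p ha
  have h2 : 1 ≤ k := h ▸ Nat.one_le_pow _ _ hp.pos
  have h3 : p ∣ k - (k - 1) := Nat.dvd_sub h1 hd
  rw [show k - (k - 1) = 1 by omega] at h3
  exact hp.one_lt.ne' (Nat.dvd_one.1 h3)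

theorem not_dvd_add_one {p a : ℕ} (hp : p.Prime) (ha : a ≠ 0) (k : ℕ) (h : k = p ^ a) : ¬ p ∣ k + 1 := by
  intro hd
  have h1 : p ∣ k := h ▸ dvd_pow_self p ha
  exact hp.one_lt.ne' (Nat.dvd_one.1 ((Nat.dvd_add_right h1).1 hd))

theorem ndm {p f : ℕ} (hp : p.Prime) (hf : f ≠ 0) {k : ℕ} (hk : k ≠ 0) : ¬ p ∣ (p ^ f) ^ k - 1 :=
  not_dvd_sub_one hp (Nat.mul_ne_zero hf hk) _ (pow_mul p f k).symm

theorem ndp {p f : ℕ} (hp : p.Prime) (hf : f ≠ 0) {k : ℕ} (hk : k ≠ 0) : ¬ p ∣ (p ^ f) ^ k + 1 :=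
  not_dvd_add_one hp (Nat.mul_ne_zero hf hk) _ (pow_mul p f k).symm

theorem nd1 {p f : ℕ} (hp : p.Prime) (hf : f ≠ 0) : ¬ p ∣ p ^ f - 1 :=
  not_dvd_sub_one hp hf _ rfl

theorem nd_mul {p a b : ℕ} (hp : p.Prime) (ha : ¬ p ∣ a) (hb : ¬ p ∣ b) : ¬ p ∣ a * b :=
  fun h => (hp.dvd_mul.1 h).elim ha hb

theorem nd_prodC {p f : ℕ} (hp : p.Prime) (hf : f ≠ 0) (m : ℕ) :
    ¬ p ∣ ∏ i ∈ range m, ((p ^ f) ^ (2 * (i + 1)) - 1) := by
  rw [hp.prime.dvd_finsetProd_iff]
  rintro ⟨i, -, hi⟩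
  exact ndm hp hf (by omega) hi

/-- the characteristic does not divide the cofactor -/
theorem nd_cof {p f : ℕ} (hp : p.Prime) (hf : f ≠ 0) {T : LT} (hv : T.Valid p f) : ¬ p ∣ T.cof (p ^ f) := by
  have m {k : ℕ} (hk : k ≠ 0) := ndm hp hf hk
  have a {k : ℕ} (hk : k ≠ 0) := ndp hp hf hk
  cases T with
  | A n =>
    simp only [LT.cof]
    rw [hp.prime.dvd_finsetProd_iff]
    rintro ⟨i, -, hi⟩
    exact m (by omega) hi
  | U n =>
    simp only [LT.cof]
    rw [hp.prime.dvd_finsetProd_iff]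
    rintro ⟨i, -, hi⟩
    split_ifs at hi
    · exact m (by omega) hi
    · exact a (by omega) hi
  | C n => exact nd_prodC hp hf n
  | P n => 
    have : 4 ≤ n := hv
    exact nd_mul hp (m (by omega)) (nd_prodC hp hf _)
  | M n =>
    have : 4 ≤ n := hv
    exact nd_mul hp (a (by omega)) (nd_prodC hp hf _)
  | G2 => exact nd_mul hp (m (by omega)) (m (by omega))
  | F4 => exact nd_mul hp (nd_mul hp (nd_mul hp (m (by omega)) (m (by omega))) (m (by omega))) (m (by omega))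
  | E6 =>
    exact nd_mul hp (nd_mul hp (nd_mul hp (nd_mul hp (nd_mul hp (m (by omega)) (m (by omega))) (m (by omega)))
      (m (by omega))) (m (by omega))) (m (by omega))
  | E7 =>
    exact nd_mul hp (nd_mul hp (nd_mul hp (nd_mul hp (nd_mul hp (nd_mul hp (m (by omega)) (m (by omega))) (m (by omega)))
      (m (by omega))) (m (by omega))) (m (by omega))) (m (by omega))
  | E8 =>
    exact nd_mul hp (nd_mul hp (nd_mul hp (nd_mul hp (nd_mul hp (nd_mul hp (nd_mul hp (m (by omega)) (m (by omega)))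
      (m (by omega))) (m (by omega))) (m (by omega))) (m (by omega))) (m (by omega))) (m (by omega))
  | TE6 =>
    exact nd_mul hp (nd_mul hp (nd_mul hp (nd_mul hp (nd_mul hp (m (by omega)) (a (by omega))) (m (by omega)))
      (m (by omega))) (a (by omega))) (m (by omega))
  | TD4 =>
    refine nd_mul hp (nd_mul hp (m (by omega)) (m (by omega))) ?_
    intro hd
    have h1 : p ∣ (p ^ f) ^ 8 + (p ^ f) ^ 4 :=
      dvd_add (dvd_pow (dvd_pow_self p hf) (by omega)) (dvd_pow (dvd_pow_self p hf) (by omega))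
    exact hp.one_lt.ne' (Nat.dvd_one.1 ((Nat.dvd_add_right h1).1 hd))
  | Sz => exact nd_mul hp (nd1 hp hf) (a (by omega))
  | Ree => exact nd_mul hp (nd1 hp hf) (a (by omega))
  | TF4 => exact nd_mul hp (nd_mul hp (nd_mul hp (nd1 hp hf) (a (by omega))) (m (by omega))) (a (by omega))

theorem nd_gcd {p a b : ℕ} (hb : ¬ p ∣ b) : ¬ p ∣ Nat.gcd a b := fun h => hb (h.trans (Nat.gcd_dvd_right a b))

/-- the characteristic does not divide `dd` -/
theorem nd_dd {p f : ℕ} (hp : p.Prime) (hf : f ≠ 0) {T : LT} (hv : T.Valid p f) : ¬ p ∣ T.dd (p ^ f) := by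
  have h1 := nd1 hp hf
  have h2 : ¬ p ∣ p ^ f + 1 := not_dvd_add_one hp hf _ rfl
  have h0 : ¬ p ∣ 1 := fun h => hp.one_lt.ne' (Nat.dvd_one.1 h)
  cases T with
  | A n => exact nd_gcd h1
  | U n => exact nd_gcd h2
  | C n => exact nd_gcd h1
  | P n =>
    have : 4 ≤ n := hv
    exact nd_gcd (ndm hp hf (by omega))
  | M n =>
    have : 4 ≤ n := hv
    exact nd_gcd (ndp hp hf (by omega))
  | G2 => exact h0
  | F4 => exact h0
  | E6 => exact nd_gcd h1
  | E7 => exact nd_gcd h1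
  | E8 => exact h0
  | TE6 => exact nd_gcd h2
  | TD4 => exact h0
  | Sz => exact h0
  | Ree => exact h0
  | TF4 => exact h0

/-- `N = q ^ expo * M`, `p ∤ M`, `dd * M = cof` -/
theorem split {T : LT} {p f N : ℕ} (h : IsOrd T p f N) :
    ∃ M, N = (p ^ f) ^ T.expo * M ∧ ¬ p ∣ M ∧ T.dd (p ^ f) * M = T.cof (p ^ f) := by
  have hdd := nd_dd h.prime h.f_ne h.valid
  have hco := nd_cof h.prime h.f_ne h.valid
  have hc : Nat.Coprime ((p ^ f) ^ T.expo) (T.dd (p ^ f)) :=
    Nat.Coprime.pow_left _ (Nat.Coprime.pow_left _ ((Nat.Prime.coprime_iff_not_dvd h.prime).2 hdd))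
  have h1 : (p ^ f) ^ T.expo ∣ T.dd (p ^ f) * N := ⟨_, h.eq⟩
  obtain ⟨M, rfl⟩ := hc.dvd_of_dvd_mul_left h1
  refine ⟨M, rfl, ?_, ?_⟩
  · intro hd
    apply hco
    have h2 := h.eq
    rw [mul_left_comm] at h2
    have h3 := Nat.eq_of_mul_eq_mul_left (show 0 < (p ^ f) ^ T.expo from pow_pos (pow_pos h.prime.pos _) _) h2
    rw [← h3]
    exact hd.mul_left _
  · have h2 := h.eq
    rw [mul_left_comm] at h2
    exact Nat.eq_of_mul_eq_mul_left (show 0 < (p ^ f) ^ T.expo from pow_pos (pow_pos h.prime.pos _) _) h2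

/-- same characteristic: the exponents and the cofactors agree -/
theorem same_parts {T T' : LT} {p f f' N : ℕ} (h : IsOrd T p f N) (h' : IsOrd T' p f' N) :
    f * T.expo = f' * T'.expo ∧ T'.dd (p ^ f') * T.cof (p ^ f) = T.dd (p ^ f) * T'.cof (p ^ f') := by
  obtain ⟨M, h1, h2, h3⟩ := split h
  obtain ⟨M', h1', h2', h3'⟩ := split h'
  have h4 : p ^ (f * T.expo) * M = p ^ (f' * T'.expo) * M' := by
    rw [pow_mul, pow_mul, ← h1, ← h1']
  have h5 : f * T.expo = f' * T'.expo := by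
    have key : ∀ {a b M M' : ℕ}, p ^ a * M = p ^ b * M' → ¬ p ∣ M → a ≤ b → a = b := by
      intro a b M M' he hM hab
      obtain ⟨c, rfl⟩ := Nat.exists_eq_add_of_le hab
      rw [pow_add, mul_assoc] at he
      have he' := Nat.eq_of_mul_eq_mul_left (pow_pos h.prime.pos a) he
      rcases Nat.eq_zero_or_pos c with rfl | hc
      · rfl
      · exfalso
        apply hM
        rw [he']
        exact (dvd_pow_self p hc.ne').mul_right _
    rcases le_total (f * T.expo) (f' * T'.expo) with hle | hle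
    · exact key h4 h2 hle
    · exact (key h4.symm h2' hle).symm
  refine ⟨h5, ?_⟩
  rw [h5] at h4
  have h6 : M = M' := Nat.eq_of_mul_eq_mul_left (pow_pos h.prime.pos _) h4
  rw [← h3, ← h3', h6]
  ring

end Cfsg.Agent.H965
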