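import Cfsg.Agent.H965.ArtA

/-!
# Orders of the groups of Lie type: primitive primes dividing the order (helper965)

* `up` : if a primitive prime of `p ^ m - 1` divides `N`, then `m = top * f` or `m ≤ snd * f`;
* `down_top`, `down_snd` : primitive primes of `p ^ (top * f) - 1` and `p ^ (snd * f) - 1` divide `N`.
-/

set_option autoImplicit false

namespace Cfsg.Agent.H965

open Cfsg.Agent.H437 Cfsg.Agent.H436 Finset

variable {p f m r : ℕ}

theorem dvd_subf (h : Prim p m r) (a : ℕ) : r ∣ (p ^ f) ^ a - 1 ↔ m ∣ a * f := by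
  rw [← pow_mul, h.dvd_iff, mul_comm]

theorem dvd_sub1 (h : Prim p m r) : r ∣ p ^ f - 1 ↔ m ∣ f := h.dvd_iff f

theorem sub_cases (h : Prim p m r) {a : ℕ} (ha : a ≠ 0) (hf : f ≠ 0) (hd : r ∣ (p ^ f) ^ a - 1) :
    m = a * f ∨ 2 * m ≤ a * f := by
  obtain ⟨k, hk⟩ := (dvd_subf h a).1 hd
  have : 0 < a * f := Nat.mul_pos (by omega) (by omega)
  match k, hk with
  | 0, hk => omega
  | 1, hk => left; omega
  | k + 2, hk => right; rw [hk]; nlinarith

theorem add_iff (h : Prim p m r) (hm : 3 ≤ m) (a : ℕ) : r ∣ (p ^ f) ^ a + 1 ↔ m ∣ 2 * (a * f) ∧ ¬ m ∣ a * f := by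
  have h1 : (p ^ f) ^ a = p ^ (a * f) := by rw [← pow_mul, mul_comm]
  rw [h1]
  constructor
  · intro hd
    refine ⟨?_, fun hh => ?_⟩
    · by_contra hc
      exact h.not_dvd_add hc hd
    · have h2 := h.dvd hh
      have h3 : r ∣ (p ^ (a * f) + 1) - (p ^ (a * f) - 1) := Nat.dvd_sub hd h2
      have h4 : 1 ≤ p ^ (a * f) := Nat.one_le_iff_ne_zero.2 fun h0 => by
        rw [h0] at hd
        exact h.prime.one_lt.ne' (Nat.dvd_one.1 (by simpa using hd))
      rw [show (p ^ (a * f) + 1) - (p ^ (a * f) - 1) = 2 by omega] at h3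
      have h5 := h.odd (by omega)
      have h6 := (Nat.prime_dvd_prime_iff_eq h.prime Nat.prime_two).1 h3
      omega
  · rintro ⟨h2, h3⟩
    exact h.dvd_add h2 h3

theorem add_cases (h : Prim p m r) (hm : 3 ≤ m) {a : ℕ} (ha : a ≠ 0) (hf : f ≠ 0) (hd : r ∣ (p ^ f) ^ a + 1) :
    m = 2 * a * f ∨ 3 * m ≤ 2 * a * f := by
  obtain ⟨⟨k, hk⟩, h2⟩ := (add_iff h hm a).1 hd
  have : 0 < a * f := Nat.mul_pos (by omega) (by omega)
  have e : 2 * a * f = 2 * (a * f) := by ring
  match k, hk with
  | 0, hk => omega
  | 1, hk => left; omega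
  | 2, hk => exact absurd ⟨1, by omega⟩ h2
  | k + 3, hk => right; rw [e, hk]; nlinarith

theorem add_top (h : Prim p m r) (hm : 3 ≤ m) {a : ℕ} (ha : a ≠ 0) (hf : f ≠ 0) (he : m = 2 * a * f) :
    r ∣ (p ^ f) ^ a + 1 := by
  rw [add_iff h hm]
  have : 0 < a * f := Nat.mul_pos (by omega) (by omega)
  have e : 2 * a * f = 2 * (a * f) := by ring
  refine ⟨⟨1, by rw [he, e]; ring⟩, fun hd => ?_⟩
  have := Nat.le_of_dvd this hd
  omega

theorem lt_prime (h : Prim p m r) : m < r := by
  -- the order of `p` modulo `r` divides `r - 1`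
  have h1 : r ∣ p ^ (r - 1) - 1 := by
    have hc : Nat.Coprime p r := ((Nat.Prime.coprime_iff_not_dvd h.prime).2 h.not_dvd).symm
    have := Nat.ModEq.pow_totient hc
    rw [Nat.totient_prime h.prime] at this
    exact (Nat.modEq_iff_dvd' (Nat.one_le_iff_ne_zero.2 (by
      intro h0
      have : p = 0 := by
        by_contra hp
        exact (pow_ne_zero _ hp) h0
      exact h.not_dvd (this ▸ dvd_zero r)))).1 this.symm
  have h2 := Nat.le_of_dvd (by have := h.prime.two_le; omega) ((h.dvd_iff _).1 h1)
  have := h.prime.two_le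
  omega

/-- small numbers are prime to a primitive prime -/
theorem not_dvd_small (h : Prim p m r) (hm : 3 ≤ m) {k : ℕ} (hk : k ≠ 0) (hk4 : k ≤ 4) : ¬ r ∣ k := by
  intro hd
  have h1 := Nat.le_of_dvd (by omega) hd
  have h2 := lt_prime h
  have : r = 4 := by omega
  have := h.prime
  subst_vars
  exact absurd this (by decide)

theorem le_dd (h : Prim p m r) (hm : 3 ≤ m) (hf : f ≠ 0) {T : LT} (hd : r ∣ T.dd (p ^ f)) :
    (∃ n, T = .A n ∧ m ≤ f) ∨ (∃ n, T = .U n ∧ m ≤ 2 * f) := by
  have s {k j : ℕ} (hk : k ≠ 0) (hk4 : k ≤ 4) (hj : r ∣ Nat.gcd k j) : False :=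
    not_dvd_small h hm hk hk4 (hj.trans (Nat.gcd_dvd_left _ _))
  have s1 (hj : r ∣ 1) : False := not_dvd_small h hm one_ne_zero (by norm_num) hj
  cases T with
  | A n =>
    left
    refine ⟨n, rfl, ?_⟩
    have h1 : r ∣ p ^ f - 1 := hd.trans (Nat.gcd_dvd_right _ _)
    exact Nat.le_of_dvd (by omega) ((dvd_sub1 h).1 h1)
  | U n =>
    right
    refine ⟨n, rfl, ?_⟩
    have h1 : r ∣ (p ^ f) ^ 1 + 1 := by rw [pow_one]; exact hd.trans (Nat.gcd_dvd_right _ _)
    rcases add_cases h hm one_ne_zero hf h1 with h2 | h2 <;> omega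
  | C n => exact (s (by norm_num) (by norm_num) hd).elim
  | P n => exact (s (by norm_num) (by norm_num) hd).elim
  | M n => exact (s (by norm_num) (by norm_num) hd).elim
  | G2 => exact (s1 hd).elim
  | F4 => exact (s1 hd).elim
  | E6 => exact (s (by norm_num) (by norm_num) hd).elim
  | E7 => exact (s (by norm_num) (by norm_num) hd).elim
  | E8 => exact (s1 hd).elim
  | TE6 => exact (s (by norm_num) (by norm_num) hd).elim
  | TD4 => exact (s1 hd).elim
  | Sz => exact (s1 hd).elim
  | Ree => exact (s1 hd).elim
  | TF4 => exact (s1 hd).elim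

theorem mulle {k s : ℕ} (f : ℕ) (h : k ≤ s) : k * f ≤ s * f := Nat.mul_le_mul_right f h

/-- conclusion form -/
def UpC (T : LT) (f m : ℕ) : Prop := m = top T * f ∨ m ≤ snd T * f

theorem up_sub (h : Prim p m r) {T : LT} {a : ℕ} (ha : a ≠ 0) (hf : f ≠ 0) (hd : r ∣ (p ^ f) ^ a - 1)
    (h1 : a = top T ∨ a ≤ snd T) (h2 : a ≤ 2 * snd T) : UpC T f m := by
  rcases sub_cases h ha hf hd with h3 | h3
  · rcases h1 with h1 | h1
    · left; rw [h3, h1]
    · right; rw [h3]; exact mulle f h1
  · right
    have := mulle f h2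
    rw [mul_assoc] at this
    omega

theorem up_add (h : Prim p m r) (hm : 3 ≤ m) {T : LT} {a : ℕ} (ha : a ≠ 0) (hf : f ≠ 0) (hd : r ∣ (p ^ f) ^ a + 1)
    (h1 : 2 * a = top T ∨ 2 * a ≤ snd T) (h2 : 2 * a ≤ 3 * snd T) : UpC T f m := by
  rcases add_cases h hm ha hf hd with h3 | h3
  · rcases h1 with h1 | h1
    · left; rw [h3, h1]
    · right; rw [h3]; exact mulle f h1
  · right
    have := mulle f h2
    rw [mul_assoc 3] at this
    omega

theorem up_prodC (h : Prim p m r) {T : LT} {n : ℕ} (hf : f ≠ 0)
    (hd : r ∣ ∏ i ∈ range n, ((p ^ f) ^ (2 * (i + 1)) - 1))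
    (h1 : ∀ i, i < n → 2 * (i + 1) = top T ∨ 2 * (i + 1) ≤ snd T) (h2 : 2 * n ≤ 2 * snd T) : UpC T f m := by
  rw [h.prime.prime.dvd_finsetProd_iff] at hd
  obtain ⟨i, hi, hi'⟩ := hd
  rw [mem_range] at hi
  exact up_sub h (by omega) hf hi' (h1 i hi) (by omega)

theorem up_cof (h : Prim p m r) (hm : 3 ≤ m) (hf : f ≠ 0) {T : LT} (hv : T.Valid p f) (hd : r ∣ T.cof (p ^ f)) :
    UpC T f m := by
  have dm {a b : ℕ} (hab : r ∣ a * b) : r ∣ a ∨ r ∣ b := h.prime.dvd_mul.1 hab
  have s1 (hj : r ∣ p ^ f - 1) (T : LT) (hs : 1 ≤ snd T) : UpC T f m := by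
    right
    have h1 := Nat.le_of_dvd (by omega) ((dvd_sub1 h).1 hj)
    have := mulle f hs
    omega
  cases T with
  | A n =>
    have hn := hv.1
    simp only [LT.cof] at hd
    rw [h.prime.prime.dvd_finsetProd_iff] at hd
    obtain ⟨i, hi, hi'⟩ := hd
    rw [mem_range] at hi
    exact up_sub h (by omega) hf hi' (by simp only [top, snd]; omega) (by simp only [snd]; omega)
  | U n =>
    have hn := hv.1
    simp only [LT.cof] at hd
    rw [h.prime.prime.dvd_finsetProd_iff] at hd
    obtain ⟨i, hi, hi'⟩ := hd
    rw [mem_range] at hi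
    split_ifs at hi' with he
    · refine up_sub h (by omega) hf hi' ?_ ?_ <;> simp only [top, snd] <;> rw [Nat.even_iff] at he <;>
        split_ifs with hne <;> rw [Nat.even_iff] at hne <;> omega
    · refine up_add h hm (by omega) hf hi' ?_ ?_ <;> simp only [top, snd] <;> rw [Nat.even_iff] at he <;>
        split_ifs with hne <;> rw [Nat.even_iff] at hne <;> omega
  | C n =>
    have hn := hv.1
    exact up_prodC h hf hd (fun i hi => by simp only [top, snd]; omega) (by simp only [snd]; omega)
  | P n =>
    have hn : 4 ≤ n := hv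
    rcases dm hd with hd | hd
    · exact up_sub h (by omega) hf hd (by simp only [top, snd]; omega) (by simp only [snd]; omega)
    · exact up_prodC h hf hd (fun i hi => by simp only [top, snd]; omega) (by simp only [snd]; omega)
  | M n =>
    have hn : 4 ≤ n := hv
    rcases dm hd with hd | hd
    · exact up_add h hm (by omega) hf hd (.inl rfl) (by simp only [snd]; omega)
    · exact up_prodC h hf hd (fun i hi => by simp only [top, snd]; omega) (by simp only [snd]; omega)
  | G2 =>
    rcases dm hd with hd | hd <;> exact up_sub h (by omega) hf hd (by decide) (by decide)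
  | F4 =>
    rcases dm hd with hd | hd
    · rcases dm hd with hd | hd
      · rcases dm hd with hd | hd <;> exact up_sub h (by omega) hf hd (by decide) (by decide)
      · exact up_sub h (by omega) hf hd (by decide) (by decide)
    · exact up_sub h (by omega) hf hd (by decide) (by decide)
  | E6 =>
    rcases dm hd with hd | hd
    · rcases dm hd with hd | hd
      · rcases dm hd with hd | hd
        · rcases dm hd with hd | hd
          · rcases dm hd with hd | hd <;> exact up_sub h (by omega) hf hd (by decide) (by decide)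
          · exact up_sub h (by omega) hf hd (by decide) (by decide)
        · exact up_sub h (by omega) hf hd (by decide) (by decide)
      · exact up_sub h (by omega) hf hd (by decide) (by decide)
    · exact up_sub h (by omega) hf hd (by decide) (by decide)
  | E7 =>
    rcases dm hd with hd | hd
    · rcases dm hd with hd | hd
      · rcases dm hd with hd | hd
        · rcases dm hd with hd | hd
          · rcases dm hd with hd | hd
            · rcases dm hd with hd | hd <;> exact up_sub h (by omega) hf hd (by decide) (by decide)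
            · exact up_sub h (by omega) hf hd (by decide) (by decide)
          · exact up_sub h (by omega) hf hd (by decide) (by decide)
        · exact up_sub h (by omega) hf hd (by decide) (by decide)
      · exact up_sub h (by omega) hf hd (by decide) (by decide)
    · exact up_sub h (by omega) hf hd (by decide) (by decide)
  | E8 =>
    rcases dm hd with hd | hd
    · rcases dm hd with hd | hd
      · rcases dm hd with hd | hd
        · rcases dm hd with hd | hd
          · rcases dm hd with hd | hd
            · rcases dm hd with hd | hd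
              · rcases dm hd with hd | hd <;> exact up_sub h (by omega) hf hd (by decide) (by decide)
              · exact up_sub h (by omega) hf hd (by decide) (by decide)
            · exact up_sub h (by omega) hf hd (by decide) (by decide)
          · exact up_sub h (by omega) hf hd (by decide) (by decide)
        · exact up_sub h (by omega) hf hd (by decide) (by decide)
      · exact up_sub h (by omega) hf hd (by decide) (by decide)
    · exact up_sub h (by omega) hf hd (by decide) (by decide)
  | TE6 =>
    rcases dm hd with hd | hd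
    · rcases dm hd with hd | hd
      · rcases dm hd with hd | hd
        · rcases dm hd with hd | hd
          · rcases dm hd with hd | hd
            · exact up_sub h (by omega) hf hd (by decide) (by decide)
            · exact up_add h hm (by omega) hf hd (by decide) (by decide)
          · exact up_sub h (by omega) hf hd (by decide) (by decide)
        · exact up_sub h (by omega) hf hd (by decide) (by decide)
      · exact up_add h hm (by omega) hf hd (by decide) (by decide)
    · exact up_sub h (by omega) hf hd (by decide) (by decide)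
  | TD4 =>
    rcases dm hd with hd | hd
    · rcases dm hd with hd | hd <;> exact up_sub h (by omega) hf hd (by decide) (by decide)
    · have h1 : r ∣ (p ^ f) ^ 12 - 1 := by
        have : (p ^ f) ^ 12 - 1 = ((p ^ f) ^ 4 - 1) * ((p ^ f) ^ 8 + (p ^ f) ^ 4 + 1) := by
          obtain ⟨k, hk⟩ : ∃ k, (p ^ f) ^ 4 = k + 1 :=
            ⟨(p ^ f) ^ 4 - 1, by have := Nat.one_le_iff_ne_zero.2 (show (p ^ f) ^ 4 ≠ 0 from fun h0 => by
              have hp0 : p ^ f = 0 := by simpa using h0
              have : p = 0 := by
                by_contra hp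
                exact (pow_ne_zero _ hp) hp0
              exact h.not_dvd (this ▸ dvd_zero r)); omega⟩
          rw [show 12 = 4 * 3 by norm_num, show 8 = 4 * 2 by norm_num, pow_mul, pow_mul, hk, Nat.add_sub_cancel]
          have : (k + 1) ^ 3 = k * ((k + 1) ^ 2 + (k + 1) + 1) + 1 := by ring
          omega
        rw [this]
        exact hd.mul_left _
      exact up_sub h (by omega) hf h1 (by decide) (by decide)
  | Sz =>
    rcases dm hd with hd | hd
    · exact s1 hd _ (by decide)
    · exact up_add h hm (by omega) hf hd (by decide) (by decide)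
  | Ree =>
    rcases dm hd with hd | hd
    · exact s1 hd _ (by decide)
    · exact up_add h hm (by omega) hf hd (by decide) (by decide)
  | TF4 =>
    rcases dm hd with hd | hd
    · rcases dm hd with hd | hd
      · rcases dm hd with hd | hd
        · exact s1 hd _ (by decide)
        · exact up_add h hm (by omega) hf hd (by decide) (by decide)
      · exact up_sub h (by omega) hf hd (by decide) (by decide)
    · exact up_add h hm (by omega) hf hd (by decide) (by decide)

/-- **a primitive prime of `p ^ m - 1` dividing `N` has `m = top * f` or `m ≤ snd * f`** -/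
theorem up {T : LT} {N : ℕ} (hN : IsOrd T p f N) (h : Prim p m r) (hm : 3 ≤ m) (hd : r ∣ N) : UpC T f m := by
  apply up_cof h hm hN.f_ne hN.valid
  have h1 : r ∣ T.dd (p ^ f) * N := hd.mul_left _
  rw [hN.eq] at h1
  exact (h.prime.dvd_mul.1 h1).resolve_left fun h2 => h.not_dvd_pow f (h.prime.dvd_of_dvd_pow h2)

theorem of_cof {T : LT} {N : ℕ} (hN : IsOrd T p f N) (h : Prim p m r) (hm : 3 ≤ m)
    (hA : ∀ n, T = .A n → f < m) (hU : ∀ n, T = .U n → 2 * f < m) (hd : r ∣ T.cof (p ^ f)) : r ∣ N := by
  have h1 : r ∣ T.dd (p ^ f) * N := by rw [hN.eq]; exact hd.mul_left _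
  rcases h.prime.dvd_mul.1 h1 with h2 | h2
  · exfalso
    rcases le_dd h hm hN.f_ne h2 with ⟨n, h3, h4⟩ | ⟨n, h3, h4⟩
    · have := hA n h3; omega
    · have := hU n h3; omega
  · exact h2

theorem d_prodC (h : Prim p m r) {n i : ℕ} (hi : i < n) (hm : m ∣ 2 * (i + 1) * f) :
    r ∣ ∏ i ∈ range n, ((p ^ f) ^ (2 * (i + 1)) - 1) :=
  ((dvd_subf h _).2 hm).trans (dvd_prod_of_mem _ (mem_range.2 hi))

/-- the primitive primes of `p ^ (top * f) - 1` divide `N` -/
theorem down_top {T : LT} {N : ℕ} (hN : IsOrd T p f N) (h : Prim p (top T * f) r) (hm : 3 ≤ top T * f) : r ∣ N := by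
  have hf := hN.f_ne
  have hv := hN.valid
  have hf1 : 1 ≤ f := by omega
  apply of_cof hN h hm
  · rintro n rfl
    have := hv.1
    simp only [top]
    nlinarith
  · rintro n rfl
    have := hv.1
    simp only [top]
    split_ifs with hne
    · rw [Nat.even_iff] at hne
      nlinarith [Nat.mul_le_mul_right f (show 3 ≤ 2 * (n - 1) by omega)]
    · nlinarith
  have s {a : ℕ} (ha : a * f = top T * f) : r ∣ (p ^ f) ^ a - 1 := (dvd_subf h a).2 (ha ▸ dvd_rfl)
  cases T with
  | A n =>
    have hn := hv.1
    simp only [LT.cof]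
    refine (s (a := (n - 2) + 2) ?_).trans (dvd_prod_of_mem (fun i => (p ^ f) ^ (i + 2) - 1) (mem_range.2 (by omega)))
    simp only [top]
    congr 1; omega
  | U n =>
    have hn := hv.1
    simp only [LT.cof]
    by_cases hne : Even n
    · rw [Nat.even_iff] at hne
      have h1 := dvd_prod_of_mem (fun i => if Even i then (p ^ f) ^ (i + 2) - 1 else (p ^ f) ^ (i + 2) + 1)
        (mem_range.2 (show n - 3 < n - 1 by omega))
      refine dvd_trans ?_ h1
      rw [if_neg (by rw [Nat.even_iff]; omega)]
      apply add_top h hm (by omega) hf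
      simp only [top]
      rw [if_pos (Nat.even_iff.2 hne)]
      congr 2; omega
    · rw [Nat.even_iff] at hne
      have h1 := dvd_prod_of_mem (fun i => if Even i then (p ^ f) ^ (i + 2) - 1 else (p ^ f) ^ (i + 2) + 1)
        (mem_range.2 (show n - 2 < n - 1 by omega))
      refine dvd_trans ?_ h1
      rw [if_neg (by rw [Nat.even_iff]; omega)]
      apply add_top h hm (by omega) hf
      simp only [top]
      rw [if_neg (by rw [Nat.even_iff]; exact hne)]
      congr 2; omega
  | C n =>
    have hn := hv.1
    refine d_prodC h (i := n - 1) (by omega) ?_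
    simp only [top]
    rw [show n - 1 + 1 = n by omega]
  | P n =>
    have hn : 4 ≤ n := hv
    refine (d_prodC h (n := n - 1) (i := n - 2) (by omega) ?_).mul_left _
    simp only [top]
    rw [show n - 2 + 1 = n - 1 by omega]
  | M n =>
    have hn : 4 ≤ n := hv
    exact (add_top h hm (by omega) hf (by simp only [top])).mul_right _
  | G2 => exact (s (a := 6) rfl).mul_left _
  | F4 => exact (s (a := 12) rfl).mul_left _
  | E6 => exact (s (a := 12) rfl).mul_left _
  | E7 => exact (s (a := 18) rfl).mul_left _
  | E8 => exact (s (a := 30) rfl).mul_left _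
  | TE6 => exact ((add_top h hm (a := 9) (by omega) hf (by simp only [top])).mul_left _).mul_right _
  | TD4 =>
    have h1 : r ∣ (p ^ f) ^ 12 - 1 := s (a := 12) rfl
    have h2 : ¬ r ∣ (p ^ f) ^ 4 - 1 := by
      rw [dvd_subf h]
      intro hd
      have := Nat.le_of_dvd (by omega) hd
      simp only [top] at this
      omega
    have h3 : (p ^ f) ^ 12 - 1 = ((p ^ f) ^ 4 - 1) * ((p ^ f) ^ 8 + (p ^ f) ^ 4 + 1) := by
      obtain ⟨k, hk⟩ : ∃ k, (p ^ f) ^ 4 = k + 1 :=
        ⟨(p ^ f) ^ 4 - 1, by have := Nat.one_le_pow 4 (p ^ f) (pow_pos hN.prime.pos f); omega⟩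
      rw [show 12 = 4 * 3 by norm_num, show 8 = 4 * 2 by norm_num, pow_mul, pow_mul, hk, Nat.add_sub_cancel]
      have : (k + 1) ^ 3 = k * ((k + 1) ^ 2 + (k + 1) + 1) + 1 := by ring
      omega
    rw [h3] at h1
    exact ((h.prime.dvd_mul.1 h1).resolve_left h2).mul_left _
  | Sz => exact (add_top h hm (a := 2) (by omega) hf (by simp only [top])).mul_left _
  | Ree => exact (add_top h hm (a := 3) (by omega) hf (by simp only [top])).mul_left _
  | TF4 => exact (add_top h hm (a := 6) (by omega) hf (by simp only [top])).mul_left _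

/-- the primitive primes of `p ^ (snd * f) - 1` divide `N` (relative rank at least two) -/
theorem down_snd {T : LT} {N : ℕ} (hN : IsOrd T p f N) (hk : 2 ≤ kap T) (h : Prim p (snd T * f) r)
    (hm : 3 ≤ snd T * f) : r ∣ N := by
  have hf := hN.f_ne
  have hv := hN.valid
  have hf1 : 1 ≤ f := by omega
  apply of_cof hN h hm
  · rintro n rfl
    simp only [snd, kap] at hk ⊢
    nlinarith
  · rintro n rfl
    simp only [kap] at hk
    simp only [snd]
    split_ifs with hne
    · rw [Nat.even_iff] at hne
      have : 3 ≤ max (2 * (n - 3)) n := by omega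
      nlinarith [Nat.mul_le_mul_right f this]
    · rw [Nat.even_iff] at hne
      have : 3 ≤ 2 * (n - 2) := by omega
      nlinarith [Nat.mul_le_mul_right f this]
  have s {a : ℕ} (ha : snd T * f ∣ a * f) : r ∣ (p ^ f) ^ a - 1 := (dvd_subf h a).2 ha
  cases T with
  | A n =>
    simp only [kap] at hk
    simp only [LT.cof]
    refine (s (a := (n - 3) + 2) ?_).trans (dvd_prod_of_mem (fun i => (p ^ f) ^ (i + 2) - 1) (mem_range.2 (by omega)))
    simp only [snd]
    rw [show n - 3 + 2 = n - 1 by omega]
  | U n =>
    have hn := hv.1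
    simp only [kap] at hk
    simp only [LT.cof]
    by_cases hne : Even n
    · rw [Nat.even_iff] at hne
      rcases Nat.lt_or_ge n 6 with h6 | h6
      · have h4 : n = 4 := by omega
        subst h4
        have h1 := dvd_prod_of_mem (fun i => if Even i then (p ^ f) ^ (i + 2) - 1 else (p ^ f) ^ (i + 2) + 1)
          (mem_range.2 (show 2 < 4 - 1 by omega))
        refine dvd_trans ?_ h1
        rw [if_pos (by decide)]
        exact s (a := 4) (by rw [show snd (.U 4) = 4 by decide])
      · have h1 := dvd_prod_of_mem (fun i => if Even i then (p ^ f) ^ (i + 2) - 1 else (p ^ f) ^ (i + 2) + 1)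
          (mem_range.2 (show n - 5 < n - 1 by omega))
        refine dvd_trans ?_ h1
        rw [if_neg (by rw [Nat.even_iff]; omega)]
        apply add_top h hm (by omega) hf
        simp only [snd]
        rw [if_pos (Nat.even_iff.2 hne), max_eq_left (by omega)]
        congr 2; omega
    · rw [Nat.even_iff] at hne
      have h1 := dvd_prod_of_mem (fun i => if Even i then (p ^ f) ^ (i + 2) - 1 else (p ^ f) ^ (i + 2) + 1)
        (mem_range.2 (show n - 4 < n - 1 by omega))
      refine dvd_trans ?_ h1
      rw [if_neg (by rw [Nat.even_iff]; omega)]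
      apply add_top h hm (by omega) hf
      simp only [snd]
      rw [if_neg (by rw [Nat.even_iff]; exact hne)]
      congr 2; omega
  | C n =>
    have hn := hv.1
    refine d_prodC h (i := n - 2) (by omega) ?_
    simp only [snd]
    rw [show n - 2 + 1 = n - 1 by omega]
  | P n =>
    have hn : 4 ≤ n := hv
    refine (d_prodC h (n := n - 1) (i := n - 3) (by omega) ?_).mul_left _
    simp only [snd]
    rw [show n - 3 + 1 = n - 2 by omega]
  | M n =>
    have hn : 4 ≤ n := hv
    refine (d_prodC h (n := n - 1) (i := n - 2) (by omega) ?_).mul_left _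
    simp only [snd]
    rw [show n - 2 + 1 = n - 1 by omega]
  | G2 => exact (s (a := 6) ⟨2, by simp only [snd]; ring⟩).mul_left _
  | F4 => exact ((s (a := 8) dvd_rfl).mul_left _).mul_right _
  | E6 => exact ((s (a := 9) dvd_rfl).mul_left _).mul_right _
  | E7 => exact ((s (a := 14) dvd_rfl).mul_left _).mul_right _
  | E8 => exact ((s (a := 24) dvd_rfl).mul_left _).mul_right _
  | TE6 => exact (s (a := 12) dvd_rfl).mul_left _
  | TD4 => exact ((s (a := 6) dvd_rfl).mul_left _).mul_right _
  | Sz => simp [kap] at hk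
  | Ree => simp [kap] at hk
  | TF4 => exact (((add_top h hm (a := 3) (by omega) hf (by simp only [snd])).mul_left _).mul_right _).mul_right _

end Cfsg.Agent.H965
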