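import Cfsg.Agent.H965.SURow

/-!
# Solvably unique elements by counting (helper965)

`y` of prime order `l` with `|C(y)| = l`: a `t`-subgroup `T ≠ 1` normalised by `y` has order `≡ 1 mod l`, and so has its
centre.
-/

set_option autoImplicit false

namespace Cfsg.Agent.H965.SU

open Subgroup Cfsg.Agent.H465.SU Cfsg.Agent.H568

variable {K : Type*} [Group K] [Finite K]

/-- no element of another prime order commutes with `y` -/
theorem cen_of_card {l t : ℕ} (hl : l.Prime) (ht : t.Prime) (htl : t ≠ l) {y : K}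
    (hc : Nat.card ↥(centralizer ({y} : Set K)) = l) (u : K) (hu : orderOf u = t) : y * u ≠ u * y := by
  intro h
  have h1 : u ∈ centralizer ({y} : Set K) := by
    rw [mem_centralizer_singleton_iff]
    exact h.symm
  have h2 := orderOf_dvd_natCard (⟨u, h1⟩ : ↥(centralizer ({y} : Set K)))
  rw [orderOf_mk, hu, hc] at h2
  exact htl ((Nat.prime_dvd_prime_iff_eq ht hl).1 h2)

theorem normal_center_map {Q : Subgroup K} {y : K} (hn : y ∈ normalizer (Q : Set K)) :
    y ∈ normalizer (((center ↥Q).map Q.subtype : Subgroup K) : Set K) := by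
  have key : ∀ g : K, g ∈ normalizer (Q : Set K) → ∀ u ∈ (center ↥Q).map Q.subtype, g * u * g⁻¹ ∈ (center ↥Q).map Q.subtype := by
    rintro g hg _ ⟨z, hz, rfl⟩
    have hgz : g * (z : K) * g⁻¹ ∈ Q := (mem_normalizer_iff.1 hg z).1 z.2
    refine ⟨⟨g * (z : K) * g⁻¹, hgz⟩, ?_, rfl⟩
    rw [SetLike.mem_coe, mem_center_iff]
    intro w
    have hw : g⁻¹ * (w : K) * g ∈ Q := by
      have := (mem_normalizer_iff.1 (inv_mem hg) (w : K)).1 w.2
      rwa [inv_inv] at this
    have h1 := mem_center_iff.1 hz ⟨_, hw⟩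
    have h2 : g⁻¹ * (w : K) * g * z = z * (g⁻¹ * (w : K) * g) := congrArg Subtype.val h1
    apply Subtype.ext
    show (w : K) * (g * z * g⁻¹) = g * z * g⁻¹ * w
    calc (w : K) * (g * z * g⁻¹) = g * (g⁻¹ * w * g * z) * g⁻¹ := by group
      _ = g * (z * (g⁻¹ * w * g)) * g⁻¹ := by rw [h2]
      _ = g * z * g⁻¹ * w := by group
  rw [mem_normalizer_iff]
  intro u
  refine ⟨key y hn u, fun h => ?_⟩
  have h1 := key y⁻¹ (inv_mem hn) _ h
  have h2 : y⁻¹ * (y * u * y⁻¹) * y⁻¹⁻¹ = u := by group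
  rwa [h2] at h1

/-- **Counting.** `y` normalises no `t`-subgroup if `t ^ k ≡ 1 mod l` only for `k = 0` or for the full power `k` of `t`,
and the Sylow `t`-subgroups are not abelian in the latter case. -/
theorem noNorm_of_num {l t : ℕ} (hl : l.Prime) (ht : t.Prime) (htl : t ≠ l) {y : K} (hy : orderOf y = l)
    (hc : Nat.card ↥(centralizer ({y} : Set K)) = l)
    (h : ∀ k, 1 ≤ k → t ^ k ∣ Nat.card K → l ∣ t ^ k - 1 →
      (∀ j, 1 ≤ j → j ≤ k → l ∣ t ^ j - 1 → j = k) ∧
        ∀ Q : Subgroup K, Nat.card ↥Q = t ^ k → y ∈ normalizer (Q : Set K) → ∃ a ∈ Q, ∃ b ∈ Q, a * b ≠ b * a) :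
    NoNorm t y := by
  have : Fact t.Prime := ⟨ht⟩
  intro Q hQ hn
  by_contra hb
  obtain ⟨k, hk⟩ := (IsPGroup.iff_card (p := t)).1 hQ
  have hk1 : 1 ≤ k := by
    rcases Nat.eq_zero_or_pos k with h0 | h0
    · exfalso
      rw [h0, pow_zero] at hk
      exact hb (Subgroup.card_eq_one.1 hk)
    · exact h0
  have h1 := dvd_card_sub_one hl hy (cen_of_card hl ht htl hc) hQ hn
  rw [hk] at h1
  obtain ⟨h2, h3⟩ := h k hk1 (hk ▸ card_subgroup_dvd_card Q) h1
  obtain ⟨a, ha, b, hb', hab⟩ := h3 Q hk hn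
  -- the centre
  have hQ1 : (center ↥Q).map Q.subtype ≤ Q := map_subtype_le _
  have hZp : IsPGroup t ↥((center ↥Q).map Q.subtype) := hQ.to_le hQ1
  have h4 := dvd_card_sub_one hl hy (cen_of_card hl ht htl hc) hZp (normal_center_map hn)
  obtain ⟨j, hj⟩ := (IsPGroup.iff_card (p := t)).1 hZp
  have hnt : Nontrivial ↥Q := (Subgroup.nontrivial_iff_ne_bot _).2 hb
  have hZn : Nontrivial ↥(center ↥Q) := hQ.center_nontrivial
  have hj1 : 1 ≤ j := by
    rcases Nat.eq_zero_or_pos j with h0 | h0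
    · exfalso
      rw [h0, pow_zero] at hj
      have h5 : Nat.card ↥(center ↥Q) = 1 := by
        rw [← hj]
        exact (Nat.card_congr (Subgroup.equivMapOfInjective _ _ Q.subtype_injective).toEquiv)
      have h6 := Subgroup.card_eq_one.1 h5
      exact (Subgroup.nontrivial_iff_ne_bot _).1 hZn h6
    · exact h0
  have hjk : j ≤ k := by
    have h5 := Subgroup.card_dvd_of_le hQ1
    rw [hj, hk] at h5
    exact (Nat.pow_dvd_pow_iff_le_right ht.one_lt).1 h5
  rw [hj] at h4
  have hjk' := h2 j hj1 hjk h4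
  have h7 : (center ↥Q).map Q.subtype = Q := eq_of_le_of_card_ge hQ1 (by rw [hj, hk, hjk'])
  apply hab
  rw [← h7] at ha
  obtain ⟨z, hz, rfl⟩ := ha
  exact (congrArg Subtype.val (mem_center_iff.1 hz ⟨b, hb'⟩)).symm

/-- Solvably unique elements of prime order with `|C(y)| = l`. -/
theorem suel_of_noNorm {l : ℕ} (hl : l.Prime) {y : K} (hy : orderOf y = l) (hl2 : ¬ l ^ 2 ∣ Nat.card K)
    (h : ∀ t : ℕ, t.Prime → t ≠ l → t ∣ Nat.card K → NoNorm t y) : SUel l y := by
  have : Fact l.Prime := ⟨hl⟩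
  refine ⟨fun h => ?_, ⟨1, by rw [hy, pow_one]⟩, fun M hM hyM A B hA hB hAc hBc => ?_⟩
  · rw [h, orderOf_one] at hy
    exact hl.one_lt.ne hy
  · refine unique_of_centralize hM le_rfl (by rw [hy, pow_one]) hyM (fun P => ?_) ?_ A B hA hB hAc hBc
    · obtain ⟨k, hk⟩ := (IsPGroup.iff_card (p := l)).1 P.isPGroup'
      have h1 : l ^ k ∣ Nat.card K := hk ▸ card_subgroup_dvd_card _
      have h2 : k ≤ 1 := by
        by_contra h3
        exact hl2 ((pow_dvd_pow l (by omega)).trans h1)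
      interval_cases k
      · have h3 : Nat.card ↥(P : Subgroup K) = 1 := by rw [hk, pow_zero]
        have := (Nat.card_eq_one_iff_unique.1 h3).1
        exact isCyclic_of_subsingleton
      · exact isCyclic_of_prime_card (p := l) (by rw [hk, pow_one])
    · intro t ht htl T _ hT hyT
      have hyN : y ∈ normalizer (T : Set K) := by
        rw [mem_normalizer_iff_map_conj_eq]
        refine eq_of_le_of_card_ge ?_ (le_of_eq (card_map_of_injective (MulAut.conj y).injective).symm)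
        rintro _ ⟨v, hv, rfl⟩
        exact hyT v hv
      have hT0 : T = ⊥ := by
        by_cases hd : t ∣ Nat.card K
        · exact h t ht htl hd T hT hyN
        · have : Fact t.Prime := ⟨ht⟩
          obtain ⟨k, hk⟩ := (IsPGroup.iff_card (p := t)).1 hT
          rcases Nat.eq_zero_or_pos k with h0 | h0
          · rw [h0, pow_zero] at hk
            exact Subgroup.card_eq_one.1 hk
          · exfalso
            exact hd ((dvd_pow_self t h0.ne').trans (hk ▸ card_subgroup_dvd_card T))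
      intro u hu
      rw [hT0, mem_bot] at hu
      rw [hu, mul_one, one_mul]

/-- nonabelian Sylow subgroups: an explicit pair -/
theorem nonab_of_pair {t k : ℕ} [Fact t.Prime] {a b : K} {Q0 : Subgroup K} (hQ0 : IsPGroup t Q0) (ha : a ∈ Q0)
    (hb : b ∈ Q0) (hab : a * b ≠ b * a) (hk : ¬ t ^ (k + 1) ∣ Nat.card K) (Q : Subgroup K)
    (hQ : Nat.card ↥Q = t ^ k) : ∃ a ∈ Q, ∃ b ∈ Q, a * b ≠ b * a := by
  have hQp : IsPGroup t Q := IsPGroup.of_card hQ
  obtain ⟨P, hP⟩ := hQp.exists_le_sylow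
  have hPQ : (P : Subgroup K) = Q := by
    refine (eq_of_le_of_card_ge hP ?_).symm
    obtain ⟨j, hj⟩ := (IsPGroup.iff_card (p := t)).1 P.isPGroup'
    have h1 : t ^ j ∣ Nat.card K := hj ▸ card_subgroup_dvd_card _
    have h2 : j ≤ k := by
      by_contra h3
      exact hk ((pow_dvd_pow t (by omega)).trans h1)
    rw [hj, hQ]
    exact Nat.pow_le_pow_right (Fact.out : t.Prime).pos h2
  obtain ⟨P0, hP0⟩ := hQ0.exists_le_sylow
  obtain ⟨g, hg⟩ := MulAction.exists_smul_eq K P0 P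
  have key : ∀ u ∈ Q0, g * u * g⁻¹ ∈ Q := by
    intro u hu
    rw [← hPQ, ← hg]
    exact ⟨u, hP0 hu, rfl⟩
  refine ⟨_, key a ha, _, key b hb, fun h => hab ?_⟩
  have h1 : g * (a * b) * g⁻¹ = g * (b * a) * g⁻¹ := by
    calc g * (a * b) * g⁻¹ = g * a * g⁻¹ * (g * b * g⁻¹) := by group
      _ = g * b * g⁻¹ * (g * a * g⁻¹) := h
      _ = g * (b * a) * g⁻¹ := by group
  exact mul_left_cancel (mul_right_cancel h1)

end Cfsg.Agent.H965.SU
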